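import Mathlib.Algebra.Category.ModuleCat.Sheaf.Abelian
import Mathlib.Algebra.Category.ModuleCat.Sheaf.Colimits
import Mathlib.Algebra.Category.ModuleCat.Presheaf.Generator
import Mathlib.Algebra.Category.Grp.FilteredColimits
import Mathlib.Algebra.Category.Grp.AB
import Mathlib.Algebra.Category.ModuleCat.FilteredColimits
import Mathlib.CategoryTheory.Abelian.GrothendieckAxioms.FunctorCategory
import Mathlib.CategoryTheory.Abelian.GrothendieckAxioms.Sheaf
import Mathlib.CategoryTheory.Abelian.GrothendieckCategory.EnoughInjectives
import Mathlib.CategoryTheory.Abelian.GrothendieckCategory.HasExt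
import Mathlib.CategoryTheory.Abelian.Injective.Resolution

/-!
# (Pre)sheaves of modules form Grothendieck abelian categories

For a small category `C`, presheaves of modules and sheaves of modules over a (pre)sheaf of rings
are Grothendieck abelian categories; the forgetful functor `SheafOfModules R ⥤ Sheaf J Ab`
commutes with small colimits.
-/

universe u v w u' v'

open CategoryTheory Limits

namespace Groth.Agent.ModGroth

section Presheaf

variable {C : Type u} [SmallCategory C] (R₀ : Cᵒᵖ ⥤ RingCat.{u})

lemma toPresheaf_reflectsIsomorphisms :
    (PresheafOfModules.toPresheaf.{u} R₀).ReflectsIsomorphisms := inferInstance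

lemma presheaf_hasExactColimitsOfShape (K : Type u) [SmallCategory K] [IsFiltered K] :
    HasExactColimitsOfShape K (PresheafOfModules.{u} R₀) :=
  have : ReflectsFiniteLimits (PresheafOfModules.toPresheaf.{u} R₀) :=
    { reflects := fun _ _ _ => inferInstance }
  HasExactColimitsOfShape.domain_of_functor K (PresheafOfModules.toPresheaf.{u} R₀)

lemma presheaf_ab5 : AB5.{u} (PresheafOfModules.{u} R₀) :=
  ⟨fun K _ _ => presheaf_hasExactColimitsOfShape R₀ K⟩

/-- A separator of the category of presheaves of modules: the coproduct of all free Yoneda
modules. -/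
noncomputable def presheafSeparator : PresheafOfModules.{u} R₀ :=
  ∐ fun X : C => (PresheafOfModules.free R₀).obj (yoneda.obj X)

lemma isSeparator_presheafSeparator : IsSeparator (presheafSeparator R₀) := by
  rw [presheafSeparator, isSeparator_sigma]
  exact PresheafOfModules.freeYoneda.isSeparating R₀

lemma presheaf_hasSeparator : HasSeparator (PresheafOfModules.{u} R₀) :=
  ⟨_, isSeparator_presheafSeparator R₀⟩

lemma presheaf_isGrothendieckAbelian : IsGrothendieckAbelian.{u} (PresheafOfModules.{u} R₀) where
  locallySmall := inferInstance
  hasFilteredColimitsOfSize := inferInstance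
  ab5OfSize := presheaf_ab5 R₀
  hasSeparator := presheaf_hasSeparator R₀

lemma presheaf_enoughInjectives : EnoughInjectives (PresheafOfModules.{u} R₀) :=
  have := presheaf_isGrothendieckAbelian R₀
  inferInstance

end Presheaf

section Sheaf

variable {C : Type u} [SmallCategory C] {J : GrothendieckTopology C} (R : Sheaf J RingCat.{u})

lemma forget_full_faithful :
    (SheafOfModules.forget.{u} R).Full ∧ (SheafOfModules.forget.{u} R).Faithful :=
  ⟨inferInstance, inferInstance⟩

lemma sheaf_hasExactColimitsOfShape (K : Type u) [SmallCategory K] [IsFiltered K] :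
    HasExactColimitsOfShape K (SheafOfModules.{u} R) :=
  have := presheaf_hasExactColimitsOfShape R.obj K
  (PresheafOfModules.sheafificationAdjunction.{u} (𝟙 R.obj)).hasExactColimitsOfShape K

lemma sheaf_ab5 : AB5.{u} (SheafOfModules.{u} R) :=
  ⟨fun K _ _ => sheaf_hasExactColimitsOfShape R K⟩

/-- A separator of the category of sheaves of modules. -/
noncomputable def sheafSeparator : SheafOfModules.{u} R :=
  (PresheafOfModules.sheafification.{u} (𝟙 R.obj)).obj (presheafSeparator R.obj)

/-- The image of a separator under a left adjoint whose right adjoint is faithful is a separator. -/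
lemma isSeparator_map {A : Type u'} [Category.{v'} A] {B : Type w} [Category.{v} B]
    {L : A ⥤ B} {G : B ⥤ A} (adj : L ⊣ G) [G.Faithful] {S : A} (hS : IsSeparator S) :
    IsSeparator (L.obj S) := by
  rw [isSeparator_def] at hS ⊢
  intro X Y f g h
  apply G.map_injective
  apply hS
  intro k
  have := h ((adj.homEquiv _ _).symm k)
  apply_fun adj.homEquiv _ _ at this
  simpa [Adjunction.homEquiv_naturality_right] using this

lemma isSeparator_sheafSeparator : IsSeparator (sheafSeparator R) :=
  isSeparator_map (PresheafOfModules.sheafificationAdjunction.{u} (𝟙 R.obj))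
    (isSeparator_presheafSeparator R.obj)

lemma sheaf_hasSeparator : HasSeparator (SheafOfModules.{u} R) :=
  ⟨_, isSeparator_sheafSeparator R⟩

/-- Sheaves of modules over a sheaf of rings on a small site form a Grothendieck abelian
category. -/
lemma sheaf_isGrothendieckAbelian : IsGrothendieckAbelian.{u} (SheafOfModules.{u} R) where
  locallySmall := inferInstance
  hasFilteredColimitsOfSize := inferInstance
  ab5OfSize := sheaf_ab5 R
  hasSeparator := sheaf_hasSeparator R

lemma sheaf_enoughInjectives : EnoughInjectives (SheafOfModules.{u} R) :=
  have := sheaf_isGrothendieckAbelian R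
  inferInstance

lemma sheaf_hasInjectiveResolutions : HasInjectiveResolutions (SheafOfModules.{u} R) :=
  have := sheaf_enoughInjectives R
  inferInstance

lemma sheaf_hasExt : HasExt.{u} (SheafOfModules.{u} R) :=
  have := sheaf_isGrothendieckAbelian R
  inferInstance

end Sheaf

section ToSheaf

variable {C : Type u} [SmallCategory C] {J : GrothendieckTopology C} (R : Sheaf J RingCat.{u})

/-- The forgetful functor to abelian sheaves commutes with small colimits. -/
lemma toSheaf_preservesColimitsOfShape (K : Type u') [Category.{v'} K]
    [HasColimitsOfShape K (PresheafOfModules.{u} R.obj)]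
    [PreservesColimitsOfShape K (PresheafOfModules.toPresheaf.{u} R.obj)] :
    PreservesColimitsOfShape K (SheafOfModules.toSheaf.{u} R) where
  preservesColimit {F} := by
    let adj := PresheafOfModules.sheafificationAdjunction.{u} (𝟙 R.obj)
    have h1 : PreservesColimitsOfShape K (CategoryTheory.presheafToSheaf J AddCommGrpCat.{u}) :=
      (CategoryTheory.sheafificationAdjunction J AddCommGrpCat.{u}).leftAdjoint_preservesColimits
        |>.preservesColimitsOfShape
    let G := PresheafOfModules.sheafification.{u} (𝟙 R.obj)
    have hG : PreservesColimitsOfShape K G :=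
      adj.leftAdjoint_preservesColimits.preservesColimitsOfShape
    let H : K ⥤ PresheafOfModules.{u} R.obj :=
      F ⋙ SheafOfModules.forget R ⋙ PresheafOfModules.restrictScalars (𝟙 R.obj)
    let e : F ≅ H ⋙ G := Functor.isoWhiskerLeft F (asIso adj.counit).symm
    have h2 : PreservesColimit H (G ⋙ SheafOfModules.toSheaf.{u} R) :=
      preservesColimit_of_natIso H (PresheafOfModules.sheafificationCompToSheaf (𝟙 R.obj)).symm
    have h3 : PreservesColimit (H ⋙ G) (SheafOfModules.toSheaf.{u} R) :=
      preservesColimit_of_preserves_colimit_cocone
        (isColimitOfPreserves G (colimit.isColimit H))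
        (isColimitOfPreserves (G ⋙ SheafOfModules.toSheaf.{u} R) (colimit.isColimit H))
    exact preservesColimit_of_iso_diagram (SheafOfModules.toSheaf.{u} R) e.symm

lemma toSheaf_preservesColimits :
    PreservesColimitsOfSize.{u, u} (SheafOfModules.toSheaf.{u} R) :=
  ⟨fun {K} _ => toSheaf_preservesColimitsOfShape R K⟩

end ToSheaf

section PresheafLarge

variable {C : Type u'} [Category.{v'} C] (R₀ : Cᵒᵖ ⥤ RingCat.{max u' v'})

lemma presheaf_hasExactColimitsOfShape' (K : Type (max u' v')) [SmallCategory K] [IsFiltered K] :
    HasExactColimitsOfShape K (PresheafOfModules.{max u' v'} R₀) :=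
  have : ReflectsFiniteLimits (PresheafOfModules.toPresheaf.{max u' v'} R₀) :=
    { reflects := fun _ _ _ => inferInstance }
  HasExactColimitsOfShape.domain_of_functor K (PresheafOfModules.toPresheaf.{max u' v'} R₀)

/-- A separator of the category of presheaves of modules on a category which is not assumed to
have small hom sets relative to the modules. -/
noncomputable def presheafSeparator' : PresheafOfModules.{max u' v'} R₀ :=
  ∐ fun X : C => (PresheafOfModules.free R₀).obj (uliftYoneda.{u'}.obj X)

lemma isSeparator_presheafSeparator' : IsSeparator (presheafSeparator' R₀) := by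
  rw [presheafSeparator', isSeparator_sigma]
  intro M N f₁ f₂ h
  ext ⟨X⟩ m
  obtain ⟨g, rfl⟩ := (PresheafOfModules.freeHomEquiv.trans
    (uliftYonedaEquiv.{u'} (X := X) (F := M.presheaf ⋙ CategoryTheory.forget _))).surjective m
  exact congr_arg (PresheafOfModules.freeHomEquiv.trans uliftYonedaEquiv) (h _ ⟨X⟩ g)

lemma presheaf_isGrothendieckAbelian' :
    IsGrothendieckAbelian.{max u' v'} (PresheafOfModules.{max u' v'} R₀) where
  locallySmall := inferInstance
  hasFilteredColimitsOfSize := inferInstance
  ab5OfSize := ⟨fun K _ _ => presheaf_hasExactColimitsOfShape' R₀ K⟩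
  hasSeparator := ⟨_, isSeparator_presheafSeparator' R₀⟩

lemma presheaf_enoughInjectives' : EnoughInjectives (PresheafOfModules.{max u' v'} R₀) :=
  have := presheaf_isGrothendieckAbelian' R₀
  inferInstance

end PresheafLarge

end Groth.Agent.ModGroth
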