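import Groth.Agent.KFlat.Derived
import Mathlib.Algebra.Homology.DerivedCategory.Basic
import Mathlib.Algebra.Homology.Localization

/-!
# Left derived functors of additive functors on derived categories from good resolutions
-/

universe v w v' w'

open CategoryTheory CategoryTheory.Limits HomologicalComplex

attribute [local instance] HasDerivedCategory.standard

namespace Groth.Agent.ModGroth.DerivedLeft

variable {A : Type w} [Category.{v} A] [Abelian A] {B : Type w'} [Category.{v'} B] [Abelian B]
  (G : A ⥤ B) [G.Additive]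

/-- The functor to be derived, on the homotopy category. -/
noncomputable abbrev Kh : HomotopyCategory A (ComplexShape.up ℤ) ⥤ DerivedCategory B :=
  G.mapHomotopyCategory (ComplexShape.up ℤ) ⋙ DerivedCategory.Qh

/-- Localisation of complexes. -/
noncomputable abbrev L₀ (A : Type w) [Category.{v} A] [Abelian A] :
    CochainComplex A ℤ ⥤ DerivedCategory A :=
  HomotopyCategory.quotient A (ComplexShape.up ℤ) ⋙ DerivedCategory.Qh

instance : (L₀ A).IsLocalization (HomologicalComplex.quasiIso A (ComplexShape.up ℤ)) :=
  Functor.IsLocalization.of_iso _ (DerivedCategory.quotientCompQhIso A).symm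

/-- The functor to be derived, on complexes. -/
noncomputable abbrev Φ : CochainComplex A ℤ ⥤ DerivedCategory B :=
  HomotopyCategory.quotient A (ComplexShape.up ℤ) ⋙ Kh G

/-- On complexes it is `G` followed by localisation. -/
noncomputable def ΦIso : Φ G ≅ G.mapHomologicalComplex (ComplexShape.up ℤ) ⋙ DerivedCategory.Q :=
  (Functor.associator _ _ _).symm ≪≫
    Functor.isoWhiskerRight (G.mapHomotopyCategoryFactors (ComplexShape.up ℤ)) DerivedCategory.Qh ≪≫
    Functor.associator _ _ _ ≪≫
      Functor.isoWhiskerLeft (G.mapHomologicalComplex (ComplexShape.up ℤ))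
        (DerivedCategory.quotientCompQhIso B)

variable (r : KFlat.FunctorialRes (HomologicalComplex.quasiIso A (ComplexShape.up ℤ)))

/-- `G` respects quasi-isomorphisms between good complexes. -/
def GoodInverts : Prop :=
  ∀ ⦃X Y : CochainComplex A ℤ⦄ (f : X ⟶ Y), r.good X → r.good Y → QuasiIso f →
    QuasiIso ((G.mapHomologicalComplex (ComplexShape.up ℤ)).map f)

variable {G r}

lemma GoodInverts.inverts (h : GoodInverts G r) : r.Inverts (Φ G) := fun X Y f hX hY hf => by
  have : QuasiIso ((G.mapHomologicalComplex (ComplexShape.up ℤ)).map f) :=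
    h f hX hY ((mem_quasiIso_iff _).1 hf)
  have : IsIso ((G.mapHomologicalComplex (ComplexShape.up ℤ) ⋙ DerivedCategory.Q).map f) :=
    inferInstanceAs (IsIso (DerivedCategory.Q.map ((G.mapHomologicalComplex (ComplexShape.up ℤ)).map f)))
  exact (NatIso.isIso_map_iff (ΦIso G) f).2 inferInstance

variable (G) in
/-- A counit along `quotient ⋙ Qh` descends to one along `Qh`. -/
noncomputable def descend {M : DerivedCategory A ⥤ DerivedCategory B} (α : L₀ A ⋙ M ⟶ Φ G) :
    DerivedCategory.Qh ⋙ M ⟶ Kh G :=
  Quotient.natTransLift _ α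

lemma descend_app {M : DerivedCategory A ⥤ DerivedCategory B} (α : L₀ A ⋙ M ⟶ Φ G)
    (K : CochainComplex A ℤ) :
    (descend G α).app ((HomotopyCategory.quotient A (ComplexShape.up ℤ)).obj K) = α.app K := rfl

/-- The left derived functor exists. -/
lemma hasLeftDerivedFunctor (h : GoodInverts G r) :
    (Kh G).HasLeftDerivedFunctor (HomotopyCategory.quasiIso A (ComplexShape.up ℤ)) := by
  let M := r.model (L₀ A) h.inverts
  let α₀ : L₀ A ⋙ M ⟶ Φ G := r.modelCounit (L₀ A) h.inverts
  have hM : M.IsLeftDerivedFunctor α₀ (HomologicalComplex.quasiIso A (ComplexShape.up ℤ)) :=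
    r.model_isLeftDerivedFunctor (L₀ A) h.inverts
  have : M.IsLeftDerivedFunctor (descend G α₀) (HomotopyCategory.quasiIso A (ComplexShape.up ℤ)) := by
    refine ⟨⟨⟨Limits.IsTerminal.ofUniqueHom (fun E => CostructuredArrow.homMk
      (M.leftDerivedLift α₀ (HomologicalComplex.quasiIso A (ComplexShape.up ℤ)) E.left
        (Functor.whiskerLeft (HomotopyCategory.quotient A (ComplexShape.up ℤ)) E.hom))
      (NatTrans.ext (funext fun X => ?_))) ?_⟩⟩⟩
    · obtain ⟨K⟩ := X
      exact M.leftDerived_fac_app α₀ (HomologicalComplex.quasiIso A (ComplexShape.up ℤ)) E.left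
        (Functor.whiskerLeft (HomotopyCategory.quotient A (ComplexShape.up ℤ)) E.hom) K
    · intro E m
      refine CostructuredArrow.hom_ext _ _ ?_
      refine M.leftDerived_ext α₀ (HomologicalComplex.quasiIso A (ComplexShape.up ℤ)) E.left m.left _
        (NatTrans.ext (funext fun K => ?_))
      refine (congrArg (fun t : NatTrans _ _ => t.app
        ((HomotopyCategory.quotient A (ComplexShape.up ℤ)).obj K)) (CostructuredArrow.w m)).trans ?_
      exact (M.leftDerived_fac_app α₀ (HomologicalComplex.quasiIso A (ComplexShape.up ℤ)) E.left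
        (Functor.whiskerLeft (HomotopyCategory.quotient A (ComplexShape.up ℤ)) E.hom) K).symm
  exact Functor.HasLeftDerivedFunctor.mk' (LF := M) (α := descend G α₀) (L := DerivedCategory.Qh)

variable [hK : (Kh G).HasLeftDerivedFunctor (HomotopyCategory.quasiIso A (ComplexShape.up ℤ))]

variable (G) in
/-- The derived functor. -/
noncomputable abbrev LG : DerivedCategory A ⥤ DerivedCategory B :=
  (Kh G).totalLeftDerived DerivedCategory.Qh (HomotopyCategory.quasiIso A (ComplexShape.up ℤ))

variable (G) in
/-- Its counit on complexes. -/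
noncomputable def counit : L₀ A ⋙ LG G ⟶ Φ G :=
  Functor.whiskerLeft (HomotopyCategory.quotient A (ComplexShape.up ℤ))
    ((Kh G).totalLeftDerivedCounit DerivedCategory.Qh (HomotopyCategory.quasiIso A (ComplexShape.up ℤ)))

lemma isLeftDerived_counit :
    (LG G).IsLeftDerivedFunctor (counit G) (HomologicalComplex.quasiIso A (ComplexShape.up ℤ)) where
  isRightKanExtension := by
    let W := HomotopyCategory.quasiIso A (ComplexShape.up ℤ)
    let α := (Kh G).totalLeftDerivedCounit DerivedCategory.Qh W
    refine ⟨⟨Limits.IsTerminal.ofUniqueHom (fun E => CostructuredArrow.homMk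
      ((LG G).leftDerivedLift α W E.left (Quotient.natTransLift _ (E.hom : L₀ A ⋙ E.left ⟶ Φ G)))
      (NatTrans.ext (funext fun X => ?_))) ?_⟩⟩
    · exact (LG G).leftDerived_fac_app α W E.left (Quotient.natTransLift _ (E.hom : L₀ A ⋙ E.left ⟶ Φ G))
        ((HomotopyCategory.quotient A (ComplexShape.up ℤ)).obj X)
    · intro E m
      refine CostructuredArrow.hom_ext _ _ ?_
      refine (LG G).leftDerived_ext α W E.left m.left _ (NatTrans.ext (funext fun X => ?_))
      obtain ⟨K⟩ := X
      refine (congrArg (fun t : NatTrans _ _ => t.app K) (CostructuredArrow.w m)).trans ?_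
      exact ((LG G).leftDerived_fac_app α W E.left (Quotient.natTransLift _ (E.hom : L₀ A ⋙ E.left ⟶ Φ G))
        ((HomotopyCategory.quotient A (ComplexShape.up ℤ)).obj K)).symm

variable (G) in
/-- The comparison map `LG (Q X) ⟶ Q (G X)`. -/
noncomputable def comparison :
    DerivedCategory.Q ⋙ LG G ⟶ G.mapHomologicalComplex (ComplexShape.up ℤ) ⋙ DerivedCategory.Q :=
  Functor.whiskerRight (DerivedCategory.quotientCompQhIso A).inv (LG G) ≫ counit G ≫ (ΦIso G).hom

/-- The derived functor is computed by good complexes. -/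
lemma isIso_comparison (h : GoodInverts G r) {X : CochainComplex A ℤ} (hX : r.good X) :
    IsIso ((comparison G).app X) := by
  have := isLeftDerived_counit (G := G)
  have := r.isIso_counit (L₀ A) h.inverts (LG G) (counit G) X hX
  rw [comparison, NatTrans.comp_app, NatTrans.comp_app]
  infer_instance

/-- The value at a good complex. -/
noncomputable def valueIso (h : GoodInverts G r) {X : CochainComplex A ℤ} (hX : r.good X) :
    (LG G).obj (DerivedCategory.Q.obj X) ≅
      DerivedCategory.Q.obj ((G.mapHomologicalComplex (ComplexShape.up ℤ)).obj X) :=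
  @asIso _ _ _ _ _ (isIso_comparison h hX)

end Groth.Agent.ModGroth.DerivedLeft
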