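import Groth.Agent.ModGroth.FlatStalk

/-!
# Flat sheaves of modules have flat stalks
-/

universe u

open CategoryTheory Limits Opposite MonoidalCategory TopologicalSpace
open scoped TensorProduct

namespace Groth.Agent.ModGroth.Stalk

variable {X : TopCat.{u}} {R : X.Presheaf CommRingCat.{u}} (x : X)

/-- Sections of the skyscraper module with value `N` at `x`. -/
def SkyObj (N : ModuleCat.{u} (stR R x)) (U : (Opens X)ᵒᵖ) : Type u := PLift (x ∈ U.unop) → N

noncomputable instance (N : ModuleCat.{u} (stR R x)) (U : (Opens X)ᵒᵖ) : AddCommGroup (SkyObj x N U) :=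
  inferInstanceAs (AddCommGroup (PLift (x ∈ U.unop) → N))

noncomputable instance skyModule (N : ModuleCat.{u} (stR R x)) (U : (Opens X)ᵒᵖ) :
    Module (R.obj U) (SkyObj x N U) where
  smul r f := fun h => (TopCat.Presheaf.germ R U.unop x h.down).hom r • f h
  one_smul f := funext fun h => by
    change (TopCat.Presheaf.germ R U.unop x h.down).hom 1 • f h = f h
    rw [map_one, one_smul]
  mul_smul r s f := funext fun h => by
    change (TopCat.Presheaf.germ R U.unop x h.down).hom (r * s) • f h = _
    rw [map_mul, mul_smul]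
    rfl
  smul_zero r := funext fun h => smul_zero _
  smul_add r f g := funext fun h => smul_add _ _ _
  add_smul r s f := funext fun h => by
    change (TopCat.Presheaf.germ R U.unop x h.down).hom (r + s) • f h = _
    rw [map_add, add_smul]
    rfl
  zero_smul f := funext fun h => by
    change (TopCat.Presheaf.germ R U.unop x h.down).hom 0 • f h = 0
    rw [map_zero, zero_smul]

/-- The skyscraper presheaf of modules. -/
noncomputable def sky (N : ModuleCat.{u} (stR R x)) : Pres R where
  obj U := ModuleCat.of (R.obj U) (SkyObj x N U)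
  map {U V} g := ModuleCat.ofHom
    (X := SkyObj x N U) (Y := (ModuleCat.restrictScalars (R.map g).hom).obj (ModuleCat.of (R.obj V) (SkyObj x N V)))
    { toFun := fun f h => f ⟨g.unop.le h.down⟩
      map_add' := fun _ _ => rfl
      map_smul' := fun r f => funext fun h =>
        congrArg (· • f ⟨g.unop.le h.down⟩) (TopCat.Presheaf.germ_res_apply R g.unop x h.down r).symm }
  map_id U := rfl
  map_comp g h := rfl

/-- Functoriality in the value. -/
noncomputable def skyMap {N N' : ModuleCat.{u} (stR R x)} (f : N ⟶ N') : sky x N ⟶ sky x N' where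
  app U := ModuleCat.ofHom
    { toFun := fun s h => f (s h)
      map_add' := fun s t => funext fun h => map_add f.hom (s h) (t h)
      map_smul' := fun r s => funext fun h => map_smul f.hom _ (s h) }
  naturality g := rfl

lemma skyMap_injective {N N' : ModuleCat.{u} (stR R x)} (f : N ⟶ N') (hf : Function.Injective f)
    (U : (Opens X)ᵒᵖ) : Function.Injective ((skyMap x f).app U) := fun _ _ h =>
  funext fun p => hf (congrFun h p)

lemma sky_isSheaf (N : ModuleCat.{u} (stR R x)) :
    Presheaf.IsSheaf (Opens.grothendieckTopology X) (sky x N).presheaf := by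
  refine (Presheaf.isSheaf_iff_isSheaf_forget _ _ (forget _)).2 ((isSheaf_iff_isSheaf_of_type _ _).2 ?_)
  intro U S hS y hy
  classical
  let t : PLift (x ∈ U) → N := fun h =>
    y (hS x h.down).choose_spec.choose (hS x h.down).choose_spec.choose_spec.1
      ⟨(hS x h.down).choose_spec.choose_spec.2⟩
  refine ⟨t, fun V g hg => funext fun h => ?_, fun t' ht' => funext fun h => ?_⟩
  · obtain ⟨hV', hxV'⟩ := (hS x (g.le h.down)).choose_spec.choose_spec
    have hW : x ∈ (hS x (g.le h.down)).choose ⊓ V := ⟨hxV', h.down⟩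
    exact congrFun (hy (Z := (hS x (g.le h.down)).choose ⊓ V) (homOfLE inf_le_left) (homOfLE inf_le_right)
      hV' hg (Subsingleton.elim _ _)) ⟨hW⟩
  · obtain ⟨hV', hxV'⟩ := (hS x h.down).choose_spec.choose_spec
    exact congrFun (ht' _ hV') ⟨hxV'⟩

/-- Evaluation at `x`. -/
noncomputable def ev (N : ModuleCat.{u} (stR R x)) : st (sky x N) x →+ N :=
  (colimit.desc ((OpenNhds.inclusion x).op ⋙ (sky x N).presheaf)
    { pt := AddCommGrpCat.of N
      ι :=
        { app := fun V => AddCommGrpCat.ofHom
            (AddMonoidHom.mk' (fun f => f ⟨V.unop.2⟩) fun _ _ => rfl)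
          naturality := fun V W g => rfl } }).hom

lemma ev_gm (N : ModuleCat.{u} (stR R x)) {U : Opens X} (hx : x ∈ U) (f : (sky x N).obj (op U)) :
    ev x N (gm (sky x N) hx f) = f ⟨hx⟩ :=
  ConcreteCategory.congr_hom (colimit.ι_desc
    (F := (OpenNhds.inclusion x).op ⋙ (sky x N).presheaf) _ (op ⟨U, hx⟩)) f

/-- Evaluation at `x` is an isomorphism. -/
noncomputable def evEquiv (N : ModuleCat.{u} (stR R x)) : st (sky x N) x ≃ₗ[stR R x] N :=
  LinearEquiv.ofBijective
    { ev x N with
      map_smul' := fun r α => by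
        change ev x N (r • α) = r • ev x N α
        obtain ⟨U, hx, f, rfl⟩ := exists_gm (sky x N) α
        obtain ⟨V, hy, r, rfl⟩ := R.exists_germ_eq r
        have hz : x ∈ U ⊓ V := ⟨hx, hy⟩
        rw [← gm_res (sky x N) inf_le_left hz,
          ← TopCat.Presheaf.germ_res_apply R (homOfLE inf_le_right : U ⊓ V ⟶ V) x hz r,
          ← gm_smul, ev_gm, ev_gm]
        rfl }
    ⟨fun α β h => by
      obtain ⟨U, hx, f, g, rfl, rfl⟩ := exists_pair (sky x N) (sky x N) α β
      change ev x N _ = ev x N _ at h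
      rw [ev_gm, ev_gm] at h
      exact congrArg _ (funext fun p => h),
    fun n => ⟨gm (sky x N) (U := ⊤) trivial (fun _ => n), ev_gm x N (U := ⊤) trivial _⟩⟩

lemma evEquiv_stMap {N N' : ModuleCat.{u} (stR R x)} (f : N ⟶ N') (α : st (sky x N) x) :
    evEquiv x N' (stMap (skyMap x f) x α) = f (evEquiv x N α) := by
  obtain ⟨U, hx, s, rfl⟩ := exists_gm (sky x N) α
  rw [stMap_gm]
  exact (ev_gm x N' hx _).trans (congrArg f (ev_gm x N hx s)).symm

/-- Injectivity on stalks from local injectivity of the tensored map. -/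
lemma rTensor_stMap_injective {A B : Pres R} (g : A ⟶ B) (F : Pres R)
    (h : Presheaf.IsLocallyInjective (Opens.grothendieckTopology X)
      ((PresheafOfModules.toPresheaf _).map (g ▷ F))) :
    Function.Injective ((stMap g x).rTensor (st F x)) := by
  rw [injective_iff_map_eq_zero]
  intro z hz
  obtain ⟨U, hx, z₀, rfl⟩ := exists_tau A F z
  rw [← tau_whiskerRight] at hz
  have h0 : gm (B ⊗ F) hx ((g ▷ F).app (op U) z₀) = gm (B ⊗ F) hx 0 := by
    rw [map_zero]
    exact (psi_tau B F hx _).symm.trans ((congrArg _ hz).trans (map_zero _))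
  obtain ⟨W, hW, i, j, e⟩ := gm_eq (B ⊗ F) hx hx h0
  replace e := (rs_app (g ▷ F) (homOfLE i).op z₀).trans (e.trans (map_zero _))
  obtain ⟨V, k, hk, hxV⟩ := h.equalizerSieve_mem (X := op W)
    (rs (A ⊗ F) (homOfLE i).op z₀) 0 (e.trans (map_zero ((g ▷ F).app (op W)).hom).symm) x hW
  have hk' : rs (A ⊗ F) (homOfLE (k.le.trans i)).op z₀ = 0 :=
    (rs_comp (A ⊗ F) (homOfLE i).op k.op z₀).trans (hk.trans (map_zero _))
  rw [← tau_res A F (k.le.trans i) hxV z₀]
  exact (congrArg _ hk').trans (map_zero _)

variable {O : TopCat.Sheaf CommRingCat.{u} X}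

/-- Flat modules have flat stalks. -/
lemma flat_stalk_of_isFlat (F : ModSite.Mod O) (hF : ModSite.IsFlat F) :
    Module.Flat (stR O.obj x) (st (R := O.obj) ((fg O).obj F) x) := by
  rw [Module.Flat.iff_rTensor_preserves_injective_linearMap]
  intro N N' _ _ _ _ f hf
  let f' : ModuleCat.of (stR O.obj x) N ⟶ ModuleCat.of (stR O.obj x) N' := ModuleCat.ofHom f
  let A : ModSite.Mod O := ⟨sky (R := O.obj) x (ModuleCat.of _ N), sky_isSheaf x _⟩
  let B : ModSite.Mod O := ⟨sky (R := O.obj) x (ModuleCat.of _ N'), sky_isSheaf x _⟩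
  let g : A ⟶ B := ⟨skyMap x f'⟩
  have : Mono g := by
    refine (SheafOfModules.forget (ModSite.ringSh O)).mono_of_mono_map ?_
    exact PresheafOfModules.mono_of_injective fun U => skyMap_injective x f' hf U
  have := mono_tR_map hF g
  have h1 : Mono ((sh O).map (skyMap (R := O.obj) x f' ▷ (fg O).obj F)) := this
  have h2 := rTensor_stMap_injective x (skyMap (R := O.obj) x f') ((fg O).obj F)
    ((mono_sh_map_iff _).1 h1)
  have e : f.comp (evEquiv x (ModuleCat.of _ N)).toLinearMap =
      (evEquiv x (ModuleCat.of _ N')).toLinearMap.comp (stMap (skyMap (R := O.obj) x f') x) :=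
    LinearMap.ext fun α => (evEquiv_stMap x f' α).symm
  have h3 : Function.Injective ((f.comp (evEquiv x (ModuleCat.of _ N)).toLinearMap).rTensor
      (st (R := O.obj) ((fg O).obj F) x)) := by
    rw [e, LinearMap.rTensor_comp]
    exact ((evEquiv x (ModuleCat.of _ N')).rTensor _).injective.comp h2
  rw [LinearMap.rTensor_comp] at h3
  exact Function.Injective.of_comp_right h3 ((evEquiv x (ModuleCat.of _ N)).rTensor _).surjective

lemma isFlat_iff_flat_stalks (F : ModSite.Mod O) :
    ModSite.IsFlat F ↔ ∀ x, Module.Flat (stR O.obj x) (st (R := O.obj) ((fg O).obj F) x) :=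
  ⟨fun h x => flat_stalk_of_isFlat x F h, isFlat_of_flat_stalks F⟩

end Groth.Agent.ModGroth.Stalk
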