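import Groth.Agent.ModGroth.Flat
import Mathlib.Algebra.Homology.ShortComplex.ExactFunctor
import Mathlib.Algebra.Homology.ShortComplex.Abelian
import Mathlib.Algebra.Homology.ShortComplex.HomologicalComplex
import Mathlib.CategoryTheory.Abelian.Refinements

/-!
# Short exact sequences with flat quotient
-/

universe u v w v' w'

open CategoryTheory Limits Opposite MonoidalCategory

namespace Groth.Agent.ModGroth

variable {C : Type u} [SmallCategory C] {J : GrothendieckTopology C} {O : Sheaf J CommRingCat.{u}}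

lemma tR_preservesZeroMorphisms (F : ModSite.Mod O) : (tR F).PreservesZeroMorphisms :=
  have := tR_preservesFiniteColimits F
  Functor.preservesZeroMorphisms_of_preserves_initial_object

lemma tL_preservesFiniteColimits (F : ModSite.Mod O) : PreservesFiniteColimits (tL F) :=
  have := tL_preservesColimits F
  PreservesColimitsOfSize.preservesFiniteColimits _

lemma tR_additive (F : ModSite.Mod O) : (tR F).Additive :=
  have := tR_preservesFiniteColimits F
  have := tR_preservesZeroMorphisms F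
  have := preservesBinaryBiproducts_of_preservesBinaryCoproducts (tR F)
  Functor.additive_of_preservesBinaryBiproducts _

lemma tL_additive (F : ModSite.Mod O) : (tL F).Additive :=
  have := tL_preservesFiniteColimits F
  have : (tL F).PreservesZeroMorphisms :=
    Functor.preservesZeroMorphisms_of_preserves_initial_object
  have := preservesBinaryBiproducts_of_preservesBinaryCoproducts (tL F)
  Functor.additive_of_preservesBinaryBiproducts _

lemma tR_exact (F : ModSite.Mod O) (S : ShortComplex (ModSite.Mod O)) (hS : S.ShortExact)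
    [(tR F).PreservesZeroMorphisms] : (S.map (tR F)).Exact ∧ Epi ((tR F).map S.g) := by
  have := tR_additive F
  have := tR_preservesFiniteColimits F
  have h := (Functor.preservesFiniteColimits_tfae (tR F)).out 3 0
  exact h.1 inferInstance S hS

lemma tL_exact (F : ModSite.Mod O) (S : ShortComplex (ModSite.Mod O)) (hS : S.ShortExact)
    [(tL F).PreservesZeroMorphisms] : (S.map (tL F)).Exact ∧ Epi ((tL F).map S.g) := by
  have := tL_additive F
  have := tL_preservesFiniteColimits F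
  have h := (Functor.preservesFiniteColimits_tfae (tL F)).out 3 0
  exact h.1 inferInstance S hS

/-- The two tensor functors commute. -/
lemma tensor_comm {A A' X X' : ModSite.Mod O} (a : A ⟶ A') (b : X ⟶ X') :
    (tL A).map b ≫ (tR X').map a = (tR X).map a ≫ (tL A').map b :=
  ((ModSite.tensorBi O).map a).naturality b

/-- A diagram chase: if the `K`-row and the middle column are exact, `π₁` is epi, `ι₃` and the
`P`-row are mono, then the `A`-row is mono. -/
lemma mono_of_chase {𝒜 : Type w} [Category.{v} 𝒜] [Abelian 𝒜] {K1 K2 K3 P1 P2 P3 A1 A2 : 𝒜}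
    (k12 : K1 ⟶ K2) (k23 : K2 ⟶ K3) (p12 : P1 ⟶ P2) (p23 : P2 ⟶ P3) (a12 : A1 ⟶ A2)
    (ι1 : K1 ⟶ P1) (ι2 : K2 ⟶ P2) (ι3 : K3 ⟶ P3) (π1 : P1 ⟶ A1) (π2 : P2 ⟶ A2)
    (w12 : ι1 ≫ p12 = k12 ≫ ι2) (w23 : ι2 ≫ p23 = k23 ≫ ι3) (v12 : π1 ≫ a12 = p12 ≫ π2)
    (hk : k12 ≫ k23 = 0) (hp : p12 ≫ p23 = 0) (hι2 : ι2 ≫ π2 = 0) (hι1 : ι1 ≫ π1 = 0)
    (exK : (ShortComplex.mk k12 k23 hk).Exact) (exC : (ShortComplex.mk ι2 π2 hι2).Exact)
    [Epi π1] [Mono ι3] [Mono p12] : Mono a12 := by
  refine Preadditive.mono_of_cancel_zero _ fun {U} x hx => ?_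
  obtain ⟨U1, e1, he1, p, hp1⟩ := surjective_up_to_refinements_of_epi π1 x
  obtain ⟨U2, e2, he2, k, hk2⟩ := exC.exact_up_to_refinements (p ≫ p12) (by
    simp only [Category.assoc, ← v12, ← reassoc_of% hp1, hx, comp_zero])
  change e2 ≫ p ≫ p12 = k ≫ ι2 at hk2
  have hk3 : k ≫ k23 = 0 := by
    rw [← cancel_mono ι3, zero_comp, Category.assoc, ← w23, ← reassoc_of% hk2, hp, comp_zero,
      comp_zero]
  obtain ⟨U3, e3, he3, k1, hk1⟩ := exK.exact_up_to_refinements k hk3
  change e3 ≫ k = k1 ≫ k12 at hk1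
  have h1 : k1 ≫ ι1 = e3 ≫ e2 ≫ p := by
    simp only [← cancel_mono p12, Category.assoc, w12, ← reassoc_of% hk1, ← hk2]
  have h2 : e3 ≫ e2 ≫ e1 ≫ x = 0 := by
    rw [hp1, ← reassoc_of% h1, hι1, comp_zero]
  rwa [← cancel_epi e1, ← cancel_epi e2, ← cancel_epi e3, comp_zero, comp_zero, comp_zero]

/-- If the quotient is flat, tensoring keeps the sub-object. -/
lemma mono_tL_map_of_flat_quotient {S : ShortComplex (ModSite.Mod O)} (hS : S.ShortExact)
    (hF : ModSite.IsFlat S.X₃) (A : ModSite.Mod O) : Mono ((tL A).map S.f) := by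
  obtain ⟨P, π, hP, hπ⟩ := exists_flat_epi A
  let T := ShortComplex.mk (kernel.ι π) π (kernel.condition π)
  have hT : T.ShortExact := { exact := T.exact_of_f_is_kernel (kernelIsKernel _) }
  have : Mono S.f := hS.mono_f
  have : Mono T.f := hT.mono_f
  have := fun F : ModSite.Mod O => tR_preservesZeroMorphisms F
  have := fun F : ModSite.Mod O => tL_additive F
  have e1 : Epi ((tR S.X₁).map π) := (tR_exact S.X₁ T hT).2
  have e2 : Mono ((tR S.X₃).map (kernel.ι π)) := mono_tR_map hF T.f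
  have e3 : Mono ((tL P).map S.f) := mono_tL_map hP S.f
  exact mono_of_chase ((tL (kernel π)).map S.f) ((tL (kernel π)).map S.g)
    ((tL P).map S.f) ((tL P).map S.g) ((tL A).map S.f)
    ((tR S.X₁).map (kernel.ι π)) ((tR S.X₂).map (kernel.ι π)) ((tR S.X₃).map (kernel.ι π))
    ((tR S.X₁).map π) ((tR S.X₂).map π)
    (tensor_comm (kernel.ι π) S.f).symm (tensor_comm (kernel.ι π) S.g).symm (tensor_comm π S.f).symm
    ((S.map (tL (kernel π))).zero) ((S.map (tL P)).zero) ((T.map (tR S.X₂)).zero)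
    ((T.map (tR S.X₁)).zero) (tL_exact (kernel π) S hS).1 (tR_exact S.X₂ T hT).1

/-- Tensoring a short exact sequence with flat quotient is short exact. -/
lemma shortExact_map_tR {S : ShortComplex (ModSite.Mod O)} (hS : S.ShortExact)
    (hF : ModSite.IsFlat S.X₃) (G : ModSite.Mod O) [(tR G).PreservesZeroMorphisms] :
    (S.map (tR G)).ShortExact where
  exact := (tR_exact G S hS).1
  mono_f := haveI := mono_tL_map_of_flat_quotient hS hF G; mono_map_of_iso (tensorSymm G) S.f
  epi_g := (tR_exact G S hS).2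

lemma shortExact_map_tL {S : ShortComplex (ModSite.Mod O)} (hS : S.ShortExact)
    (hF : ModSite.IsFlat S.X₃) (G : ModSite.Mod O) [(tL G).PreservesZeroMorphisms] :
    (S.map (tL G)).ShortExact where
  exact := (tL_exact G S hS).1
  mono_f := mono_tL_map_of_flat_quotient hS hF G
  epi_g := (tL_exact G S hS).2

lemma isFlat_middle {S : ShortComplex (ModSite.Mod O)} (hS : S.ShortExact)
    (h₁ : ModSite.IsFlat S.X₁) (h₃ : ModSite.IsFlat S.X₃) : ModSite.IsFlat S.X₂ := by
  refine isFlat_of_mono fun A B g hg => ?_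
  have := fun F : ModSite.Mod O => tL_additive F
  let φ : S.map (tL A) ⟶ S.map (tL B) :=
    { τ₁ := (tR S.X₁).map g
      τ₂ := (tR S.X₂).map g
      τ₃ := (tR S.X₃).map g
      comm₁₂ := (tensor_comm g S.f).symm
      comm₂₃ := (tensor_comm g S.g).symm }
  have : Mono φ.τ₁ := mono_tR_map h₁ g
  have : Mono φ.τ₃ := mono_tR_map h₃ g
  have : Mono (S.map (tL B)).f := (shortExact_map_tL hS h₃ B).mono_f
  have : Mono (S.map (tL A)).f := (shortExact_map_tL hS h₃ A).mono_f
  exact ShortComplex.mono_τ₂_of_exact_of_mono φ (shortExact_map_tL hS h₃ A).exact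

lemma isFlat_left {S : ShortComplex (ModSite.Mod O)} (hS : S.ShortExact)
    (h₂ : ModSite.IsFlat S.X₂) (h₃ : ModSite.IsFlat S.X₃) : ModSite.IsFlat S.X₁ := by
  refine isFlat_of_mono fun A B g hg => ?_
  have := mono_tL_map_of_flat_quotient hS h₃ A
  have := mono_tR_map h₂ g
  exact mono_of_mono_fac (tensor_comm g S.f).symm

lemma isFlat_of_isZero {Z : ModSite.Mod O} (hZ : IsZero Z) : ModSite.IsFlat Z :=
  isFlat_of_mono fun A B g _ =>
    have := tL_additive A
    ⟨fun a b _ => ((tL A).map_isZero hZ).eq_of_tgt a b⟩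

section Complex

variable {𝒜 : Type w} [Category.{v} 𝒜] [Abelian 𝒜] (M : ChainComplex 𝒜 ℤ)

/-- The short exact sequence `Z_{i+1} → M_{i+1} → Z_i` of an acyclic complex. -/
noncomputable def cyc (k j i : ℤ) : ShortComplex 𝒜 :=
  ShortComplex.mk (kernel.ι (M.d k j))
    (kernel.lift (M.d j i) (M.d k j) (M.d_comp_d k j i))
    ((cancel_mono (kernel.ι (M.d j i))).1 (by simp))

lemma shortExact_cyc (hac : M.Acyclic) (k j i : ℤ) (hk : j + 1 = k) (hi : i + 1 = j) :
    (cyc M k j i).ShortExact := by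
  have hex : (ShortComplex.mk (M.d k j) (M.d j i) (M.d_comp_d k j i)).Exact :=
    (M.exactAt_iff' k j i (ComplexShape.prev_eq' _ hk) (ComplexShape.next_eq' _ hi)).1 (hac j)
  exact
    { exact := by
        refine ShortComplex.exact_of_f_is_kernel _ ?_
        exact isKernelOfComp _ (M.d k j) (kernelIsKernel (M.d k j)) _ (kernel.lift_ι _ _ _)
      mono_f := inferInstanceAs (Mono (kernel.ι (M.d k j)))
      epi_g := hex.epi_kernelLift }

/-- A functor keeping the short exact sequences with "flat" quotient maps bounded acyclic complexes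
of "flat" objects to acyclic complexes. -/
lemma acyclic_map_of_flat (P : 𝒜 → Prop) (hzero : ∀ Z, IsZero Z → P Z)
    (hleft : ∀ S : ShortComplex 𝒜, S.ShortExact → P S.X₂ → P S.X₃ → P S.X₁)
    {ℬ : Type w'} [Category.{v'} ℬ] [Abelian ℬ] (F : 𝒜 ⥤ ℬ) [F.PreservesZeroMorphisms]
    (hF : ∀ S : ShortComplex 𝒜, S.ShortExact → P S.X₃ → (S.map F).ShortExact)
    (hb : ∃ i₀ : ℤ, ∀ i, i < i₀ → IsZero (M.X i)) (hM : ∀ i, P (M.X i)) (hac : M.Acyclic) :
    ((F.mapHomologicalComplex (ComplexShape.down ℤ)).obj M).Acyclic := by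
  obtain ⟨i₀, hi₀⟩ := hb
  have hflat : ∀ (n : ℕ) (j i : ℤ), j < i₀ + n → i + 1 = j → P (kernel (M.d j i)) := by
    intro n
    induction n with
    | zero =>
      exact fun j i hj _ => hzero _ (IsZero.of_mono (kernel.ι (M.d j i)) (hi₀ j (by simpa using hj)))
    | succ n ih =>
      intro j i hj hij
      exact hleft (cyc M j i (i - 1)) (shortExact_cyc M hac j i (i - 1) hij (by omega)) (hM j)
        (ih i (i - 1) (by omega) (by omega))
  have hS : ∀ k j i : ℤ, j + 1 = k → i + 1 = j → ((cyc M k j i).map F).ShortExact :=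
    fun k j i hk hi => hF _ (shortExact_cyc M hac k j i hk hi)
      (hflat (j + 1 - i₀).toNat j i (by omega) hi)
  intro j
  rw [HomologicalComplex.exactAt_iff' _ (j + 1) j (j - 1) (ComplexShape.prev_eq' _ rfl)
    (ComplexShape.next_eq' _ (by simp))]
  have h1 := hS (j + 1) j (j - 1) rfl (by omega)
  have h2 := hS j (j - 1) (j - 1 - 1) (by omega) (by omega)
  let l := kernel.lift (M.d (j - 1) (j - 1 - 1)) (M.d j (j - 1)) (M.d_comp_d _ _ _)
  have w : M.d (j + 1) j ≫ l = 0 := by rw [← cancel_mono (kernel.ι _)]; simp [l]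
  let U := ShortComplex.mk (F.map (M.d (j + 1) j)) (F.map l) (by rw [← F.map_comp, w, F.map_zero])
  let φ : U ⟶ (cyc M j (j - 1) (j - 1 - 1)).map F :=
    { τ₁ := F.map (kernel.lift (M.d j (j - 1)) (M.d (j + 1) j) (M.d_comp_d _ _ _))
      τ₂ := 𝟙 _
      τ₃ := 𝟙 _
      comm₁₂ := by
        change F.map _ ≫ F.map (kernel.ι _) = F.map _ ≫ 𝟙 _
        rw [Category.comp_id, ← F.map_comp, kernel.lift_ι]
      comm₂₃ := (Category.id_comp _).trans (Category.comp_id _).symm }
  have : Epi φ.τ₁ := h1.epi_g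
  have : IsIso φ.τ₂ := inferInstanceAs (IsIso (𝟙 _))
  have : Mono φ.τ₃ := inferInstanceAs (Mono (𝟙 _))
  have hU : U.Exact := (ShortComplex.exact_iff_of_epi_of_isIso_of_mono φ).2 h2.exact
  let ψ : U ⟶ ((F.mapHomologicalComplex (ComplexShape.down ℤ)).obj M).sc' (j + 1) j (j - 1) :=
    { τ₁ := 𝟙 _
      τ₂ := 𝟙 _
      τ₃ := F.map (kernel.ι (M.d (j - 1) (j - 1 - 1)))
      comm₁₂ := (Category.id_comp _).trans (Category.comp_id _).symm
      comm₂₃ := (Category.id_comp _).trans ((congrArg F.map (kernel.lift_ι _ _ _).symm).trans (F.map_comp _ _)) }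
  have : Mono ψ.τ₃ := (hS (j - 1) (j - 1 - 1) (j - 1 - 1 - 1) (by omega) (by omega)).mono_f
  have : Epi ψ.τ₁ := inferInstanceAs (Epi (𝟙 _))
  have : IsIso ψ.τ₂ := inferInstanceAs (IsIso (𝟙 _))
  exact (ShortComplex.exact_iff_of_epi_of_isIso_of_mono ψ).1 hU

end Complex

end Groth.Agent.ModGroth
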