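import Groth.Agent.KFlat.Flat
import Mathlib.Algebra.Homology.HomologySequenceLemmas
import Mathlib.CategoryTheory.Abelian.GrothendieckAxioms.Basic

/-!
# K-flatness in short exact sequences which stay exact after tensoring
-/

universe v u

open CategoryTheory CategoryTheory.Limits HomologicalComplex

namespace Groth.Agent.ModGroth

variable {C : Type u} [Category.{v} C] [Abelian C] (F : C ⥤ C ⥤ C) [F.Additive] [∀ X, (F.obj X).Additive]
  [∀ K L : CochainComplex C ℤ, HasMapBifunctor K L F (ComplexShape.up ℤ)]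

/-- The pairs of degrees contributing to degree `n`. -/
abbrev DegIdx (n : ℤ) : Type := {x : ℤ × ℤ // x.1 + x.2 = n}

variable (L : CochainComplex C ℤ)

/-- The summands of degree `n` of `L ⊗ K`. -/
noncomputable def degCofan (K : CochainComplex C ℤ) (n : ℤ) :
    Cocone (Discrete.functor fun x : DegIdx n => (F.obj (L.X x.1.1)).obj (K.X x.1.2)) :=
  Cofan.mk ((mapBifunctor L K F (ComplexShape.up ℤ)).X n)
    fun x => ιMapBifunctor L K F (ComplexShape.up ℤ) x.1.1 x.1.2 n x.2

/-- They form a coproduct. -/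
noncomputable def isColimitDegCofan (K : CochainComplex C ℤ) (n : ℤ) :
    IsColimit (degCofan F L K n) :=
  mkCofanColimit _ (fun s => mapBifunctorDesc fun p q h => s.inj ⟨(p, q), h⟩)
    (fun s x => ι_mapBifunctorDesc ..)
    (fun s m hm => mapBifunctor.hom_ext fun p q h =>
      ((hm ⟨(p, q), h⟩).trans (ι_mapBifunctorDesc (fun p q h => s.inj ⟨(p, q), h⟩) p q h).symm))

/-- The map of summands induced by a map of complexes. -/
noncomputable def degNat {K K' : CochainComplex C ℤ} (f : K ⟶ K') (n : ℤ) :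
    Discrete.functor (fun x : DegIdx n => (F.obj (L.X x.1.1)).obj (K.X x.1.2)) ⟶
      Discrete.functor (fun x : DegIdx n => (F.obj (L.X x.1.1)).obj (K'.X x.1.2)) :=
  Discrete.natTrans fun x => (F.obj (L.X x.as.1.1)).map (f.f x.as.1.2)

lemma degNat_comm {K K' : CochainComplex C ℤ} (f : K ⟶ K') (n : ℤ) (j : Discrete (DegIdx n)) :
    (degCofan F L K n).ι.app j ≫ ((KFlat.tensR F L).map f).f n =
      (degNat F L f n).app j ≫ (degCofan F L K' n).ι.app j := by
  obtain ⟨⟨⟨p, q⟩, h⟩⟩ := j
  exact (congrArg (fun t => _ ≫ t) (KFlat.mapBifunctorMap_f_eq_degR F L f n)).trans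
    (ι_mapBifunctorDesc ..)

/-- Tensoring keeps a short exact sequence of complexes exact if it does so on all summands. -/
lemma shortExact_tensR_of_summands [∀ n : ℤ, HasColimitsOfShape (Discrete (DegIdx n)) C]
    [∀ n : ℤ, HasExactColimitsOfShape (Discrete (DegIdx n)) C]
    (S : ShortComplex (CochainComplex C ℤ))
    (h : ∀ p q : ℤ, ((S.map (eval C (ComplexShape.up ℤ) q)).map (F.obj (L.X p))).ShortExact) :
    (S.map (KFlat.tensR F L)).ShortExact := by
  refine shortExact_of_degreewise_shortExact _ fun n => ?_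
  let D : ShortComplex (Discrete (DegIdx n) ⥤ C) :=
    ShortComplex.mk (degNat F L S.f n) (degNat F L S.g n) (NatTrans.ext (funext fun j =>
        ((S.map (eval C (ComplexShape.up ℤ) j.as.1.2)).map (F.obj (L.X j.as.1.1))).zero))
  have hD : D.Exact := KFlat.exact_of_app D fun j => (h j.as.1.1 j.as.1.2).exact
  have : Mono D.f := by
    have : ∀ j, Mono (D.f.app j) := fun j => (h j.as.1.1 j.as.1.2).mono_f
    exact NatTrans.mono_of_mono_app _
  have : ∀ j, Epi (D.g.app j) := fun j => (h j.as.1.1 j.as.1.2).epi_g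
  exact
    { exact := colim.exact_mapShortComplex hD (isColimitDegCofan F L S.X₁ n)
        (isColimitDegCofan F L S.X₂ n) (isColimitDegCofan F L S.X₃ n) _ _
        (degNat_comm F L S.f n) (degNat_comm F L S.g n)
      mono_f := colim.map_mono' D.f (isColimitDegCofan F L S.X₁ n) (isColimitDegCofan F L S.X₂ n) _
        (degNat_comm F L S.f n)
      epi_g := colim.map_epi' D.g (degCofan F L S.X₂ n) (isColimitDegCofan F L S.X₃ n) _
        (degNat_comm F L S.g n) }

/-- Two out of three for K-flatness. -/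
lemma flatR_two_out_of_three (S : ShortComplex (CochainComplex C ℤ))
    (h : ∀ M : CochainComplex C ℤ, (∀ i, IsZero (M.homology i)) →
      (S.map (KFlat.tensR F M)).ShortExact) :
    (KFlat.FlatR F S.X₁ → KFlat.FlatR F S.X₂ → KFlat.FlatR F S.X₃) ∧
    (KFlat.FlatR F S.X₁ → KFlat.FlatR F S.X₃ → KFlat.FlatR F S.X₂) ∧
    (KFlat.FlatR F S.X₂ → KFlat.FlatR F S.X₃ → KFlat.FlatR F S.X₁) := by
  refine ⟨fun h1 h2 M hM i => ?_, fun h1 h3 M hM i => ?_, fun h2 h3 M hM i => ?_⟩
  · exact ((h M hM).homology_exact₃ i (i + 1) (by simp)).isZero_of_both_zeros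
      ((h2 M hM i).eq_of_src _ _) ((h1 M hM (i + 1)).eq_of_tgt _ _)
  · exact ((h M hM).homology_exact₂ i).isZero_of_both_zeros
      ((h1 M hM i).eq_of_src _ _) ((h3 M hM i).eq_of_tgt _ _)
  · exact ((h M hM).homology_exact₁ (i - 1) i (by simp)).isZero_of_both_zeros
      ((h3 M hM (i - 1)).eq_of_src _ _) ((h2 M hM i).eq_of_tgt _ _)

open CategoryTheory.Pretriangulated in
/-- Two out of three for a mapping cone. -/
lemma flatR_cone_two_out_of_three {K₁ K₂ : CochainComplex C ℤ} (φ : K₁ ⟶ K₂) :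
    (KFlat.FlatR F K₁ → KFlat.FlatR F (CochainComplex.mappingCone φ) → KFlat.FlatR F K₂) ∧
    (KFlat.FlatR F K₂ → KFlat.FlatR F (CochainComplex.mappingCone φ) → KFlat.FlatR F K₁) :=
  have hT := HomotopyCategory.mappingCone_triangleh_distinguished φ
  ⟨fun h1 h3 => KFlat.FlatR.obj₂ F hT h1 h3, fun h2 h3 => KFlat.FlatR.obj₁ F hT h2 h3⟩

end Groth.Agent.ModGroth
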