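import Groth.Agent.KFlat.Flat
import Groth.Agent.KFlat.Bounded
import Mathlib.Algebra.Homology.BifunctorFlip
import Mathlib.Algebra.Homology.TotalComplexSymmetry

/-!
# K-flat complexes for a symmetric bifunctor
-/

universe v u

open CategoryTheory CategoryTheory.Limits HomologicalComplex

namespace Groth.Agent.ModGroth

variable {C : Type u} [Category.{v} C] [Abelian C] (F : C ⥤ C ⥤ C) [F.Additive] [∀ X, (F.obj X).Additive]

/-- The double complexes of `F.flip` and `F` agree when `F` is symmetric. -/
noncomputable def bicxSymm (φ : F.flip ≅ F) (K L : CochainComplex C ℤ) :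
    ((F.flip.mapBifunctorHomologicalComplex (ComplexShape.up ℤ) (ComplexShape.up ℤ)).obj K).obj L ≅
      ((F.mapBifunctorHomologicalComplex (ComplexShape.up ℤ) (ComplexShape.up ℤ)).obj K).obj L :=
  HomologicalComplex.Hom.isoOfComponents
    (fun p => HomologicalComplex.Hom.isoOfComponents (fun q => (φ.app (K.X p)).app (L.X q))
      (fun q q' _ => ((φ.app (K.X p)).hom.naturality (L.d q q')).symm))
    (fun p p' _ => HomologicalComplex.hom_ext _ _ (fun q =>
      (congrArg (fun t => t.app (L.X q)) (φ.hom.naturality (K.d p p'))).symm))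

variable [∀ K L : CochainComplex C ℤ, HasMapBifunctor K L F (ComplexShape.up ℤ)]

/-- `K ⊗ L ≅ L ⊗ K` for a symmetric bifunctor. -/
noncomputable def cxSymm (φ : F.flip ≅ F) (K L : CochainComplex C ℤ) :
    mapBifunctor K L F (ComplexShape.up ℤ) ≅ mapBifunctor L K F (ComplexShape.up ℤ) :=
  haveI : HasMapBifunctor K L F.flip (ComplexShape.up ℤ) := inferInstance
  (HomologicalComplex₂.total.mapIso (bicxSymm F φ K L) (ComplexShape.up ℤ)).symm ≪≫
    HomologicalComplex.mapBifunctorFlipIso L K F (ComplexShape.up ℤ)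

lemma flatL_of_flatR (φ : F.flip ≅ F) (K : CochainComplex C ℤ) (hK : KFlat.FlatR F K) :
    KFlat.FlatL F K := fun M hM i =>
  (hK M hM i).of_iso ((homologyFunctor C (ComplexShape.up ℤ) i).mapIso (cxSymm F φ K M))

end Groth.Agent.ModGroth
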