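import Groth.Prelude.Def_KFlatSite
import Groth.Agent.ModGroth.FlatSeq
import Groth.Agent.ModGroth.KFlatSymm
import Groth.Agent.ModGroth.KFlatExact
import Mathlib.CategoryTheory.Category.ULift

/-!
# K-flat complexes of modules on a ringed site
-/

universe u

open CategoryTheory CategoryTheory.Limits MonoidalCategory HomologicalComplex

attribute [local instance] HasDerivedCategory.standard

namespace Groth.Agent.ModGroth

variable {C : Type u} [SmallCategory C] {J : GrothendieckTopology C} {O : Sheaf J CommRingCat.{u}}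

instance hasExactColimitsOfShape_nat : HasExactColimitsOfShape ℕ (ModSite.Mod O) :=
  haveI := sheaf_hasExactColimitsOfShape (ModSite.ringSh O) (ULiftHom.{u} (ULift.{u} ℕ))
  HasExactColimitsOfShape.of_domain_equivalence (C := ModSite.Mod O)
    (ULiftHomULiftCategory.equiv.{u, u} ℕ).symm

instance hasExactColimitsOfShape_discrete (ι : Type u) :
    HasExactColimitsOfShape (Discrete ι) (ModSite.Mod O) :=
  haveI := sheaf_isGrothendieckAbelian (ModSite.ringSh O)
  haveI : AB4OfSize.{u} (ModSite.Mod O) := inferInstance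
  this.ofShape ι

instance hasExactColimitsOfShape_discrete₀ (ι : Type) :
    HasExactColimitsOfShape (Discrete ι) (ModSite.Mod O) :=
  HasExactColimitsOfShape.of_domain_equivalence (C := ModSite.Mod O)
    (Discrete.equivalence (Equiv.ulift.{u, 0} (α := ι)))

instance preservesColimits_tensorBi_obj (X : ModSite.Mod O) :
    PreservesColimitsOfSize.{u, u} ((ModSite.tensorBi O).obj X) :=
  tL_preservesColimits X

instance preservesColimits_tensorBi_obj₀ (X : ModSite.Mod O) :
    PreservesColimitsOfSize.{0, 0} ((ModSite.tensorBi O).obj X) :=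
  preservesColimitsOfSize_shrink.{0, u, 0, u} _

lemma tensorBi_map_app {X Y : ModSite.Mod O} (f : X ⟶ Y) (Z : ModSite.Mod O) :
    ((ModSite.tensorBi O).map f).app Z = (sh O).map ((fg O).map f ▷ (fg O).obj Z) := rfl

lemma tensorBi_flip_map_app {X Y : ModSite.Mod O} (f : X ⟶ Y) (Z : ModSite.Mod O) :
    ((ModSite.tensorBi O).flip.map f).app Z = (sh O).map ((fg O).obj Z ◁ (fg O).map f) := rfl

lemma tensorSymm_inv_app (X Z : ModSite.Mod O) :
    (tensorSymm X).inv.app Z = (sh O).map (β_ ((fg O).obj X) ((fg O).obj Z)).inv := rfl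

lemma tensorSymm_inv_naturality {X Y : ModSite.Mod O} (f : X ⟶ Y) :
    (ModSite.tensorBi O).flip.map f ≫ (tensorSymm Y).inv =
      (tensorSymm X).inv ≫ (ModSite.tensorBi O).map f :=
  NatTrans.ext (funext fun Z => by
    refine (NatTrans.comp_app _ _ Z).trans (Eq.trans ?_ (NatTrans.comp_app _ _ Z).symm)
    refine (congrArg₂ (· ≫ ·) (tensorBi_flip_map_app f Z) (tensorSymm_inv_app Y Z)).trans
      (Eq.trans ?_ (congrArg₂ (· ≫ ·) (tensorSymm_inv_app X Z) (tensorBi_map_app f Z)).symm)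
    exact ((sh O).map_comp _ _).symm.trans ((congrArg (sh O).map
      (BraidedCategory.braiding_inv_naturality_right ((fg O).obj Z) ((fg O).map f))).trans
        ((sh O).map_comp _ _)))

/-- The tensor product of sheaves of modules is symmetric, as bifunctors. -/
noncomputable def tensorFlipIso : (ModSite.tensorBi O).flip ≅ ModSite.tensorBi O :=
  NatIso.ofComponents (fun X => (tensorSymm X).symm) fun f => tensorSymm_inv_naturality f

lemma isFlatObj_of_isFlat {F : ModSite.Mod O} (h : ModSite.IsFlat F) :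
    KFlat.IsFlatObj (ModSite.tensorBi O) F :=
  have := h.1
  have := h.2
  have := tR_additive F
  KFlat.isFlatObj_of_preservesHomology _ F

lemma isFlat_of_isFlatObj {F : ModSite.Mod O} (h : KFlat.IsFlatObj (ModSite.tensorBi O) F) :
    ModSite.IsFlat F :=
  isFlat_of_mono fun A B g _ => by
    have := tR_preservesZeroMorphisms F
    have hex : (ShortComplex.mk (0 : A ⟶ A) g zero_comp).Exact := by
      rw [ShortComplex.exact_iff_mono _ rfl]
      infer_instance
    exact (h _ hex).mono_g ((tR F).map_zero A A)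

instance preservesHomology_freeSheaf (U : C) :
    (((ModSite.tensorBi O).flip.obj (freeSheaf O U))).PreservesHomology :=
  (isFlatObj_of_isFlat (isFlat_freeSheaf U)).preservesHomology _

lemma freeSheaf_separates {X Y : ModSite.Mod O} (f g : X ⟶ Y)
    (h : ∀ (U : C) (a : freeSheaf O U ⟶ X), a ≫ f = a ≫ g) : f = g := by
  apply (SheafOfModules.forget (ModSite.ringSh O)).map_injective
  refine PresheafOfModules.freeYoneda.isSeparating _ _ _ fun G hG k => ?_
  obtain ⟨U⟩ := hG
  revert k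
  intro (k : (PresheafOfModules.free (O.obj ⋙ forget₂ CommRingCat RingCat)).obj (yoneda.obj U) ⟶
    (forgetPM O).obj X)
  have h' := congrArg ((adjn O).homEquiv _ _) (h U (((adjn O).homEquiv _ _).symm k))
  rw [Adjunction.homEquiv_naturality_right, Adjunction.homEquiv_naturality_right,
    Equiv.apply_symm_apply] at h'
  exact h'

lemma isKFlat_iff (K : CochainComplex (ModSite.Mod O) ℤ) :
    ModSite.IsKFlat K ↔ KFlat.FlatR (ModSite.tensorBi O) K := Iff.rfl

lemma flatL_site {K : CochainComplex (ModSite.Mod O) ℤ} (hK : KFlat.FlatR (ModSite.tensorBi O) K) :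
    KFlat.FlatL (ModSite.tensorBi O) K :=
  flatL_of_flatR _ tensorFlipIso K hK

lemma isKFlat_of_boundedAbove (K : CochainComplex (ModSite.Mod O) ℤ) (b : ℤ) (hb : K.IsStrictlyLE b)
    (hflat : ∀ n : ℤ, ModSite.IsFlat (K.X n)) : ModSite.IsKFlat K :=
  KFlat.flatR_of_boundedAbove K (ModSite.tensorBi O) b
    (fun n hn => CochainComplex.isZero_of_isStrictlyLE K b n hn) fun n => isFlatObj_of_isFlat (hflat n)

lemma quasiIso_tensor_left {P Q : CochainComplex (ModSite.Mod O) ℤ} (α : P ⟶ Q) (hα : QuasiIso α)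
    (hP : ModSite.IsKFlat P) (hQ : ModSite.IsKFlat Q) (F : CochainComplex (ModSite.Mod O) ℤ) :
    QuasiIso (((ModSite.tensorCx O).obj F).map α) :=
  KFlat.quasiIso_tensR_map (ModSite.tensorBi O) (fun U : C => freeSheaf O U) freeSheaf_separates
    (fun _ => flatL_site) hP hQ α hα F

lemma exists_resolution (G : CochainComplex (ModSite.Mod O) ℤ) :
    ∃ (K : CochainComplex (ModSite.Mod O) ℤ) (q : K ⟶ G), ModSite.IsKFlat K ∧
      (∀ n : ℤ, ModSite.IsFlat (K.X n)) ∧ QuasiIso q ∧ ∀ n : ℤ, Epi (q.f n) := by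
  obtain ⟨K, q, hK, ht, hq, he⟩ := KFlat.exists_epi_resolution (ModSite.tensorBi O)
    (fun U : C => freeSheaf O U) freeSheaf_separates G
  exact ⟨K, q, hK, fun n => isFlat_of_isFlatObj (ht n), hq, he⟩

lemma exists_factor {K L : CochainComplex (ModSite.Mod O) ℤ} (a : K ⟶ L) (hK : ModSite.IsKFlat K) :
    ∃ (N : CochainComplex (ModSite.Mod O) ℤ) (b : K ⟶ N) (c : N ⟶ L), ModSite.IsKFlat N ∧ QuasiIso c ∧
      Nonempty (Homotopy a (b ≫ c)) ∧
      ((∀ n : ℤ, ModSite.IsFlat (K.X n)) → ∀ n : ℤ, ModSite.IsFlat (N.X n)) := by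
  obtain ⟨N, b, c, hN, hc, hbc, ht⟩ := KFlat.exists_factorization (ModSite.tensorBi O)
    (fun U : C => freeSheaf O U) freeSheaf_separates a hK
  exact ⟨N, b, c, hN, hc, ⟨Homotopy.ofEq hbc.symm⟩,
    fun h n => isFlat_of_isFlatObj (ht (fun m => isFlatObj_of_isFlat (h m)) n)⟩

lemma two_out_of_three (S : ShortComplex (CochainComplex (ModSite.Mod O) ℤ)) (hS : S.ShortExact)
    (h3 : ∀ n : ℤ, ModSite.IsFlat (S.X₃.X n)) :
    (ModSite.IsKFlat S.X₁ → ModSite.IsKFlat S.X₂ → ModSite.IsKFlat S.X₃) ∧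
    (ModSite.IsKFlat S.X₁ → ModSite.IsKFlat S.X₃ → ModSite.IsKFlat S.X₂) ∧
    (ModSite.IsKFlat S.X₂ → ModSite.IsKFlat S.X₃ → ModSite.IsKFlat S.X₁) := by
  have hsum : ∀ (M : CochainComplex (ModSite.Mod O) ℤ) (p q : ℤ),
      ((S.map (eval (ModSite.Mod O) (ComplexShape.up ℤ) q)).map
        ((ModSite.tensorBi O).obj (M.X p))).ShortExact := fun M p q =>
    shortExact_map_tL (S := S.map (eval (ModSite.Mod O) (ComplexShape.up ℤ) q))
      (hS.map_of_exact (eval (ModSite.Mod O) (ComplexShape.up ℤ) q)) (h3 q) (M.X p)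
  have h : ∀ M : CochainComplex (ModSite.Mod O) ℤ,
      (S.map (KFlat.tensR (ModSite.tensorBi O) M)).ShortExact := fun M =>
    shortExact_tensR_of_summands (ModSite.tensorBi O) M S (hsum M)
  have := flatR_two_out_of_three (ModSite.tensorBi O) S fun M _ => h M
  exact this

lemma cone_two_out_of_three {K₁ K₂ : CochainComplex (ModSite.Mod O) ℤ} (φ : K₁ ⟶ K₂) :
    (ModSite.IsKFlat K₁ → ModSite.IsKFlat K₂ → ModSite.IsKFlat (CochainComplex.mappingCone φ)) ∧
    (ModSite.IsKFlat K₁ → ModSite.IsKFlat (CochainComplex.mappingCone φ) → ModSite.IsKFlat K₂) ∧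
    (ModSite.IsKFlat K₂ → ModSite.IsKFlat (CochainComplex.mappingCone φ) → ModSite.IsKFlat K₁) :=
  ⟨fun h1 h2 => KFlat.FlatR.mappingCone (ModSite.tensorBi O) φ h1 h2,
    (flatR_cone_two_out_of_three (ModSite.tensorBi O) φ).1,
    (flatR_cone_two_out_of_three (ModSite.tensorBi O) φ).2⟩

lemma isKFlat_colimit (K : ℕ ⥤ CochainComplex (ModSite.Mod O) ℤ)
    (hK : ∀ n : ℕ, ModSite.IsKFlat (K.obj n)) : ModSite.IsKFlat (colimit K) :=
  KFlat.FlatR.colimit (ModSite.tensorBi O) K hK

end Groth.Agent.ModGroth
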