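import Groth.Prelude.Def_DCoh4
import Groth.Prelude.Def_FlatMod2
import Groth.Agent.ModGroth.KFlatSite
import Groth.Agent.ModGroth.FlatStalkConv

/-!
# K-flat complexes on a scheme
-/

universe u

open CategoryTheory CategoryTheory.Limits AlgebraicGeometry

namespace Groth.Agent.ModGroth

variable {X : Scheme.{u}}

/-- Stalkwise flatness is flatness. -/
lemma isFlat_iff_flatMod (M : X.Modules) :
    ModSite.IsFlat (O := X.sheaf) M ↔ FlatMod.IsFlat M :=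
  Stalk.isFlat_iff_flat_stalks (O := X.sheaf) M

lemma scheme_isKFlat_of_boundedAbove (K : CochainComplex X.Modules ℤ) (b : ℤ) (hb : K.IsStrictlyLE b)
    (hflat : ∀ n : ℤ, FlatMod.IsFlat (K.X n)) : DCoh.IsKFlat K :=
  isKFlat_of_boundedAbove (O := X.sheaf) K b hb fun n => (isFlat_iff_flatMod _).2 (hflat n)

lemma scheme_exists_resolution (G : CochainComplex X.Modules ℤ) :
    ∃ (K : CochainComplex X.Modules ℤ) (q : K ⟶ G), DCoh.IsKFlat K ∧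
      (∀ n : ℤ, FlatMod.IsFlat (K.X n)) ∧ QuasiIso q ∧ ∀ n : ℤ, Epi (q.f n) := by
  obtain ⟨K, q, h1, h2, h3, h4⟩ := exists_resolution (O := X.sheaf) G
  exact ⟨K, q, h1, fun n => (isFlat_iff_flatMod _).1 (h2 n), h3, h4⟩

lemma scheme_exists_factor {K L : CochainComplex X.Modules ℤ} (a : K ⟶ L) (hK : DCoh.IsKFlat K) :
    ∃ (N : CochainComplex X.Modules ℤ) (b : K ⟶ N) (c : N ⟶ L), DCoh.IsKFlat N ∧ QuasiIso c ∧
      Nonempty (Homotopy a (b ≫ c)) ∧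
      ((∀ n : ℤ, FlatMod.IsFlat (K.X n)) → ∀ n : ℤ, FlatMod.IsFlat (N.X n)) := by
  obtain ⟨N, b, c, h1, h2, h3, h4⟩ := exists_factor (O := X.sheaf) a hK
  exact ⟨N, b, c, h1, h2, h3, fun h n => (isFlat_iff_flatMod _).1
    (h4 (fun m => (isFlat_iff_flatMod _).2 (h m)) n)⟩

lemma scheme_two_out_of_three (S : ShortComplex (CochainComplex X.Modules ℤ)) (hS : S.ShortExact)
    (h3 : ∀ n : ℤ, FlatMod.IsFlat (S.X₃.X n)) :
    (DCoh.IsKFlat S.X₁ → DCoh.IsKFlat S.X₂ → DCoh.IsKFlat S.X₃) ∧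
    (DCoh.IsKFlat S.X₁ → DCoh.IsKFlat S.X₃ → DCoh.IsKFlat S.X₂) ∧
    (DCoh.IsKFlat S.X₂ → DCoh.IsKFlat S.X₃ → DCoh.IsKFlat S.X₁) :=
  two_out_of_three (O := X.sheaf) S hS fun n => (isFlat_iff_flatMod _).2 (h3 n)

end Groth.Agent.ModGroth
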