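import Groth.Prelude.Def_DTor2
import Groth.Agent.ModGroth.KFlatScheme
import Groth.Agent.ModGroth.DerivedLeft

/-!
# Derived tensor products on sheaves of modules
-/

universe u

open CategoryTheory CategoryTheory.Limits HomologicalComplex AlgebraicGeometry

attribute [local instance] HasDerivedCategory.standard

namespace Groth.Agent.ModGroth

lemma quasiIso_of_acyclic_mappingCone {C : Type*} [Category C] [Abelian C] {K L : CochainComplex C ℤ}
    (φ : K ⟶ L) (h : (CochainComplex.mappingCone φ).Acyclic) : QuasiIso φ := by
  have := ((HomotopyCategory.subcategoryAcyclic C).trW_iff_of_distinguished _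
    (HomotopyCategory.mappingCone_triangleh_distinguished φ)).2
      ((HomotopyCategory.quotient_obj_mem_subcategoryAcyclic_iff_acyclic _).2 h)
  rw [← HomotopyCategory.quasiIso_eq_trW_subcategoryAcyclic] at this
  exact (mem_quasiIso_iff _).1 ((HomotopyCategory.quotient_map_mem_quasiIso_iff φ).1 this)

variable {C : Type u} [SmallCategory C] {J : GrothendieckTopology C} {O : Sheaf J CommRingCat.{u}}

/-- An acyclic K-flat complex stays acyclic after tensoring with anything. -/
lemma isZero_homology_tensor_of_acyclic {K : CochainComplex (ModSite.Mod O) ℤ} (hK : ModSite.IsKFlat K)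
    (hac : K.Acyclic) (L : CochainComplex (ModSite.Mod O) ℤ) (i : ℤ) :
    IsZero ((((ModSite.tensorCx O).obj L).obj K).homology i) := by
  have h0 : IsZero (HomologicalComplex.zero : CochainComplex (ModSite.Mod O) ℤ) := isZero_zero
  have hz : ModSite.IsKFlat (HomologicalComplex.zero : CochainComplex (ModSite.Mod O) ℤ) :=
    KFlat.FlatR.of_isZero (ModSite.tensorBi O) h0
  have hq : QuasiIso (0 : (HomologicalComplex.zero : CochainComplex (ModSite.Mod O) ℤ) ⟶ K) := by
    rw [quasiIso_iff]
    intro n
    rw [quasiIsoAt_iff_isIso_homologyMap]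
    exact ⟨0, (Functor.map_isZero (homologyFunctor _ _ n) h0).eq_of_src _ _,
      (((exactAt_iff_isZero_homology _ _).1 (hac n))).eq_of_src _ _⟩
  have hq' := quasiIso_tensor_left _ hq hz hK L
  have hs : IsZero (((ModSite.tensorCx O).obj L).obj (HomologicalComplex.zero)) :=
    (KFlat.tensR (ModSite.tensorBi O) L).map_isZero h0
  have : IsIso (homologyMap (((ModSite.tensorCx O).obj L).map
    (0 : (HomologicalComplex.zero : CochainComplex (ModSite.Mod O) ℤ) ⟶ K)) i) :=
    (quasiIsoAt_iff_isIso_homologyMap _ i).1 (hq'.quasiIsoAt i)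
  exact (Functor.map_isZero (homologyFunctor _ _ i) hs).of_iso (asIso (homologyMap
    (((ModSite.tensorCx O).obj L).map (0 : (HomologicalComplex.zero : CochainComplex (ModSite.Mod O) ℤ) ⟶ K)) i)).symm

lemma isZero_homology_tensor_of_acyclic' {K : CochainComplex (ModSite.Mod O) ℤ} (hK : ModSite.IsKFlat K)
    (hac : K.Acyclic) (L : CochainComplex (ModSite.Mod O) ℤ) (i : ℤ) :
    IsZero ((((ModSite.tensorCx O).obj K).obj L).homology i) :=
  (isZero_homology_tensor_of_acyclic hK hac L i).of_iso
    ((homologyFunctor _ _ i).mapIso (cxSymm (ModSite.tensorBi O) tensorFlipIso K L))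

/-- A K-flat acyclic complex stays acyclic after tensoring termwise with a module. -/
lemma acyclic_map_tR {K : CochainComplex (ModSite.Mod O) ℤ} (hK : ModSite.IsKFlat K)
    (hac : K.Acyclic) (M : ModSite.Mod O) :
    ((((ModSite.tensorBi O).flip.obj M).mapHomologicalComplex (ComplexShape.up ℤ)).obj K).Acyclic :=
  fun i => by
    rw [exactAt_iff_isZero_homology]
    exact (isZero_homology_tensor_of_acyclic' hK hac ((single _ (ComplexShape.up ℤ) 0).obj M) i).of_iso
      ((homologyFunctor _ _ i).mapIso (KFlat.singleIso (ModSite.tensorBi O) K M))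

variable (O) in
/-- K-flat resolutions on a ringed site. -/
noncomputable def kres : KFlat.FunctorialRes (HomologicalComplex.quasiIso (ModSite.Mod O) (ComplexShape.up ℤ)) :=
  KFlat.resolution (ModSite.tensorBi O) (fun U : C => freeSheaf O U) freeSheaf_separates

lemma kres_good (K : CochainComplex (ModSite.Mod O) ℤ) :
    (kres O).good K ↔ ModSite.IsKFlat K := Iff.rfl

instance additive_flip_obj (M : ModSite.Mod O) : ((ModSite.tensorBi O).flip.obj M).Additive := tR_additive M

/-- Tensoring with a module respects quasi-isomorphisms of K-flat complexes. -/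
lemma goodInverts_tR (M : ModSite.Mod O) :
    DerivedLeft.GoodInverts ((ModSite.tensorBi O).flip.obj M) (kres O) := fun K L f hK hL hf => by
  refine quasiIso_of_acyclic_mappingCone _ ?_
  exact fun i => ((acyclic_map_tR (KFlat.FlatR.mappingCone (ModSite.tensorBi O) f hK hL)
    (KFlat.acyclic_mappingCone_of_quasiIso f) M) i).of_iso
      (CochainComplex.mappingCone.mapHomologicalComplexIso f ((ModSite.tensorBi O).flip.obj M))

section Scheme

variable {X : Scheme.{u}}

variable (X) in
/-- K-flat resolutions on a scheme. -/
noncomputable def kresX : KFlat.FunctorialRes (HomologicalComplex.quasiIso X.Modules (ComplexShape.up ℤ)) :=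
  kres X.sheaf

lemma goodInverts_tensorRightMod (M : X.Modules) :
    DerivedLeft.GoodInverts (DCoh.tensorRightMod M) (kresX X) := fun K L f hK hL hf => by
  have h := goodInverts_tR M f hK hL hf
  exact h

lemma hasLTensorMod (M : X.Modules) : DCoh.HasLTensorMod M :=
  DerivedLeft.hasLeftDerivedFunctor (goodInverts_tensorRightMod M)

/-- The derived tensor product is computed by K-flat complexes. -/
noncomputable def ltensorValueIso (M : X.Modules) [DCoh.HasLTensorMod M] {K : CochainComplex X.Modules ℤ}
    (hK : DCoh.IsKFlat K) :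
    (DCoh.LTensorMod M).obj (DCoh.toD X K) ≅
      DCoh.toD X (((DCoh.tensorRightMod M).mapHomologicalComplex (ComplexShape.up ℤ)).obj K) :=
  DerivedLeft.valueIso (hK := ‹DCoh.HasLTensorMod M›) (goodInverts_tensorRightMod M) hK

end Scheme

end Groth.Agent.ModGroth
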