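import Groth.Agent.ModGroth.CokerFlat
import Groth.Agent.ModGroth.LTensor
import Mathlib.Algebra.Homology.Embedding.CochainComplex

/-!
# Truncating complexes of flat modules with bounded Tor
-/

universe u

open CategoryTheory CategoryTheory.Limits HomologicalComplex MonoidalCategory

namespace Groth.Agent.ModGroth

section Generic

variable {A : Type*} [Category A] [Abelian A] (K : CochainComplex A ℤ)

/-- `Z^i ⟶ K^i ⟶ Z^{i+1}`. -/
noncomputable def cycSc (i j : ℤ) : ShortComplex A :=
  ShortComplex.mk (K.iCycles i) (K.toCycles i j)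
    (by rw [← cancel_mono (K.iCycles j), Category.assoc, toCycles_i, iCycles_d, zero_comp])

lemma shortExact_cycSc {i j k : ℤ} (hij : i + 1 = j) (hjk : j + 1 = k) (hex : K.ExactAt j) :
    (cycSc K i j).ShortExact where
  exact := by
    rw [ShortComplex.exact_iff_exact_up_to_refinements]
    intro U (x : U ⟶ K.X i) (hx : x ≫ K.toCycles i j = 0)
    have h2 : x ≫ K.d i j = 0 := by
      rw [← K.toCycles_i i j, reassoc_of% hx, zero_comp]
    refine ⟨U, 𝟙 U, inferInstance, K.liftCycles x j (by simp; omega) h2, ?_⟩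
    exact (Category.id_comp x).trans (K.liftCycles_i x j (by simp; omega) h2).symm
  mono_f := inferInstanceAs (Mono (K.iCycles i))
  epi_g := by
    change Epi (K.toCycles i j)
    rw [epi_iff_surjective_up_to_refinements]
    intro U z
    obtain ⟨V, e, he, (y : V ⟶ K.X i), (hy : e ≫ z ≫ K.iCycles j = y ≫ K.d i j)⟩ :=
      ((exactAt_iff' _ i j k (by simp; omega) (by simp; omega)).1
      hex).exact_up_to_refinements (z ≫ K.iCycles j) (by
        change (z ≫ K.iCycles j) ≫ K.d j k = 0
        rw [Category.assoc, iCycles_d, comp_zero])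
    exact ⟨V, e, he, y, by
      rw [← cancel_mono (K.iCycles j), Category.assoc, Category.assoc, toCycles_i]
      exact hy⟩

/-- Cokernel of `K^h ⟶ K^i` as cycles, when exact at `i` and `i + 1`. -/
noncomputable def cokerIsoCycles {h i j k : ℤ} (hhi : h + 1 = i) (hij : i + 1 = j) (hjk : j + 1 = k)
    (hi : K.ExactAt i) (hj : K.ExactAt j) : cokernel (K.d h i) ≅ K.cycles j :=
  have hz : K.d h i ≫ K.toCycles i j = 0 := by
    rw [← cancel_mono (K.iCycles j), Category.assoc, toCycles_i, d_comp_d, zero_comp]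
  have hex : (ShortComplex.mk (K.d h i) (K.toCycles i j) hz).Exact := by
    rw [ShortComplex.exact_iff_exact_up_to_refinements]
    intro U (x : U ⟶ K.X i) (hx : x ≫ K.toCycles i j = 0)
    exact ((exactAt_iff' _ h i j (by simp; omega) (by simp; omega)).1 hi).exact_up_to_refinements x (by
      change x ≫ K.d i j = 0
      rw [← K.toCycles_i i j, reassoc_of% hx, zero_comp])
  have : Epi (K.toCycles i j) := (shortExact_cycSc K hij hjk hj).epi_g
  have : Epi (ShortComplex.mk (K.d h i) (K.toCycles i j) hz).g := this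
  (cokernelIsCokernel (K.d h i)).coconePointUniqueUpToIso hex.gIsCokernel

end Generic

variable {C : Type u} [SmallCategory C] {J : GrothendieckTopology C} {O : Sheaf J CommRingCat.{u}}

variable (O) in
/-- The unit. -/
noncomputable abbrev unitObj : ModSite.Mod O := (sh O).obj (𝟙_ (PM O))

/-- `- ⊗ O ≅ id`. -/
noncomputable def unitTR : tR (unitObj O) ≅ 𝟭 (ModSite.Mod O) :=
  (tRsh (𝟙_ (PM O))).symm ≪≫
    Functor.isoWhiskerLeft (fg O) (Functor.isoWhiskerRight (rightUnitorNatIso (PM O)) (sh O)) ≪≫
      @asIso _ _ _ _ (adjn O).counit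
        (inferInstanceAs (IsIso (PresheafOfModules.sheafificationAdjunction (𝟙 (ModSite.ringSh O).obj)).counit))

/-- Tor vanishing gives vanishing of cohomology. -/
lemma exactAt_of_tor (K : CochainComplex (ModSite.Mod O) ℤ) (i : ℤ)
    (h : ∀ Q : ModSite.Mod O,
      ((((ModSite.tensorBi O).flip.obj Q).mapHomologicalComplex (ComplexShape.up ℤ)).obj K).ExactAt i) :
    K.ExactAt i :=
  (h (unitObj O)).of_iso
    ((NatIso.mapHomologicalComplex (unitTR (O := O)) (ComplexShape.up ℤ)).app K ≪≫
      (Functor.mapHomologicalComplexIdIso _ _).app K)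

set_option maxHeartbeats 1000000 in
/-- A K-flat complex of flat modules with Tor in `[a, b]` is represented by flat modules in `[a, b]`. -/
lemma exists_flat_rep (K : CochainComplex (ModSite.Mod O) ℤ) (hK : ModSite.IsKFlat K)
    (hflat : ∀ n, ModSite.IsFlat (K.X n)) (a b : ℤ) (hab : a ≤ b)
    (h : ∀ (Q : ModSite.Mod O) (i : ℤ), (i < a ∨ b < i) →
      ((((ModSite.tensorBi O).flip.obj Q).mapHomologicalComplex (ComplexShape.up ℤ)).obj K).ExactAt i) :
    ∃ (L T : CochainComplex (ModSite.Mod O) ℤ) (ι : L ⟶ K) (π : L ⟶ T), QuasiIso ι ∧ QuasiIso π ∧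
      (∀ n, ModSite.IsFlat (T.X n)) ∧ ∀ n : ℤ, (n < a ∨ b < n) → IsZero (T.X n) := by
  have hH : ∀ i : ℤ, (i < a ∨ b < i) → K.ExactAt i := fun i hi => exactAt_of_tor K i fun Q => h Q i hi
  have hC : ∀ i, b + 2 ≤ i → ModSite.IsFlat (K.cycles (i + 1)) := fun i hi =>
    isFlat_of_iso (cokerIsoCycles K (h := i - 1) (i := i) (j := i + 1) (k := i + 1 + 1) (by omega) rfl rfl
        (hH i (Or.inr (by omega))) (hH (i + 1) (Or.inr (by omega))))
      (isFlat_cokernel_d K (i - 2) (i - 1) i (by omega) (by omega) (hflat i)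
        (fun Q => h Q (i - 1) (Or.inr (by omega))))
  have hZ : ∀ i, b ≤ i → ModSite.IsFlat (K.cycles (i + 1)) → ModSite.IsFlat (K.cycles i) := fun i hi h1 =>
    isFlat_left (shortExact_cycSc K (i := i) (j := i + 1) (k := i + 1 + 1) rfl rfl
      (hH (i + 1) (Or.inr (by omega)))) (hflat i) h1
  have hZb : ModSite.IsFlat (K.cycles b) :=
    hZ b le_rfl (hZ (b + 1) (by omega) (hZ (b + 1 + 1) (by omega) (hC (b + 1 + 1) (by omega))))
  let L := K.truncLE b
  have hLflat : ∀ n, ModSite.IsFlat (L.X n) := fun n => by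
    rcases lt_trichotomy n b with hn | hn | hn
    · exact isFlat_of_iso (CochainComplex.truncLEXIso K b n hn).symm (hflat n)
    · subst hn
      exact isFlat_of_iso (CochainComplex.truncLEXIsoCycles K n).symm hZb
    · exact isFlat_of_isZero (CochainComplex.isZero_of_isStrictlyLE _ b n hn)
  have hLK : ModSite.IsKFlat L := isKFlat_of_boundedAbove L b inferInstance hLflat
  have : K.IsLE b := (CochainComplex.isLE_iff K b).2 fun i hi => hH i (Or.inr hi)
  have hι : QuasiIso (K.ιTruncLE b) := inferInstance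
  have hLtor : ∀ (Q : ModSite.Mod O) (i : ℤ), (i < a ∨ b < i) →
      ((((ModSite.tensorBi O).flip.obj Q).mapHomologicalComplex (ComplexShape.up ℤ)).obj L).ExactAt i :=
    fun Q i hi => by
      have hq := goodInverts_tR Q (K.ιTruncLE b) hLK hK hι
      have := hq.quasiIsoAt i
      exact (exactAt_iff_of_quasiIsoAt
        ((((ModSite.tensorBi O).flip.obj Q).mapHomologicalComplex (ComplexShape.up ℤ)).map (K.ιTruncLE b)) i).2
          (h Q i hi)
  have : L.IsGE a := (CochainComplex.isGE_iff L a).2 fun i hi => exactAt_of_tor L i fun Q => hLtor Q i (Or.inl hi)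
  refine ⟨L, L.truncGE a, K.ιTruncLE b, L.πTruncGE a, hι, inferInstance, fun n => ?_, fun n hn => ?_⟩
  · rcases lt_trichotomy n a with hn | hn | hn
    · exact isFlat_of_isZero (CochainComplex.isZero_of_isStrictlyGE _ a n hn)
    · subst hn
      refine isFlat_of_iso (((cokernelIsCokernel (L.d (n - 1) n)).coconePointUniqueUpToIso
        (L.opcyclesIsCokernel (n - 1) n (by simp))) ≪≫ (CochainComplex.truncGEXIsoOpcycles L n).symm) ?_
      exact isFlat_cokernel_d L (n - 2) (n - 1) n (by omega) (by omega) (hLflat n)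
        fun Q => hLtor Q (n - 1) (Or.inl (by omega))
    · exact isFlat_of_iso (CochainComplex.truncGEXIso L a n hn).symm (hLflat n)
  · rcases hn with hn | hn
    · exact CochainComplex.isZero_of_isStrictlyGE _ a n hn
    · exact (CochainComplex.isZero_of_isStrictlyLE L b n hn).of_iso (CochainComplex.truncGEXIso L a n (by omega))

end Groth.Agent.ModGroth
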