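import Mathlib.Algebra.Category.ModuleCat.Sheaf.ChangeOfRings
import Mathlib.Algebra.Category.ModuleCat.Sheaf.PushforwardContinuous
import Mathlib.CategoryTheory.Adjunction.AdjointFunctorTheorems
import Mathlib.CategoryTheory.Abelian.GrothendieckCategory.Coseparator
import Mathlib.CategoryTheory.Sites.CoverLifting
import Mathlib.CategoryTheory.Adjunction.Limits
import Groth.Agent.ModGroth.Basic

/-!
# Functors between categories of sheaves of modules

Colimit preservation is detected on underlying abelian sheaves, and colimit preserving functors out
of a category of sheaves of modules on a small site are left adjoints.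
-/

universe u v w u' v'

open CategoryTheory Limits

namespace Groth.Agent.ModGroth

/-- A colimit preserving functor out of a Grothendieck abelian category is a left adjoint. -/
lemma isLeftAdjoint_of_preservesColimits {A : Type w} [Category.{v} A] [Abelian A]
    [IsGrothendieckAbelian.{v} A] {B : Type u'} [Category.{v} B] (F : A ⥤ B)
    [PreservesColimitsOfSize.{v, v} F] : F.IsLeftAdjoint :=
  isLeftAdjoint_of_preservesColimits_of_isSeparating (isSeparator_separator A) F

section

variable {C : Type u} [SmallCategory C] {J : GrothendieckTopology C} (R : Sheaf J RingCat.{u})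

lemma toSheaf_preservesLimits : PreservesLimitsOfSize.{u, u} (SheafOfModules.toSheaf.{u} R) :=
  have : PreservesLimitsOfSize.{u, u}
      (SheafOfModules.toSheaf.{u} R ⋙ sheafToPresheaf J AddCommGrpCat.{u}) :=
    inferInstanceAs (PreservesLimitsOfSize.{u, u}
      (SheafOfModules.forget.{u} R ⋙ PresheafOfModules.toPresheaf R.obj))
  preservesLimits_of_reflects_of_preserves _ (sheafToPresheaf J AddCommGrpCat.{u})

lemma toSheaf_reflectsColimits : ReflectsColimitsOfSize.{u, u} (SheafOfModules.toSheaf.{u} R) :=
  have := toSheaf_preservesColimits R
  reflectsColimits_of_reflectsIsomorphisms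

lemma toSheaf_reflectsLimits : ReflectsLimitsOfSize.{u, u} (SheafOfModules.toSheaf.{u} R) :=
  have := toSheaf_preservesLimits R
  reflectsLimits_of_reflectsIsomorphisms

/-- A functor into sheaves of modules preserves colimits if it does so after forgetting to
abelian sheaves. -/
lemma preservesColimits_of_comp_toSheaf {A : Type w} [Category.{v} A]
    (G : A ⥤ SheafOfModules.{u} R)
    [PreservesColimitsOfSize.{u, u} (G ⋙ SheafOfModules.toSheaf.{u} R)] :
    PreservesColimitsOfSize.{u, u} G :=
  have := toSheaf_reflectsColimits R
  preservesColimits_of_reflects_of_preserves G (SheafOfModules.toSheaf.{u} R)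

/-- A functor into sheaves of modules preserves limits if it does so after forgetting to
abelian sheaves. -/
lemma preservesLimits_of_comp_toSheaf {A : Type w} [Category.{v} A]
    (G : A ⥤ SheafOfModules.{u} R)
    [PreservesLimitsOfSize.{u, u} (G ⋙ SheafOfModules.toSheaf.{u} R)] :
    PreservesLimitsOfSize.{u, u} G :=
  have := toSheaf_reflectsLimits R
  preservesLimits_of_reflects_of_preserves G (SheafOfModules.toSheaf.{u} R)

/-- A colimit preserving functor out of sheaves of modules on a small site is a left adjoint. -/
lemma sheaf_isLeftAdjoint {B : Type w} [Category.{u} B] (F : SheafOfModules.{u} R ⥤ B)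
    [PreservesColimitsOfSize.{u, u} F] : F.IsLeftAdjoint :=
  have := sheaf_isGrothendieckAbelian R
  isLeftAdjoint_of_preservesColimits F

end

section RestrictScalars

variable {C : Type u} [SmallCategory C] {J : GrothendieckTopology C} {R R' : Sheaf J RingCat.{u}}
  (α : R ⟶ R')

/-- Restriction of scalars does not change the underlying abelian sheaf. -/
noncomputable def restrictScalarsCompToSheaf :
    SheafOfModules.restrictScalars.{u} α ⋙ SheafOfModules.toSheaf.{u} R ≅
      SheafOfModules.toSheaf.{u} R' :=
  Iso.refl _

lemma restrictScalars_preservesColimits :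
    PreservesColimitsOfSize.{u, u} (SheafOfModules.restrictScalars.{u} α) :=
  have := toSheaf_preservesColimits R'
  have : PreservesColimitsOfSize.{u, u}
      (SheafOfModules.restrictScalars.{u} α ⋙ SheafOfModules.toSheaf.{u} R) :=
    preservesColimits_of_natIso (restrictScalarsCompToSheaf α).symm
  preservesColimits_of_comp_toSheaf R _

lemma restrictScalars_preservesLimits :
    PreservesLimitsOfSize.{u, u} (SheafOfModules.restrictScalars.{u} α) :=
  have := toSheaf_preservesLimits R'
  have : PreservesLimitsOfSize.{u, u}
      (SheafOfModules.restrictScalars.{u} α ⋙ SheafOfModules.toSheaf.{u} R) :=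
    preservesLimits_of_natIso (restrictScalarsCompToSheaf α).symm
  preservesLimits_of_comp_toSheaf R _

lemma restrictScalars_reflectsIsomorphisms :
    (SheafOfModules.restrictScalars.{u} α).ReflectsIsomorphisms :=
  have : (SheafOfModules.restrictScalars.{u} α ⋙
      SheafOfModules.toSheaf.{u} R).ReflectsIsomorphisms :=
    inferInstanceAs (SheafOfModules.toSheaf.{u} R').ReflectsIsomorphisms
  reflectsIsomorphisms_of_comp _ (SheafOfModules.toSheaf.{u} R)

end RestrictScalars

section Pushforward

variable {C : Type u} [SmallCategory C] {D : Type u} [SmallCategory D]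
  {J : GrothendieckTopology C} {K : GrothendieckTopology D} {F : C ⥤ D} [F.IsContinuous J K]
  {S : Sheaf J RingCat.{u}} {R : Sheaf K RingCat.{u}}
  (φ : S ⟶ (F.sheafPushforwardContinuous RingCat.{u} J K).obj R)

/-- Pushforward of modules is pushforward of the underlying abelian sheaves. -/
noncomputable def pushforwardCompToSheaf :
    SheafOfModules.pushforward.{u} φ ⋙ SheafOfModules.toSheaf.{u} S ≅
      SheafOfModules.toSheaf.{u} R ⋙ F.sheafPushforwardContinuous AddCommGrpCat.{u} J K :=
  Iso.refl _

lemma pushforward_preservesColimits_of_isCocontinuous [F.IsCocontinuous J K] :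
    PreservesColimitsOfSize.{u, u} (SheafOfModules.pushforward.{u} φ) :=
  have := toSheaf_preservesColimits R
  have : PreservesColimitsOfSize.{u, u} (F.sheafPushforwardContinuous AddCommGrpCat.{u} J K) :=
    (F.sheafAdjunctionCocontinuous AddCommGrpCat.{u} J K).leftAdjoint_preservesColimits
  have : PreservesColimitsOfSize.{u, u}
      (SheafOfModules.pushforward.{u} φ ⋙ SheafOfModules.toSheaf.{u} S) :=
    preservesColimits_of_natIso (pushforwardCompToSheaf φ).symm
  preservesColimits_of_comp_toSheaf S _

end Pushforward

end Groth.Agent.ModGroth
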