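import Groth.Prelude.Def_ModSite
import Groth.Agent.ModGroth.Functors

/-!
# Tensoring with a presheaf of modules preserves local bijections

If `f : M ⟶ M'` is locally bijective then so is `f ▷ N`. Hence sheafification commutes with the
tensor product, and tensoring with a sheaf of modules preserves colimits.
-/

universe u

open CategoryTheory Limits Opposite MonoidalCategory
open scoped TensorProduct

namespace Groth.Agent.ModGroth

variable {C : Type u} [SmallCategory C] {J : GrothendieckTopology C} {O : Sheaf J CommRingCat.{u}}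

/-- Presheaves of modules over a sheaf of commutative rings. -/
abbrev PM (O : Sheaf J CommRingCat.{u}) : Type (u + 1) :=
  PresheafOfModules.{u} (O.obj ⋙ forget₂ CommRingCat.{u} RingCat.{u})

/-- Underlying map of abelian presheaves. -/
noncomputable abbrev pmap {M M' : PM O} (f : M ⟶ M') : M.presheaf ⟶ M'.presheaf :=
  (PresheafOfModules.toPresheaf _).map f

/-- Restriction maps of a presheaf of modules, as additive maps. -/
noncomputable def res (M : PM O) {V W : Cᵒᵖ} (g : V ⟶ W) : M.obj V →+ M.obj W :=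
  (M.presheaf.map g).hom

lemma res_comp (M : PM O) {V W Z : Cᵒᵖ} (g : V ⟶ W) (h : W ⟶ Z) (x : M.obj V) :
    res M (g ≫ h) x = res M h (res M g x) :=
  PresheafOfModules.map_comp_apply M g h x

lemma res_id (M : PM O) {V : Cᵒᵖ} (x : M.obj V) : res M (𝟙 V) x = x :=
  ConcreteCategory.congr_hom (M.presheaf.map_id V) x

lemma res_smul (M : PM O) {V W : Cᵒᵖ} (g : V ⟶ W) (r : O.obj.obj V) (x : M.obj V) :
    res M g (r • x) = (O.obj.map g).hom r • res M g x :=
  PresheafOfModules.map_smul M g r x

lemma res_app {M M' : PM O} (f : M ⟶ M') {V W : Cᵒᵖ} (g : V ⟶ W) (x : M.obj V) :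
    f.app W (res M g x) = res M' g (f.app V x) :=
  PresheafOfModules.naturality_apply f g x

section Bij

variable {M M' : PM O} (f : M ⟶ M') (N : PM O)

/-- The image of a pure tensor in the associated sheaf. -/
noncomputable def tm {V : Cᵒᵖ} (m : M.obj V) (n : N.obj V) :
    ((CategoryTheory.sheafify J (M ⊗ N : PM O).presheaf).obj V : Type u) :=
  (CategoryTheory.toSheafify J (M ⊗ N : PM O).presheaf).app V (m ⊗ₜ[O.obj.obj V] n)

lemma tm_map {V W : Cᵒᵖ} (g : V ⟶ W) (m : M.obj V) (n : N.obj V) :
    (CategoryTheory.sheafify J (M ⊗ N : PM O).presheaf).map g (tm N m n) =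
      tm N (res M g m) (res N g n) :=
  (NatTrans.naturality_apply (CategoryTheory.toSheafify J (M ⊗ N : PM O).presheaf) g
    (m ⊗ₜ[O.obj.obj V] n)).symm

lemma tm_add_left {V : Cᵒᵖ} (a b : M.obj V) (n : N.obj V) :
    tm (J := J) N (a + b) n = tm N a n + tm N b n :=
  (congrArg ((CategoryTheory.toSheafify J (M ⊗ N : PM O).presheaf).app V)
    (TensorProduct.add_tmul a b n)).trans (map_add _ _ _)

lemma tm_add_right {V : Cᵒᵖ} (a : M.obj V) (n₁ n₂ : N.obj V) :
    tm (J := J) N a (n₁ + n₂) = tm N a n₁ + tm N a n₂ :=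
  (congrArg ((CategoryTheory.toSheafify J (M ⊗ N : PM O).presheaf).app V)
    (TensorProduct.tmul_add a n₁ n₂)).trans (map_add _ _ _)

lemma tm_smul {V : Cᵒᵖ} (r : O.obj.obj V) (a : M.obj V) (n : N.obj V) :
    tm (J := J) N (r • a) n = tm N a (r • n) :=
  congrArg ((CategoryTheory.toSheafify J (M ⊗ N : PM O).presheaf).app V)
    (TensorProduct.smul_tmul r a n)

lemma isSheaf_sheafify (P : Cᵒᵖ ⥤ AddCommGrpCat.{u}) :
    Presieve.IsSheaf J (CategoryTheory.sheafify J P ⋙ forget _) :=
  (isSheaf_iff_isSheaf_of_type J _).1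
    ((Presheaf.isSheaf_iff_isSheaf_forget J _ (forget _)).1
      ((presheafToSheaf J AddCommGrpCat.{u}).obj P).property)

lemma eq_of_locally {P : Cᵒᵖ ⥤ AddCommGrpCat.{u}} {V : Cᵒᵖ} {S : Sieve V.unop} (hS : S ∈ J V.unop)
    {x y : (CategoryTheory.sheafify J P).obj V}
    (h : ∀ ⦃W : C⦄ (g : W ⟶ V.unop), S g →
      (CategoryTheory.sheafify J P).map g.op x = (CategoryTheory.sheafify J P).map g.op y) :
    x = y :=
  ((isSheaf_sheafify P).isSeparated S hS).ext h

section

variable [Presheaf.IsLocallyInjective J (pmap f)]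

lemma tm_eq {V : Cᵒᵖ} {m m₁ : M.obj V} (h : f.app V m = f.app V m₁) (n : N.obj V) :
    tm N m n = tm N m₁ n :=
  eq_of_locally (Presheaf.equalizerSieve_mem J (pmap f) m m₁ h) fun W g hg => by
    rw [tm_map, tm_map]
    exact congrArg (tm N · _) hg

/-- `x` is the image of `m' ⊗ n` computed by lifting `m'` locally along `f`. -/
def IsVal {V : Cᵒᵖ} (m' : M'.obj V) (n : N.obj V)
    (x : (CategoryTheory.sheafify J (M ⊗ N : PM O).presheaf).obj V) : Prop :=
  ∀ (W : Cᵒᵖ) (g : V ⟶ W) (m : M.obj W), f.app W m = res M' g m' →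
    (CategoryTheory.sheafify J (M ⊗ N : PM O).presheaf).map g x = tm N m (res N g n)

variable [Presheaf.IsLocallySurjective J (pmap f)]

omit [Presheaf.IsLocallyInjective J (pmap f)] in
lemma exists_lift {V : Cᵒᵖ} (m' : M'.obj V) :
    ∃ S ∈ J V.unop, ∀ ⦃W : C⦄ (g : W ⟶ V.unop), S g →
      ∃ m : M.obj (op W), f.app (op W) m = res M' g.op m' :=
  ⟨Presheaf.imageSieve (U := V.unop) (pmap f) m', Presheaf.imageSieve_mem J (pmap f) (U := V) m',
    fun _ _ hg => hg⟩

omit [Presheaf.IsLocallyInjective J (pmap f)] in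
lemma IsVal.unique {V : Cᵒᵖ} {m' : M'.obj V} {n : N.obj V}
    {x y : (CategoryTheory.sheafify J (M ⊗ N : PM O).presheaf).obj V}
    (hx : IsVal f N m' n x) (hy : IsVal f N m' n y) : x = y := by
  obtain ⟨S, hS, hS'⟩ := exists_lift f m'
  refine eq_of_locally hS fun W g hg => ?_
  obtain ⟨m, hm⟩ := hS' g hg
  exact (hx _ g.op m hm).trans (hy _ g.op m hm).symm

lemma exists_isVal {V : Cᵒᵖ} (m' : M'.obj V) (n : N.obj V) : ∃ x, IsVal f N m' n x := by
  obtain ⟨S, hS, hS'⟩ := exists_lift f m'
  choose a ha using hS'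
  let y : Presieve.FamilyOfElements (CategoryTheory.sheafify J (M ⊗ N : PM O).presheaf ⋙ forget _)
      S.arrows := fun W g hg => tm N (a g hg) (res N g.op n)
  have hy : y.Compatible := by
    intro W₁ W₂ Z g₁ g₂ f₁ f₂ h₁ h₂ e
    change (CategoryTheory.sheafify J (M ⊗ N : PM O).presheaf).map g₁.op (tm N _ _) =
      (CategoryTheory.sheafify J (M ⊗ N : PM O).presheaf).map g₂.op (tm N _ _)
    rw [tm_map, tm_map, ← res_comp, ← res_comp,
      ← op_comp, ← op_comp, e]
    refine tm_eq f N ?_ _
    rw [res_app, res_app, ha, ha,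
      ← res_comp, ← res_comp,
      ← op_comp, ← op_comp, e]
  refine ⟨(isSheaf_sheafify _ S hS).amalgamate y hy, fun W g m hm => ?_⟩
  refine eq_of_locally (J.pullback_stable g.unop hS) fun Z h hh => ?_
  rw [← ConcreteCategory.comp_apply, ← Functor.map_comp, tm_map]
  refine ((isSheaf_sheafify _ S hS).valid_glue hy (h ≫ g.unop) hh).trans ?_
  change tm N _ (res N (g ≫ h.op) n) = _
  rw [res_comp]
  refine tm_eq f N ?_ _
  exact (ha (h ≫ g.unop) hh).trans
    (((res_app f h.op m).trans ((congrArg (res M' h.op) hm).trans (res_comp ..).symm)).symm)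

/-- The value on `(m', n)`. -/
noncomputable def val {V : Cᵒᵖ} (m' : M'.obj V) (n : N.obj V) :
    (CategoryTheory.sheafify J (M ⊗ N : PM O).presheaf).obj V :=
  (exists_isVal f N m' n).choose

lemma isVal_val {V : Cᵒᵖ} (m' : M'.obj V) (n : N.obj V) : IsVal f N m' n (val f N m' n) :=
  (exists_isVal f N m' n).choose_spec

lemma val_add_left {V : Cᵒᵖ} (m₁ m₂ : M'.obj V) (n : N.obj V) :
    val f N (m₁ + m₂) n = val f N m₁ n + val f N m₂ n := by
  refine (isVal_val f N _ n).unique f N (fun W g m hm => ?_)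
  obtain ⟨S, hS, hS'⟩ := exists_lift f (res M' g m₁)
  refine eq_of_locally hS fun Z h hh => ?_
  obtain ⟨a, ha⟩ := hS' h hh
  have h1 : f.app _ a = res M' (g ≫ h.op) m₁ := ha.trans (res_comp ..).symm
  have h2 : f.app _ (res M h.op m - a) = res M' (g ≫ h.op) m₂ := by
    rw [map_sub, h1, res_app, hm, ← res_comp,
      map_add, add_sub_cancel_left]
  rw [← ConcreteCategory.comp_apply, ← Functor.map_comp, map_add, isVal_val f N m₁ n _ _ a h1,
    isVal_val f N m₂ n _ _ _ h2, tm_map, ← res_comp]
  rw [← tm_add_left, add_sub_cancel]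

lemma val_add_right {V : Cᵒᵖ} (m' : M'.obj V) (n₁ n₂ : N.obj V) :
    val f N m' (n₁ + n₂) = val f N m' n₁ + val f N m' n₂ := by
  refine (isVal_val f N m' _).unique f N (fun W g m hm => ?_)
  rw [map_add, isVal_val f N m' n₁ _ _ m hm, isVal_val f N m' n₂ _ _ m hm, map_add, tm_add_right]

lemma val_smul {V : Cᵒᵖ} (r : O.obj.obj V) (m' : M'.obj V) (n : N.obj V) :
    val f N (r • m') n = val f N m' (r • n) := by
  refine (isVal_val f N _ n).unique f N (fun W g m hm => ?_)
  obtain ⟨S, hS, hS'⟩ := exists_lift f (res M' g m')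
  refine eq_of_locally hS fun Z h hh => ?_
  obtain ⟨a, ha⟩ := hS' h hh
  have h1 : f.app _ a = res M' (g ≫ h.op) m' := ha.trans (res_comp ..).symm
  rw [← ConcreteCategory.comp_apply, ← Functor.map_comp, isVal_val f N m' (r • n) _ _ a h1, tm_map,
    ← res_comp, res_smul]
  have h2 : f.app _ (res M h.op m) =
      f.app _ ((O.obj.map (g ≫ h.op)).hom r • a) := by
    rw [map_smul, h1, res_app, hm, ← res_comp]
    exact res_smul M' (g ≫ h.op) r m'
  rw [tm_eq f N h2]
  exact (tm_smul ..).symm

/-- The inverse of `f ▷ N` with values in the associated sheaf. -/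
noncomputable def psi (V : Cᵒᵖ) : (M'.obj V ⊗[O.obj.obj V] N.obj V) →+
    (CategoryTheory.sheafify J (M ⊗ N : PM O).presheaf).obj V :=
  TensorProduct.liftAddHom
    (AddMonoidHom.mk' (fun m' => AddMonoidHom.mk' (val f N m') (val_add_right f N m'))
      (fun a b => AddMonoidHom.ext (val_add_left f N a b)))
    (fun r m' n => val_smul f N r m' n)

lemma psi_whiskerRight (V : Cᵒᵖ) (z : M.obj V ⊗[O.obj.obj V] N.obj V) :
    psi f N V ((f ▷ N).app V z) = (CategoryTheory.toSheafify J (M ⊗ N : PM O).presheaf).app V z := by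
  induction z using TensorProduct.induction_on with
  | zero =>
    refine (congrArg (psi f N V) (map_zero ((f ▷ N).app V).hom)).trans ?_
    exact (map_zero _).trans (map_zero _).symm
  | tmul m n =>
    have h := isVal_val f N (f.app V m) n V (𝟙 V) m (res_id M' _).symm
    rw [CategoryTheory.Functor.map_id, res_id] at h
    exact h
  | add x y hx hy =>
    refine (congrArg (psi f N V) (map_add ((f ▷ N).app V).hom x y)).trans ?_
    exact (map_add _ _ _).trans ((congrArg₂ (· + ·) hx hy).trans (map_add _ _ _).symm)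

lemma isLocallyInjective_whiskerRight : Presheaf.IsLocallyInjective J (pmap (f ▷ N)) where
  equalizerSieve_mem {V} x y h :=
    Presheaf.equalizerSieve_mem J (CategoryTheory.toSheafify J (M ⊗ N : PM O).presheaf) x y
      ((psi_whiskerRight f N V x).symm.trans ((congrArg (psi f N V) h).trans
        (psi_whiskerRight f N V y)))

end

lemma isLocallySurjective_whiskerRight [Presheaf.IsLocallySurjective J (pmap f)] :
    Presheaf.IsLocallySurjective J (pmap (f ▷ N)) where
  imageSieve_mem {V} z := by
    change ((M'.obj (op V)) ⊗[O.obj.obj (op V)] (N.obj (op V))) at z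
    induction z using TensorProduct.induction_on with
    | zero =>
      refine J.superset_covering (fun W g _ => ⟨0, ?_⟩) (J.top_mem V)
      exact (map_zero _).trans (map_zero _).symm
    | tmul m' n =>
      refine J.superset_covering (fun W g hg => ?_) (Presheaf.imageSieve_mem J (pmap f) m')
      obtain ⟨m, hm⟩ := hg
      exact ⟨m ⊗ₜ[O.obj.obj (op W)] res N g.op n,
        congrArg (· ⊗ₜ[O.obj.obj (op W)] res N g.op n) hm⟩
    | add x y hx hy =>
      refine J.superset_covering (fun W g hg => ?_) (J.intersection_covering hx hy)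
      obtain ⟨⟨a, ha⟩, ⟨b, hb⟩⟩ := hg
      exact ⟨a + b, (map_add _ _ _).trans ((congrArg₂ (· + ·) ha hb).trans (map_add _ _ _).symm)⟩

end Bij

/-- Sheafification, on `PM O`. -/
noncomputable abbrev sh (O : Sheaf J CommRingCat.{u}) : PM O ⥤ ModSite.Mod O := ModSite.sheafify O

/-- The forgetful functor to `PM O`. -/
noncomputable abbrev forgetPM (O : Sheaf J CommRingCat.{u}) : ModSite.Mod O ⥤ PM O :=
  SheafOfModules.forget (ModSite.ringSh O) ⋙
    PresheafOfModules.restrictScalars (𝟙 (ModSite.ringSh O).obj)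

/-- The adjunction, on `PM O`. -/
noncomputable def adjn (O : Sheaf J CommRingCat.{u}) : sh O ⊣ forgetPM O :=
  PresheafOfModules.sheafificationAdjunction (𝟙 (ModSite.ringSh O).obj)

lemma isLocallyBijective_pmap_iff {M M' : PM O} (f : M ⟶ M') :
    IsIso ((sh O).map f) ↔
      Presheaf.IsLocallyInjective J (pmap f) ∧ Presheaf.IsLocallySurjective J (pmap f) := by
  rw [← isIso_iff_of_reflects_iso _ (SheafOfModules.toSheaf.{u} (ModSite.ringSh O)),
    ← J.W_iff_isLocallyBijective, J.W_iff]
  rfl

/-- Sheafification inverts `f ▷ N` when it inverts `f`. -/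
lemma isIso_sheafify_whiskerRight {M M' : PM O} (f : M ⟶ M') [IsIso ((sh O).map f)]
    (N : PM O) : IsIso ((sh O).map (f ▷ N)) := by
  obtain ⟨_, _⟩ := (isLocallyBijective_pmap_iff f).1 inferInstance
  exact (isLocallyBijective_pmap_iff _).2
    ⟨isLocallyInjective_whiskerRight f N, isLocallySurjective_whiskerRight f N⟩

/-- Sheafification inverts `N ◁ f` when it inverts `f`. -/
lemma isIso_sheafify_whiskerLeft {M M' : PM O} (f : M ⟶ M') [IsIso ((sh O).map f)]
    (N : PM O) : IsIso ((sh O).map (N ◁ f)) := by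
  have := isIso_sheafify_whiskerRight f N
  have e : N ◁ f = (β_ N M).hom ≫ f ▷ N ≫ (β_ N M').inv := by
    rw [← BraidedCategory.braiding_naturality_right_assoc, Iso.hom_inv_id, Category.comp_id]
  rw [e, Functor.map_comp, Functor.map_comp]
  infer_instance

/-- The unit of sheafification. -/
noncomputable abbrev eta (M : PM O) : M ⟶ (forgetPM O).obj ((sh O).obj M) :=
  (adjn O).unit.app M

instance isIso_sheafify_eta (M : PM O) : IsIso ((sh O).map (eta M)) :=
  have : IsIso ((adjn O).counit) :=
    inferInstanceAs (IsIso (PresheafOfModules.sheafificationAdjunction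
      (𝟙 (ModSite.ringSh O).obj)).counit)
  IsIso.of_isIso_fac_right ((adjn O).left_triangle_components M)

/-- Sheafification inverts `eta M ⊗ eta N`. -/
lemma isIso_sheafify_tensorHom_eta (M N : PM O) :
    IsIso ((sh O).map
      (MonoidalCategoryStruct.tensorHom (C := PM O) (eta M) (eta N))) := by
  have := isIso_sheafify_whiskerRight (eta M) N
  have := fun P : PM O => isIso_sheafify_whiskerLeft (eta N) P
  rw [MonoidalCategory.tensorHom_def, Functor.map_comp]
  infer_instance

/-- Tensoring with a sheaf of modules preserves colimits. -/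
lemma tensor_flip_preservesColimits (N : ModSite.Mod O) :
    PreservesColimitsOfSize.{u, u} ((ModSite.tensorBi O).flip.obj N) := by
  let adj := adjn O
  let N' : PM O := (SheafOfModules.forget (ModSite.ringSh O)).obj N
  let G : PM O ⥤ ModSite.Mod O := tensorRight N' ⋙ sh O
  let F := (ModSite.tensorBi O).flip.obj N
  have hG : PreservesColimitsOfSize.{u, u} G :=
    have : PreservesColimitsOfSize.{u, u} (sh O) := adj.leftAdjoint_preservesColimits
    comp_preservesColimits _ _
  have := fun M : PM O => isIso_sheafify_whiskerRight (eta M) N'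
  let e : G ≅ sh O ⋙ F :=
    NatIso.ofComponents (fun M =>
      @asIso _ _ _ _ ((sh O).map (eta M ▷ N')) (isIso_sheafify_whiskerRight (eta M) N')) fun {M M'} g => by
      change (sh O).map (g ▷ N') ≫ (sh O).map (eta M' ▷ N') =
        (sh O).map (eta M ▷ N') ≫ (sh O).map ((forgetPM O).map ((sh O).map g) ▷ N')
      refine ((sh O).map_comp _ _).symm.trans (Eq.trans (congrArg (sh O).map ?_) ((sh O).map_comp _ _))
      exact ((tensorRight N').map_comp g (eta M')).symm.trans
        ((congrArg (tensorRight N').map (adj.unit.naturality g)).trans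
          ((tensorRight N').map_comp _ _))
  have : PreservesColimitsOfSize.{u, u} (sh O ⋙ F) := preservesColimits_of_natIso e
  refine ⟨fun {K} _ => ⟨fun {D} => ?_⟩⟩
  let R := forgetPM O
  have : IsIso adj.counit :=
    inferInstanceAs (IsIso (PresheafOfModules.sheafificationAdjunction
      (𝟙 (ModSite.ringSh O).obj)).counit)
  let c := colimit.cocone (D ⋙ R)
  have h1 : IsColimit ((sh O).mapCocone c) :=
    haveI : PreservesColimitsOfSize.{u, u} (sh O) := adj.leftAdjoint_preservesColimits
    isColimitOfPreserves _ (colimit.isColimit _)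
  have h2 : IsColimit (F.mapCocone ((sh O).mapCocone c)) :=
    isColimitOfPreserves (sh O ⋙ F) (colimit.isColimit _)
  have : PreservesColimit ((D ⋙ R) ⋙ sh O) F :=
    preservesColimit_of_preserves_colimit_cocone h1 h2
  exact preservesColimit_of_iso_diagram F
    (Functor.associator _ _ _ ≪≫ Functor.isoWhiskerLeft D (asIso adj.counit) ≪≫ D.rightUnitor)

/-- Tensoring with a sheaf of modules is a left adjoint. -/
lemma hasSheafHom (N : ModSite.Mod O) : ModSite.HasSheafHom N :=
  have := tensor_flip_preservesColimits N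
  sheaf_isLeftAdjoint _ _

end Groth.Agent.ModGroth
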