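import Groth.Prelude.Def_ModSite

/-!
# The free modules `j_{U!} O_U`
-/

universe u

open CategoryTheory CategoryTheory.Limits Opposite

namespace Groth.Agent.ModGroth.FreeOn

variable {C : Type u} [SmallCategory C] {J : GrothendieckTopology C} (O : Sheaf J CommRingCat.{u})

/-- Sections of a module over `C/U` are sections over `U`. -/
noncomputable def overSectEquiv (U : C) (M : ModSite.Mod O) :
    ((ModSite.restr O U).obj M).sections ≃ M.val.obj (op U) where
  toFun s := s.val (op (Over.mk (𝟙 U)))
  invFun x := PresheafOfModules.sectionsMk (fun T => M.val.map T.unop.hom.op x) fun S T g => by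
    have e : (S.unop.hom.op ≫ g.unop.left.op : op U ⟶ op T.unop.left) = T.unop.hom.op := by
      rw [← op_comp, Over.w]
    exact (PresheafOfModules.map_comp_apply M.val S.unop.hom.op g.unop.left.op x).symm.trans
      (congrArg (fun k : op U ⟶ op T.unop.left => M.val.map k x) e)
  left_inv s := PresheafOfModules.sections_ext _ _ fun T =>
    s.property (Quiver.Hom.op (Over.homMk T.unop.hom (by simp)) : op (Over.mk (𝟙 U)) ⟶ T)
  right_inv x := by
    change M.val.presheaf.map (𝟙 (op U)) x = x
    rw [CategoryTheory.Functor.map_id]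
    rfl

/-- Maps out of `j_{U!} O_U` are sections over `U`. -/
noncomputable def homEquiv (U : C) (M : ModSite.Mod O) :
    (ModSite.freeOn O U ⟶ M) ≃ M.val.obj (op U) :=
  ((ModSite.extZeroAdj O U).homEquiv _ _).trans
    ((SheafOfModules.unitHomEquiv _).trans (overSectEquiv O U M))

lemma homEquiv_comp (U : C) {M N : ModSite.Mod O} (a : ModSite.freeOn O U ⟶ M) (g : M ⟶ N) :
    homEquiv O U N (a ≫ g) = g.val.app (op U) (homEquiv O U M a) := by
  unfold homEquiv
  simp only [Equiv.trans_apply, Adjunction.homEquiv_naturality_right,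
    SheafOfModules.unitHomEquiv_comp_apply]
  rfl

/-- Morphisms agreeing on sections over a covering family agree. -/
lemma ext_of_cover (G : Set C)
    (hG : ∀ X : C, ∃ (ι : Type u) (Y : ι → C) (f : ∀ i, Y i ⟶ X), Sieve.ofArrows Y f ∈ J X ∧ ∀ i, Y i ∈ G)
    {M N : ModSite.Mod O} {a b : M ⟶ N}
    (h : ∀ X ∈ G, ∀ s : M.val.obj (op X), a.val.app (op X) s = b.val.app (op X) s) : a = b := by
  refine SheafOfModules.hom_ext (PresheafOfModules.hom_ext fun T => ModuleCat.hom_ext ?_)
  obtain ⟨X⟩ := T
  refine LinearMap.ext fun s => ?_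
  obtain ⟨ι, Y, f, hf, hY⟩ := hG X
  have hsep : Presieve.IsSeparated J (N.val.presheaf ⋙ forget AddCommGrpCat.{u}) :=
    ((isSheaf_iff_isSheaf_of_type _ _).1
      (Presheaf.isSheaf_comp_of_isSheaf J N.val.presheaf (forget AddCommGrpCat.{u}) N.isSheaf)).isSeparated
  refine Presieve.IsSeparatedFor.ext (hsep _ hf) fun Z g hg => ?_
  obtain ⟨W, p, q, hq, rfl⟩ := hg
  obtain ⟨i⟩ := hq
  have hi : N.val.map (f i).op (a.val.app (op X) s) = N.val.map (f i).op (b.val.app (op X) s) :=
    ((PresheafOfModules.naturality_apply a.val (f i).op s).symm.trans (h _ (hY i) _)).trans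
      (PresheafOfModules.naturality_apply b.val (f i).op s)
  have h1 := (PresheafOfModules.map_comp_apply N.val (f i).op p.op (a.val.app (op X) s)).trans
    ((congrArg (fun z => N.val.map p.op z) hi).trans
      (PresheafOfModules.map_comp_apply N.val (f i).op p.op (b.val.app (op X) s)).symm)
  exact h1

lemma isSeparating (G : Set C)
    (hG : ∀ X : C, ∃ (ι : Type u) (Y : ι → C) (f : ∀ i, Y i ⟶ X), Sieve.ofArrows Y f ∈ J X ∧ ∀ i, Y i ∈ G) :
    (ObjectProperty.ofObj fun X : G => ModSite.freeOn O (X : C)).IsSeparating := by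
  intro M N a b h
  refine ext_of_cover O G hG fun X hX s => ?_
  have := congrArg (homEquiv O X N) (h _ (ObjectProperty.ofObj_apply _ (⟨X, hX⟩ : G)) ((homEquiv O X M).symm s))
  simpa only [homEquiv_comp, Equiv.apply_symm_apply] using this

variable {D : Type u} [SmallCategory D] {K : GrothendieckTopology D} {O' : Sheaf K CommRingCat.{u}}

/-- `f^* j_{X!} O ≅ j_{uX!} O`. -/
noncomputable def pullIso (f : ModSite.RMor O O') (X : D) :
    f.pull.obj (ModSite.freeOn O' X) ≅ ModSite.freeOn O (f.fn.obj X) :=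
  let E : ∀ M : ModSite.Mod O, (f.pull.obj (ModSite.freeOn O' X) ⟶ M) ≃ (ModSite.freeOn O (f.fn.obj X) ⟶ M) :=
    fun M => (f.adj.homEquiv _ _).trans ((homEquiv O' X (f.push.obj M)).trans (homEquiv O (f.fn.obj X) M).symm)
  have hE : ∀ {M N : ModSite.Mod O} (a : f.pull.obj (ModSite.freeOn O' X) ⟶ M) (g : M ⟶ N),
      E N (a ≫ g) = E M a ≫ g := fun {M N} a g => (homEquiv O _ N).injective (by
    simp only [E, Equiv.trans_apply, Adjunction.homEquiv_naturality_right]
    change homEquiv O _ N ((homEquiv O _ N).symm (homEquiv O' X (f.push.obj N) (_ ≫ f.push.map g))) =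
      homEquiv O _ N ((homEquiv O _ M).symm (homEquiv O' X (f.push.obj M) _) ≫ g)
    refine ((homEquiv O _ N).apply_symm_apply _).trans ((homEquiv_comp O' X _ _).trans ?_)
    refine Eq.symm ((homEquiv_comp O _ _ _).trans ?_)
    exact congrArg (g.val.app (op (f.fn.obj X))) ((homEquiv O _ M).apply_symm_apply _))
  { hom := (E _).symm (𝟙 _)
    inv := E _ (𝟙 _)
    hom_inv_id := (E _).injective (by rw [hE, Equiv.apply_symm_apply, Category.id_comp])
    inv_hom_id := by rw [← hE, Category.id_comp, Equiv.apply_symm_apply] }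

end Groth.Agent.ModGroth.FreeOn
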