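import Groth.Agent.ModGroth.PullStalk
import Groth.Agent.ModGroth.TotMap
import Groth.Agent.QCohLib.Basic
import Mathlib.Algebra.Category.ModuleCat.Monoidal.Adjunction

/-!
# `f^*(M ⊗ N) ≅ f^* M ⊗ f^* N`
-/

universe u

open CategoryTheory CategoryTheory.Limits Opposite TopologicalSpace AlgebraicGeometry MonoidalCategory
  Functor.LaxMonoidal Functor.OplaxMonoidal

namespace Groth.Agent.ModGroth.Stalk

lemma tm'_smul_left {T : TopCat.{u}} {R : T.Presheaf CommRingCat.{u}} (A F : Pres R) {U : Opens T}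
    (r : R.obj (op U)) (a : A.obj (op U)) (n : F.obj (op U)) :
    tm' A F (r • a) n = r • (show TensorProduct (R.obj (op U)) (A.obj (op U)) (F.obj (op U)) from tm' A F a n) :=
  rfl

lemma map_tm'_smul {T : TopCat.{u}} {R : T.Presheaf CommRingCat.{u}} {A F P : Pres R} {U : Opens T}
    (φ : (A ⊗ F : Pres R) ⟶ P) (r : R.obj (op U)) (a : A.obj (op U)) (n : F.obj (op U)) :
    φ.app (op U) (tm' A F (r • a) n) = r • φ.app (op U) (tm' A F a n) :=
  map_smul (φ.app (op U)).hom r (tm' A F a n)

lemma hom5_apply {R : Type u} [CommRing R] {A B C D E F : ModuleCat.{u} R} (a : A ≅ B) (b : B ≅ C) (c : C ≅ D)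
    (d : D ≅ E) (e : E ≅ F) {z : A} {z₁ : B} {z₂ : C} {z₃ : D} {z₄ : E} {z₅ : F} (h₁ : a.hom z = z₁)
    (h₂ : b.hom z₁ = z₂) (h₃ : c.hom z₂ = z₃) (h₄ : d.hom z₃ = z₄) (h₅ : e.hom z₄ = z₅) :
    (a ≪≫ b ≪≫ c ≪≫ d ≪≫ e).hom z = z₅ := by
  subst h₁; subst h₂; subst h₃; subst h₄; subst h₅
  rfl

lemma tensorIso_tmul {R : Type u} [CommRing R] {A B C D : ModuleCat.{u} R} (a : A ≅ B) (b : C ≅ D)
    (z : A) (w : C) :
    (MonoidalCategory.tensorIso a b).hom (z ⊗ₜ[R] w) = a.hom z ⊗ₜ[R] b.hom w := rfl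

variable {X Y : Scheme.{u}} (f : X ⟶ Y)

/-- `f^*` of a section. -/
noncomputable def pullSec (M : Y.Modules) :
    toPres.obj M ⟶ toPres.obj ((Scheme.Modules.pushforward f).obj ((Scheme.Modules.pullback f).obj M)) :=
  toPres.map ((Scheme.Modules.pullbackPushforwardAdjunction f).unit.app M)

/-- A pulled back section over the preimage. -/
noncomputable def pSec (M : Y.Modules) {U : Y.Opens} (m : (toPres.obj M).obj (op U)) :
    (toPres.obj ((Scheme.Modules.pullback f).obj M)).obj (op (f ⁻¹ᵁ U)) :=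
  (pullSec f M).app (op U) m

/-- `m ⊗ n`, pulled back. -/
noncomputable def muSec (M N : Y.Modules) {U : Y.Opens} (m : (toPres.obj M).obj (op U))
    (n : (toPres.obj N).obj (op U)) :
    (toPres.obj (((DCoh.tensorBi (X := X)).obj ((Scheme.Modules.pullback f).obj M)).obj
      ((Scheme.Modules.pullback f).obj N))).obj (op (f ⁻¹ᵁ U)) :=
  (eta (O := X.sheaf) (toPres.obj ((Scheme.Modules.pullback f).obj M) ⊗
      toPres.obj ((Scheme.Modules.pullback f).obj N))).app (op (f ⁻¹ᵁ U))
    (tm' (toPres.obj ((Scheme.Modules.pullback f).obj M)) (toPres.obj ((Scheme.Modules.pullback f).obj N))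
      (pSec f M m) (pSec f N n))

lemma pSec_add (M : Y.Modules) {U : Y.Opens} (m m' : (toPres.obj M).obj (op U)) :
    pSec f M (m + m') = pSec f M m + pSec f M m' :=
  map_add ((pullSec f M).app (op U)).hom m m'

lemma pSec_smul (M : Y.Modules) {U : Y.Opens} (r : Y.presheaf.obj (op U)) (m : (toPres.obj M).obj (op U)) :
    pSec f M (r • m) = (f.app U).hom r • pSec f M m :=
  map_smul ((pullSec f M).app (op U)).hom r m

lemma pSec_res (M : Y.Modules) {U V : Y.Opens} (g : V ⟶ U) (m : (toPres.obj M).obj (op U)) :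
    pSec f M (rs (toPres.obj M) g.op m) =
      rs (toPres.obj ((Scheme.Modules.pullback f).obj M)) ((Opens.map f.base).map g).op (pSec f M m) :=
  PresheafOfModules.naturality_apply (pullSec f M) g.op m

lemma muSec_add_left (M N : Y.Modules) {U : Y.Opens} (m m' : (toPres.obj M).obj (op U))
    (n : (toPres.obj N).obj (op U)) : muSec f M N (m + m') n = muSec f M N m n + muSec f M N m' n :=
  (congrArg _ ((congrArg (fun t => tm' _ _ t (pSec f N n)) (pSec_add f M m m')).trans (tm'_add_left _ _ _ _ _))).trans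
    (map_add _ _ _)

lemma muSec_add_right (M N : Y.Modules) {U : Y.Opens} (m : (toPres.obj M).obj (op U))
    (n n' : (toPres.obj N).obj (op U)) : muSec f M N m (n + n') = muSec f M N m n + muSec f M N m n' :=
  (congrArg _ ((congrArg (fun t => tm' _ _ (pSec f M m) t) (pSec_add f N n n')).trans (tm'_add_right _ _ _ _ _))).trans
    (map_add _ _ _)

lemma muSec_smul_left (M N : Y.Modules) {U : Y.Opens} (r : Y.presheaf.obj (op U))
    (m : (toPres.obj M).obj (op U)) (n : (toPres.obj N).obj (op U)) :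
    muSec f M N (r • m) n = (f.app U).hom r • muSec f M N m n :=
  (congrArg _ (congrArg (fun t => tm' _ _ t (pSec f N n)) (pSec_smul f M r m))).trans
    (map_tm'_smul _ _ _ _)

lemma muSec_smul_right (M N : Y.Modules) {U : Y.Opens} (r : Y.presheaf.obj (op U))
    (m : (toPres.obj M).obj (op U)) (n : (toPres.obj N).obj (op U)) :
    muSec f M N m (r • n) = (f.app U).hom r • muSec f M N m n :=
  (congrArg _ ((congrArg (fun t => tm' _ _ (pSec f M m) t) (pSec_smul f N r n)).trans
      (tm'_smul _ _ _ _ _).symm)).trans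
    (map_tm'_smul _ _ _ _)

/-- The presheaf level map. -/
noncomputable def muPre (M N : Y.Modules) : (toPres.obj M ⊗ toPres.obj N : Pres Y.presheaf) ⟶
    toPres.obj ((Scheme.Modules.pushforward f).obj (((DCoh.tensorBi (X := X)).obj
      ((Scheme.Modules.pullback f).obj M)).obj ((Scheme.Modules.pullback f).obj N))) where
  app U := ModuleCat.MonoidalCategory.tensorLift (fun m n => muSec f M N (U := U.unop) m n)
    (fun m m' n => muSec_add_left f M N m m' n)
    (fun r m n => muSec_smul_left f M N r m n)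
    (fun m n n' => muSec_add_right f M N m n n')
    (fun r m n => muSec_smul_right f M N r m n)
  naturality {U V} g := ModuleCat.MonoidalCategory.tensor_ext fun m n => by
    change muSec f M N (rs (toPres.obj M) g.unop.op m) (rs (toPres.obj N) g.unop.op n) = _
    rw [muSec, pSec_res, pSec_res]
    exact rs_app (eta (O := X.sheaf) (toPres.obj ((Scheme.Modules.pullback f).obj M) ⊗
        toPres.obj ((Scheme.Modules.pullback f).obj N))) ((Opens.map f.base).map g.unop).op
      (tm' _ _ (pSec f M (U := U.unop) m) (pSec f N (U := U.unop) n))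

/-- Its extension to the sheafification. -/
noncomputable def muAdj (M N : Y.Modules) : ((DCoh.tensorBi (X := Y)).obj M).obj N ⟶
    (Scheme.Modules.pushforward f).obj (((DCoh.tensorBi (X := X)).obj
      ((Scheme.Modules.pullback f).obj M)).obj ((Scheme.Modules.pullback f).obj N)) :=
  ((adjn Y.sheaf).homEquiv _ _).symm (muPre f M N)

/-- The comparison `f^*(M ⊗ N) ⟶ f^* M ⊗ f^* N`. -/
noncomputable def mu (M N : Y.Modules) :
    (Scheme.Modules.pullback f).obj (((DCoh.tensorBi (X := Y)).obj M).obj N) ⟶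
      ((DCoh.tensorBi (X := X)).obj ((Scheme.Modules.pullback f).obj M)).obj ((Scheme.Modules.pullback f).obj N) :=
  ((Scheme.Modules.pullbackPushforwardAdjunction f).homEquiv _ _).symm (muAdj f M N)

lemma unit_mu (M N : Y.Modules) :
    (Scheme.Modules.pullbackPushforwardAdjunction f).unit.app _ ≫
      (Scheme.Modules.pushforward f).map (mu f M N) = muAdj f M N :=
  ((Scheme.Modules.pullbackPushforwardAdjunction f).homEquiv_unit (f := mu f M N)).symm.trans
    (Equiv.apply_symm_apply _ _)

lemma eta_muAdj (M N : Y.Modules) :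
    eta (O := Y.sheaf) (toPres.obj M ⊗ toPres.obj N) ≫ toPres.map (muAdj f M N) = muPre f M N :=
  ((adjn Y.sheaf).homEquiv_unit (f := muAdj f M N)).symm.trans (Equiv.apply_symm_apply _ _)

lemma mu_pSec (M N : Y.Modules) {U : Y.Opens} (m : (toPres.obj M).obj (op U))
    (n : (toPres.obj N).obj (op U)) :
    (toPres.map (mu f M N)).app (op (f ⁻¹ᵁ U))
      (pSec f _ ((eta (O := Y.sheaf) (toPres.obj M ⊗ toPres.obj N)).app (op U)
        (tm' (toPres.obj M) (toPres.obj N) m n))) = muSec f M N m n :=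
  (congrArg (fun t => (toPres.map t).app (op U)
      ((eta (O := Y.sheaf) (toPres.obj M ⊗ toPres.obj N)).app (op U)
        (tm' (toPres.obj M) (toPres.obj N) m n))) (unit_mu f M N)).trans
    (congrArg (fun t => t.app (op U) (tm' (toPres.obj M) (toPres.obj N) m n)) (eta_muAdj f M N))

variable (x : X)

/-- `1 ⊗ γ`. -/
noncomputable def oneT (P : ModuleCat.{u} (Y.presheaf.stalk (f.base x))) (γ : P) :
    (ModuleCat.extendScalars.{u, u, u} (f.stalkMap x).hom).obj P :=
  (ModuleCat.extendRestrictScalarsAdj.{u, u, u} (f.stalkMap x).hom).unit.app P γ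

lemma pullStalkIso_germ (M : Y.Modules) {U : Y.Opens} (hx : f.base x ∈ U) (m : (toPres.obj M).obj (op U)) :
    (pullStalkIso f x).hom.app M (gm (toPres.obj ((Scheme.Modules.pullback f).obj M)) (U := f ⁻¹ᵁ U) hx (pSec f M m)) =
      oneT f x _ (gm (toPres.obj M) hx m) := by
  have h := Adjunction.unit_leftAdjointUniq_hom_app
    (((Scheme.Modules.pullbackPushforwardAdjunction f).comp (stalkAdj x)).ofNatIsoRight (pushSkyIso f x))
    ((stalkAdj (f.base x)).comp (ModuleCat.extendRestrictScalarsAdj.{u, u, u} (f.stalkMap x).hom)) M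
  exact congrFun (congrArg (fun t => (toPres.map t).app (op U) m) h) ⟨hx⟩

/-- The composite isomorphism. -/
noncomputable def muStalkIso (M N : Y.Modules) :
    (DerSch.stalkFunctor X x).obj ((Scheme.Modules.pullback f).obj (((DCoh.tensorBi (X := Y)).obj M).obj N)) ≅
      (DerSch.stalkFunctor X x).obj (((DCoh.tensorBi (X := X)).obj ((Scheme.Modules.pullback f).obj M)).obj
        ((Scheme.Modules.pullback f).obj N)) :=
  (pullStalkIso f x).app _ ≪≫
    (ModuleCat.extendScalars.{u, u, u} (f.stalkMap x).hom).mapIso (tensorStalkIso (f.base x) M N).symm ≪≫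
    (Functor.Monoidal.μIso (ModuleCat.extendScalars.{u, u, u} (f.stalkMap x).hom) _ _).symm ≪≫
    MonoidalCategory.tensorIso ((pullStalkIso f x).app M).symm ((pullStalkIso f x).app N).symm ≪≫
    tensorStalkIso x _ _

lemma inv_oneT (M : Y.Modules) {U : Y.Opens} (hx : f.base x ∈ U) (m : (toPres.obj M).obj (op U)) :
    (pullStalkIso f x).inv.app M (oneT f x _ (gm (toPres.obj M) hx m)) =
      gm (toPres.obj ((Scheme.Modules.pullback f).obj M)) (U := f ⁻¹ᵁ U) hx (pSec f M m) := by
  rw [← pullStalkIso_germ]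
  exact ConcreteCategory.congr_hom ((pullStalkIso f x).hom_inv_id_app M) _

lemma map_oneT {P Q : ModuleCat.{u} (Y.presheaf.stalk (f.base x))} (g : P ⟶ Q) (γ : P) :
    (ModuleCat.extendScalars.{u, u, u} (f.stalkMap x).hom).map g (oneT f x P γ) = oneT f x Q (g γ) :=
  (ConcreteCategory.congr_hom
    ((ModuleCat.extendRestrictScalarsAdj.{u, u, u} (f.stalkMap x).hom).unit.naturality g) γ).symm

lemma δ_oneT (P Q : ModuleCat.{u} (Y.presheaf.stalk (f.base x))) (α : P) (β : Q) :
    δ (ModuleCat.extendScalars.{u, u, u} (f.stalkMap x).hom) P Q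
        (oneT f x (P ⊗ Q) (α ⊗ₜ[Y.presheaf.stalk (f.base x)] β)) =
      oneT f x P α ⊗ₜ[X.presheaf.stalk x] oneT f x Q β :=
  ModuleCat.extendScalars_δ_tmul (f.stalkMap x).hom P Q α β

lemma inv_comparison (M N : Y.Modules) {U : Y.Opens} (hx : f.base x ∈ U)
    (m : (toPres.obj M).obj (op U)) (n : (toPres.obj N).obj (op U)) :
    (tensorStalkIso (f.base x) M N).inv
        (gm (toPres.obj (((DCoh.tensorBi (X := Y)).obj M).obj N)) hx
          ((eta (O := Y.sheaf) (toPres.obj M ⊗ toPres.obj N)).app (op U)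
            (tm' (toPres.obj M) (toPres.obj N) m n))) =
      gm (toPres.obj M) hx m ⊗ₜ[Y.presheaf.stalk (f.base x)] gm (toPres.obj N) hx n :=
  (congrArg _ (tensorComparison_gm (f.base x) M N hx m n).symm).trans
    (ConcreteCategory.congr_hom (tensorStalkIso (f.base x) M N).hom_inv_id _)

lemma muStalkIso_germ (M N : Y.Modules) {U : Y.Opens} (hx : f.base x ∈ U)
    (m : (toPres.obj M).obj (op U)) (n : (toPres.obj N).obj (op U)) :
    (muStalkIso f x M N).hom
        (gm (toPres.obj ((Scheme.Modules.pullback f).obj (((DCoh.tensorBi (X := Y)).obj M).obj N)))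
          (U := f ⁻¹ᵁ U) hx (pSec f _ ((eta (O := Y.sheaf) (toPres.obj M ⊗ toPres.obj N)).app (op U)
            (tm' (toPres.obj M) (toPres.obj N) m n)))) =
      gm (toPres.obj (((DCoh.tensorBi (X := X)).obj ((Scheme.Modules.pullback f).obj M)).obj
        ((Scheme.Modules.pullback f).obj N))) (U := f ⁻¹ᵁ U) hx (muSec f M N m n) := by
  have e1 : (ModuleCat.extendScalars.{u, u, u} (f.stalkMap x).hom).map (tensorStalkIso (f.base x) M N).inv
      (oneT f x _ (gm (toPres.obj (((DCoh.tensorBi (X := Y)).obj M).obj N)) hx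
        ((eta (O := Y.sheaf) (toPres.obj M ⊗ toPres.obj N)).app (op U)
          (tm' (toPres.obj M) (toPres.obj N) m n)))) =
      oneT f x _ (gm (toPres.obj M) hx m ⊗ₜ[Y.presheaf.stalk (f.base x)] gm (toPres.obj N) hx n) :=
    (map_oneT f x _ _).trans (congrArg (oneT f x _) (inv_comparison f x M N hx m n))
  have e4 : (MonoidalCategory.tensorIso ((pullStalkIso f x).app M).symm ((pullStalkIso f x).app N).symm).hom
      (oneT f x _ (gm (toPres.obj M) hx m) ⊗ₜ[X.presheaf.stalk x] oneT f x _ (gm (toPres.obj N) hx n)) =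
      gm (toPres.obj ((Scheme.Modules.pullback f).obj M)) (U := f ⁻¹ᵁ U) hx (pSec f M m) ⊗ₜ[X.presheaf.stalk x]
        gm (toPres.obj ((Scheme.Modules.pullback f).obj N)) (U := f ⁻¹ᵁ U) hx (pSec f N n) := by
    rw [tensorIso_tmul]
    exact congrArg₂ (· ⊗ₜ[X.presheaf.stalk x] ·) (inv_oneT f x M hx m) (inv_oneT f x N hx n)
  unfold muStalkIso
  refine hom5_apply _ _ _ _ _ (pullStalkIso_germ f x _ hx _) e1 ?_ e4 ?_
  · exact δ_oneT f x ((DerSch.stalkFunctor Y (f.base x)).obj M) ((DerSch.stalkFunctor Y (f.base x)).obj N) (gm (toPres.obj M) hx m) (gm (toPres.obj N) hx n)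
  · exact tensorComparison_gm x _ _ hx (pSec f M m) (pSec f N n)

lemma stalk_mu_eq (M N : Y.Modules) :
    (pullStalkIso f x).inv.app _ ≫ (DerSch.stalkFunctor X x).map (mu f M N) =
      (pullStalkIso f x).inv.app _ ≫ (muStalkIso f x M N).hom := by
  rw [← cancel_epi ((ModuleCat.extendScalars.{u, u, u} (f.stalkMap x).hom).map (tensorStalkIso (f.base x) M N).hom)]
  refine ((ModuleCat.extendRestrictScalarsAdj.{u, u, u} (f.stalkMap x).hom).homEquiv _ _).injective
    (ModuleCat.MonoidalCategory.tensor_ext fun α β => ?_)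
  obtain ⟨U, hx, m, n, rfl, rfl⟩ := exists_pair (toPres.obj M) (toPres.obj N) α β
  change (DerSch.stalkFunctor X x).map (mu f M N) ((pullStalkIso f x).inv.app _
      (oneT f x _ (tensorComparison (f.base x) M N
        (gm (toPres.obj M) hx m ⊗ₜ gm (toPres.obj N) hx n)))) =
    (muStalkIso f x M N).hom ((pullStalkIso f x).inv.app _
      (oneT f x _ (tensorComparison (f.base x) M N
        (gm (toPres.obj M) hx m ⊗ₜ gm (toPres.obj N) hx n))))
  rw [tensorComparison_gm]
  refine (congrArg _ (inv_oneT f x (((DCoh.tensorBi (X := Y)).obj M).obj N) hx _)).trans ?_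
  refine ((stalkFunctor_map_eq x (mu f M N) _).trans ((stMap_gm _ _ _).trans
    (congrArg _ (mu_pSec f M N m n)))).trans ?_
  refine Eq.trans ?_ (congrArg _ (inv_oneT f x (((DCoh.tensorBi (X := Y)).obj M).obj N) hx _)).symm
  exact (muStalkIso_germ f x M N hx m n).symm

lemma stalk_mu (M N : Y.Modules) :
    (DerSch.stalkFunctor X x).map (mu f M N) = (muStalkIso f x M N).hom :=
  (cancel_epi ((pullStalkIso f x).inv.app _)).1 (stalk_mu_eq f x M N)

instance isIso_mu (M N : Y.Modules) : IsIso (mu f M N) := by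
  rw [QCohLib.isIso_iff_stalk_bijective]
  intro x
  have : Function.Bijective ((DerSch.stalkFunctor X x).map (mu f M N)) := by
    rw [stalk_mu]
    exact ((muStalkIso f x M N).toLinearEquiv).bijective
  exact this

/-- Maps out of `f^*(M ⊗ N)` are determined on pulled back tensors of sections. -/
lemma hom_ext_pullTensor {M N : Y.Modules} {P : X.Modules}
    (φ ψ : (Scheme.Modules.pullback f).obj (((DCoh.tensorBi (X := Y)).obj M).obj N) ⟶ P)
    (h : ∀ (U : Y.Opens) (m : (toPres.obj M).obj (op U)) (n : (toPres.obj N).obj (op U)),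
      (toPres.map φ).app (op (f ⁻¹ᵁ U)) (pSec f _ ((eta (O := Y.sheaf) (toPres.obj M ⊗ toPres.obj N)).app (op U)
        (tm' (toPres.obj M) (toPres.obj N) m n))) =
      (toPres.map ψ).app (op (f ⁻¹ᵁ U)) (pSec f _ ((eta (O := Y.sheaf) (toPres.obj M ⊗ toPres.obj N)).app (op U)
        (tm' (toPres.obj M) (toPres.obj N) m n)))) : φ = ψ := by
  refine ((Scheme.Modules.pullbackPushforwardAdjunction f).homEquiv _ _).injective
    (((adjn Y.sheaf).homEquiv (toPres.obj M ⊗ toPres.obj N) _).injective ?_)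
  rw [Adjunction.homEquiv_unit, Adjunction.homEquiv_unit]
  exact PresheafOfModules.hom_ext fun U => ModuleCat.MonoidalCategory.tensor_ext fun m n => h U.unop m n

lemma pSec_nat {M M' : Y.Modules} (a : M ⟶ M') {U : Y.Opens} (m : (toPres.obj M).obj (op U)) :
    (toPres.map ((Scheme.Modules.pullback f).map a)).app (op (f ⁻¹ᵁ U)) (pSec f M m) =
      pSec f M' ((toPres.map a).app (op U) m) :=
  (congrArg (fun t => (toPres.map t).app (op U) m)
    ((Scheme.Modules.pullbackPushforwardAdjunction f).unit.naturality a)).symm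

lemma eta_natL {T : Scheme.{u}} {M M' : T.Modules} (a : M ⟶ M') (N : T.Modules) {U : T.Opens}
    (m : (toPres.obj M).obj (op U)) (n : (toPres.obj N).obj (op U)) :
    (toPres.map (((DCoh.tensorBi (X := T)).map a).app N)).app (op U)
      ((eta (O := T.sheaf) (toPres.obj M ⊗ toPres.obj N)).app (op U) (tm' (toPres.obj M) (toPres.obj N) m n)) =
    (eta (O := T.sheaf) (toPres.obj M' ⊗ toPres.obj N)).app (op U)
      (tm' (toPres.obj M') (toPres.obj N) ((toPres.map a).app (op U) m) n) :=
  (congrArg (fun t => t.app (op U) (tm' (toPres.obj M) (toPres.obj N) m n))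
    ((adjn T.sheaf).unit.naturality (toPres.map a ▷ toPres.obj N))).symm

lemma eta_natR {T : Scheme.{u}} (M : T.Modules) {N N' : T.Modules} (b : N ⟶ N') {U : T.Opens}
    (m : (toPres.obj M).obj (op U)) (n : (toPres.obj N).obj (op U)) :
    (toPres.map (((DCoh.tensorBi (X := T)).obj M).map b)).app (op U)
      ((eta (O := T.sheaf) (toPres.obj M ⊗ toPres.obj N)).app (op U) (tm' (toPres.obj M) (toPres.obj N) m n)) =
    (eta (O := T.sheaf) (toPres.obj M ⊗ toPres.obj N')).app (op U)
      (tm' (toPres.obj M) (toPres.obj N') m ((toPres.map b).app (op U) n)) :=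
  (congrArg (fun t => t.app (op U) (tm' (toPres.obj M) (toPres.obj N) m n))
    ((adjn T.sheaf).unit.naturality (toPres.obj M ◁ toPres.map b))).symm

lemma mu_natL {M M' : Y.Modules} (a : M ⟶ M') (N : Y.Modules) :
    (Scheme.Modules.pullback f).map (((DCoh.tensorBi (X := Y)).map a).app N) ≫ mu f M' N =
      mu f M N ≫ ((DCoh.tensorBi (X := X)).map ((Scheme.Modules.pullback f).map a)).app
        ((Scheme.Modules.pullback f).obj N) := by
  refine hom_ext_pullTensor f _ _ fun U m n => ?_
  refine ((congrArg ((toPres.map (mu f M' N)).app (op (f ⁻¹ᵁ U)))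
    ((pSec_nat f _ _).trans (congrArg (pSec f _) (eta_natL a N m n)))).trans
      (mu_pSec f M' N _ n)).trans ?_
  refine Eq.trans ?_ (congrArg _ (mu_pSec f M N m n)).symm
  refine Eq.trans ?_ (eta_natL _ _ (pSec f M m) (pSec f N n)).symm
  exact congrArg (fun t => (eta (O := X.sheaf) _).app (op (f ⁻¹ᵁ U)) (tm' _ _ t (pSec f N n))) (pSec_nat f a m).symm

lemma mu_natR (M : Y.Modules) {N N' : Y.Modules} (b : N ⟶ N') :
    (Scheme.Modules.pullback f).map (((DCoh.tensorBi (X := Y)).obj M).map b) ≫ mu f M N' =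
      mu f M N ≫ ((DCoh.tensorBi (X := X)).obj ((Scheme.Modules.pullback f).obj M)).map
        ((Scheme.Modules.pullback f).map b) := by
  refine hom_ext_pullTensor f _ _ fun U m n => ?_
  refine ((congrArg ((toPres.map (mu f M N')).app (op (f ⁻¹ᵁ U)))
    ((pSec_nat f _ _).trans (congrArg (pSec f _) (eta_natR M b m n)))).trans
      (mu_pSec f M N' m _)).trans ?_
  refine Eq.trans ?_ (congrArg _ (mu_pSec f M N m n)).symm
  refine Eq.trans ?_ (eta_natR _ _ (pSec f M m) (pSec f N n)).symm
  exact congrArg (fun t => (eta (O := X.sheaf) _).app (op (f ⁻¹ᵁ U)) (tm' _ _ (pSec f M m) t)) (pSec_nat f b n).symm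

/-- The inverse image is compatible with tensor products. -/
noncomputable def pullCompat : BiCompat (DCoh.tensorBi (X := Y)) (DCoh.tensorBi (X := X))
    (Scheme.Modules.pullback f) where
  iso M N := (asIso (mu f M N)).symm
  natL {M M'} a N := by
    change _ ≫ inv (mu f M' N) = inv (mu f M N) ≫ _
    rw [IsIso.comp_inv_eq, Category.assoc, IsIso.eq_inv_comp]
    exact (mu_natL f a N).symm
  natR M {N N'} b := by
    change _ ≫ inv (mu f M N') = inv (mu f M N) ≫ _
    rw [IsIso.comp_inv_eq, Category.assoc, IsIso.eq_inv_comp]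
    exact (mu_natR f M b).symm

/-- `f^*` commutes with tensor products of complexes. -/
noncomputable def pullTotIso (K L : CochainComplex Y.Modules ℤ) :
    (pcx f).obj (((DCoh.tensorCx (X := Y)).obj K).obj L) ≅
      ((DCoh.tensorCx (X := X)).obj ((pcx f).obj K)).obj ((pcx f).obj L) :=
  haveI : PreservesColimitsOfSize.{0, 0} (Scheme.Modules.pullback f) :=
    (Scheme.Modules.pullbackPushforwardAdjunction f).leftAdjoint_preservesColimits
  (totCompareIso (pullCompat f) K L).symm

end Groth.Agent.ModGroth.Stalk
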