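import Groth.Agent.ModGroth.LocBasis
import Groth.Agent.ModGroth.PullTensor
import Groth.Agent.LocFreeAnn.Free
import Mathlib.RingTheory.TensorProduct.Free

/-!
# Local bases of finite locally free modules and their inverse images
-/

universe u

open CategoryTheory CategoryTheory.Limits Opposite TopologicalSpace AlgebraicGeometry MonoidalCategory
open scoped TensorProduct

namespace Groth.Agent.ModGroth.LocBasis

open Stalk

variable {X Y : Scheme.{u}}

/-- Finite locally free modules have local bases. -/
lemma exists_isBasis {E : X.Modules} (hE : FlatMod.IsFinLocFree E) (x : X) :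
    ∃ (U : X.Opens) (n : ℕ) (e : Fin n → (toPres.obj E).obj (op U)), x ∈ U ∧ IsBasis (O := X.sheaf) E e := by
  obtain ⟨U, n, hx, ⟨i⟩⟩ := hE x
  obtain ⟨b, hb⟩ := LocFreeAnn.exists_basis i
  refine ⟨U, n, b, hx, fun W h => ?_⟩
  convert! hb W h.le using 1

variable {E : X.Modules} {U : X.Opens} {n : ℕ} (e : Fin n → (toPres.obj E).obj (op U))

/-- The germs of `e` at the points of `U` are bases. -/
def IsStalkBasis : Prop :=
  ∀ (x : X) (hx : x ∈ U), Function.Bijective (Fintype.linearCombination (stR X.presheaf x)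
    (fun i => gm (toPres.obj E) hx (e i)))

variable {e}

lemma gm_comb {W : X.Opens} (h : W ≤ U) {x : X} (hx : x ∈ W) (c : Fin n → X.sheaf.obj.obj (op W)) :
    gm (toPres.obj E) hx (Fintype.linearCombination (X.sheaf.obj.obj (op W))
        (fun i => res (O := X.sheaf) ((fg X.sheaf).obj E) (homOfLE h).op (e i)) c) =
      Fintype.linearCombination (stR X.presheaf x) (fun i => gm (toPres.obj E) (h hx) (e i))
        (fun i => (TopCat.Presheaf.germ X.presheaf W x hx).hom (c i)) := by
  rw [Fintype.linearCombination_apply, Fintype.linearCombination_apply, map_sum]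
  refine Finset.sum_congr rfl fun i _ => ?_
  exact (gm_smul (toPres.obj E) hx (c i) _).trans (congrArg (_ • ·) (gm_res (toPres.obj E) h hx (e i)))

lemma exists_common {x : X} {k : ℕ} (a : Fin k → stR X.presheaf x) {V : X.Opens} (hx : x ∈ V) :
    ∃ (W : X.Opens) (_ : W ≤ V) (hxW : x ∈ W) (c : Fin k → X.presheaf.obj (op W)),
      ∀ i, (TopCat.Presheaf.germ X.presheaf W x hxW).hom (c i) = a i := by
  induction k with
  | zero => exact ⟨V, le_rfl, hx, fun i => i.elim0, fun i => i.elim0⟩
  | succ k ih =>
    obtain ⟨W, hWV, hxW, c, hc⟩ := ih fun i => a i.succ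
    obtain ⟨V', hV', r, hr⟩ := TopCat.Presheaf.exists_germ_eq X.presheaf (a 0)
    refine ⟨W ⊓ V', inf_le_left.trans hWV, ⟨hxW, hV'⟩,
      Fin.cons ((X.presheaf.map (homOfLE inf_le_right).op).hom r)
        (fun i => (X.presheaf.map (homOfLE inf_le_left).op).hom (c i)), Fin.cases ?_ fun i => ?_⟩
    · rw [Fin.cons_zero]
      exact (TopCat.Presheaf.germ_res_apply X.presheaf _ x _ r).trans hr
    · rw [Fin.cons_succ]
      exact (TopCat.Presheaf.germ_res_apply X.presheaf _ x _ (c i)).trans (hc i)

lemma isStalkBasis_of_isBasis (h : IsBasis (O := X.sheaf) E e) : IsStalkBasis e := fun x hx => by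
  refine ⟨(injective_iff_map_eq_zero _).2 fun a ha => funext fun i => ?_, fun α => ?_⟩
  · obtain ⟨W, hW, hxW, c, hc⟩ := exists_common a hx
    obtain rfl : a = fun i => (TopCat.Presheaf.germ X.presheaf W x hxW).hom (c i) :=
      funext fun i => (hc i).symm
    rw [← gm_comb hW hxW c] at ha
    obtain ⟨W', hxW', h₁, h₂, e'⟩ := gm_eq (toPres.obj E) hxW hxW (ha.trans (map_zero (gm (toPres.obj E) hxW)).symm)
    rw [map_zero] at e'
    have h4 : (fun i => (X.presheaf.map (homOfLE h₁).op).hom (c i)) = 0 := (h W' (homOfLE (h₁.trans hW))).1 (by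
      refine Eq.trans ?_ (e'.trans (map_zero _).symm)
      exact (linearCombination_res (O := X.sheaf) E e (homOfLE h₁) (homOfLE hW) c).symm)
    have h5 := congrArg (TopCat.Presheaf.germ X.presheaf W' x hxW').hom (congrFun h4 i)
    exact (TopCat.Presheaf.germ_res_apply X.presheaf _ x _ (c i)).symm.trans (h5.trans (map_zero _))
  · obtain ⟨V, hxV, m, rfl⟩ := exists_gm (toPres.obj E) α
    obtain ⟨c, hc⟩ := (h (U ⊓ V) (homOfLE inf_le_left)).2 (rs (toPres.obj E) (homOfLE inf_le_right).op m)
    refine ⟨fun i => (TopCat.Presheaf.germ X.presheaf (U ⊓ V) x ⟨hx, hxV⟩).hom (c i), ?_⟩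
    exact (gm_comb inf_le_left ⟨hx, hxV⟩ c).symm.trans ((congrArg _ hc).trans (gm_res (toPres.obj E) _ _ m))

lemma isBasis_of_isStalkBasis (h : IsStalkBasis e) : IsBasis (O := X.sheaf) E e := by
  intro W k
  refine bijective_of_locally (O := X.sheaf) (SheafOfModules.unit X.ringCatSheaf) E
    (fun W k => (Fintype.linearCombination (X.sheaf.obj.obj (op W))
      (fun i => res (O := X.sheaf) ((fg X.sheaf).obj E) k.op (e i))).toAddMonoidHom)
    (fun {V W} g k c => ?_) (fun W k c hc => ?_) (fun W k t => ?_) W k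
  · exact (linearCombination_res (O := X.sheaf) E e g k c).symm
  · refine ⟨⊤, GrothendieckTopology.top_mem _ _, fun V g _ i => ?_⟩
    have hc0 : c = 0 := funext fun i => by
      refine TopCat.Presheaf.section_ext X.sheaf W _ _ fun x hx => ?_
      have h1 := congrArg (gm (toPres.obj E) hx) hc
      rw [map_zero] at h1
      have h2 := (h x (k.le hx)).1 (((gm_comb k.le hx c).symm.trans h1).trans (map_zero _).symm)
      exact (congrFun h2 i).trans (map_zero (TopCat.Presheaf.germ X.presheaf W x hx).hom).symm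
    rw [hc0]
    exact map_zero _
  · refine ⟨⟨fun V g => ∃ c, Fintype.linearCombination (X.sheaf.obj.obj (op V))
      (fun i => res (O := X.sheaf) ((fg X.sheaf).obj E) (g ≫ k).op (e i)) c =
        res (O := X.sheaf) ((fg X.sheaf).obj E) g.op t, ?_⟩, ?_, fun V g hg => hg⟩
    · rintro V V' g ⟨c, hc⟩ l
      refine ⟨fun i => (X.presheaf.map l.op).hom (c i), ?_⟩
      have h1 := linearCombination_res (O := X.sheaf) E e l (g ≫ k) c
      rw [← Category.assoc] at h1
      refine h1.symm.trans ((congrArg (res (O := X.sheaf) ((fg X.sheaf).obj E) l.op) hc).trans ?_)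
      exact (res_comp (O := X.sheaf) ((fg X.sheaf).obj E) g.op l.op t).symm
    · intro x hx
      obtain ⟨a, ha⟩ := (h x (k.le hx)).2 (gm (toPres.obj E) hx t)
      obtain ⟨V, hV, hxV, c, hc⟩ := exists_common a hx
      obtain rfl : a = fun i => (TopCat.Presheaf.germ X.presheaf V x hxV).hom (c i) :=
        funext fun i => (hc i).symm
      obtain ⟨V', hxV', h₁, h₂, e'⟩ := gm_eq (toPres.obj E) hxV hx ((gm_comb (hV.trans k.le) hxV c).trans ha)
      refine ⟨V', homOfLE h₂, ⟨fun i => (X.presheaf.map (homOfLE h₁).op).hom (c i), ?_⟩, hxV'⟩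
      refine Eq.trans ?_ e'
      exact (linearCombination_res (O := X.sheaf) E e (homOfLE h₁) (homOfLE (hV.trans k.le)) c).symm

lemma bijective_oneT (f : X ⟶ Y) (x : X) {k : ℕ} (P : ModuleCat.{u} (Y.presheaf.stalk (f.base x)))
    (v : Fin k → P) (hv : Function.Bijective (Fintype.linearCombination (Y.presheaf.stalk (f.base x)) v)) :
    Function.Bijective (Fintype.linearCombination (X.presheaf.stalk x) (fun i => oneT f x P (v i))) := by
  letI := (f.stalkMap x).hom.toAlgebra
  let b : Module.Basis (Fin k) (Y.presheaf.stalk (f.base x)) P :=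
    Module.Basis.ofEquivFun (LinearEquiv.ofBijective _ hv).symm
  have hb : ∀ i, b i = v i := fun i => by
    simp [b, Fintype.linearCombination_apply_single]
  let b' := Algebra.TensorProduct.basis (X.presheaf.stalk x) b
  have hb' : ∀ i, b' i = (1 : X.presheaf.stalk x) ⊗ₜ[Y.presheaf.stalk (f.base x)] v i := fun i => by
    rw [Algebra.TensorProduct.basis_apply, hb]
  have h2 : ∀ c, Fintype.linearCombination (X.presheaf.stalk x) (fun i => oneT f x P (v i)) c =
      b'.equivFun.symm c := fun c => by
    rw [Module.Basis.equivFun_symm_apply, Fintype.linearCombination_apply]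
    refine Finset.sum_congr rfl fun i _ => ?_
    rw [hb']
    rfl
  exact (funext h2 : ⇑(Fintype.linearCombination _ fun i => oneT f x P (v i)) = ⇑b'.equivFun.symm) ▸
    b'.equivFun.symm.bijective

/-- The inverse image of a basis is a basis. -/
lemma isBasis_pSec (f : Y ⟶ X) (he : IsBasis (O := X.sheaf) E e) :
    IsBasis (O := Y.sheaf) (U := f ⁻¹ᵁ U) ((Scheme.Modules.pullback f).obj E) fun i => pSec f E (e i) := by
  refine isBasis_of_isStalkBasis fun y hy => ?_
  have h1 := bijective_oneT f y ((DerSch.stalkFunctor X (f.base y)).obj E) (fun i => gm (toPres.obj E) hy (e i))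
    (isStalkBasis_of_isBasis he (f.base y) hy)
  let P := ((pullStalkIso f y).app E).symm.toLinearEquiv
  have h2 : ∀ c, Fintype.linearCombination (stR Y.presheaf y)
      (fun i => gm (toPres.obj ((Scheme.Modules.pullback f).obj E)) (U := f ⁻¹ᵁ U) hy (pSec f E (e i))) c =
      P (Fintype.linearCombination (Y.presheaf.stalk y)
        (fun i => oneT f y _ (gm (toPres.obj E) hy (e i))) c) := fun c => by
    rw [Fintype.linearCombination_apply, Fintype.linearCombination_apply]
    refine Eq.symm ((map_sum P _ _).trans (Finset.sum_congr rfl fun i _ => ?_))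
    exact (map_smul P _ _).trans (congrArg (_ • ·) (inv_oneT f y E hy (e i)))
  exact (funext h2 : _ = fun c => P _) ▸ P.bijective.comp h1

end Groth.Agent.ModGroth.LocBasis
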