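import Groth.Agent.ModGroth.StalkTensor
import Groth.Agent.ModGroth.LTensor
import Groth.Agent.KFlat.DTen

/-!
# The derived tensor product of complexes on a scheme
-/

universe u

open CategoryTheory CategoryTheory.Limits HomologicalComplex AlgebraicGeometry MonoidalCategory

attribute [local instance] HasDerivedCategory.standard

namespace Groth.Agent.ModGroth

section Site

variable {C : Type u} [SmallCategory C] {J : GrothendieckTopology C} {O : Sheaf J CommRingCat.{u}}

/-- Tensoring a quasi-isomorphism of K-flat complexes with anything on the right. -/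
lemma quasiIso_tensor_right {P Q : CochainComplex (ModSite.Mod O) ℤ} (α : P ⟶ Q) (hα : QuasiIso α)
    (hP : ModSite.IsKFlat P) (hQ : ModSite.IsKFlat Q) (E : CochainComplex (ModSite.Mod O) ℤ) :
    QuasiIso ((KFlat.tensL (ModSite.tensorBi O) E).map α) := by
  let RE := (kres O).R.obj E
  let q : RE ⟶ E := (kres O).q.app E
  have hq : QuasiIso q := (mem_quasiIso_iff _).1 ((kres O).q_mem E)
  have h1 : QuasiIso ((KFlat.tensL (ModSite.tensorBi O) RE).map α) :=
    KFlat.FlatR.quasiIso (ModSite.tensorBi O) ((kres O).good_R E) α hα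
  have h2 := KFlat.FlatL.quasiIso (ModSite.tensorBi O) (flatL_site hP) q hq
  have h3 := KFlat.FlatL.quasiIso (ModSite.tensorBi O) (flatL_site hQ) q hq
  have e := ((ModSite.tensorBi O).map₂CochainComplex.map α).naturality q
  have h4 : QuasiIso ((KFlat.tensL (ModSite.tensorBi O) RE).map α ≫ (KFlat.tensR (ModSite.tensorBi O) Q).map q) :=
    quasiIso_comp _ _
  have h5 : QuasiIso ((KFlat.tensR (ModSite.tensorBi O) P).map q ≫ (KFlat.tensL (ModSite.tensorBi O) E).map α) := by
    have e' : (KFlat.tensR (ModSite.tensorBi O) P).map q ≫ (KFlat.tensL (ModSite.tensorBi O) E).map α =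
        (KFlat.tensL (ModSite.tensorBi O) RE).map α ≫ (KFlat.tensR (ModSite.tensorBi O) Q).map q := e
    rw [e']
    exact h4
  exact quasiIso_of_comp_left ((KFlat.tensR (ModSite.tensorBi O) P).map q) _

end Site

section Scheme

variable {X : Scheme.{u}}

variable (X) in
/-- The trivial resolution. -/
noncomputable def trivRes : KFlat.FunctorialRes (HomologicalComplex.quasiIso X.Modules (ComplexShape.up ℤ)) where
  good _ := True
  R := 𝟭 _
  q := 𝟙 _
  good_R _ := trivial
  q_mem K := (mem_quasiIso_iff _).2 (inferInstanceAs (QuasiIso (𝟙 K)))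
  map_mem _ hf := hf

lemma inverts_tensorCxQ (E : CochainComplex X.Modules ℤ) : (kresX X).Inverts (DCoh.tensorCxQ E) :=
  fun P Q α hP hQ hα => by
    have h : QuasiIso (((DCoh.tensorCx (X := X)).flip.obj E).map α) :=
      quasiIso_tensor_right (O := X.sheaf) α ((mem_quasiIso_iff _).1 hα) hP hQ E
    exact inferInstanceAs (IsIso (DerivedCategory.Q.map (((DCoh.tensorCx (X := X)).flip.obj E).map α)))

lemma hasLTensorCx (E : CochainComplex X.Modules ℤ) : DCoh.HasLTensorCx E :=
  (kresX X).hasLeftDerivedFunctor (inverts_tensorCxQ E)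

/-- The comparison `K ⊗ᴸ E ⟶ K ⊗ E`. -/
noncomputable def ltenCounit (E : CochainComplex X.Modules ℤ) [DCoh.HasLTensorCx E] :
    DerivedCategory.Q ⋙ DCoh.LTensorCx E ⟶ DCoh.tensorCxQ E :=
  (DCoh.tensorCxQ E).totalLeftDerivedCounit DerivedCategory.Q
    (HomologicalComplex.quasiIso X.Modules (ComplexShape.up ℤ))

lemma isLeftDerived_ltenCounit (E : CochainComplex X.Modules ℤ) [DCoh.HasLTensorCx E] :
    (DCoh.LTensorCx E).IsLeftDerivedFunctor (ltenCounit E)
      (HomologicalComplex.quasiIso X.Modules (ComplexShape.up ℤ)) :=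
  inferInstanceAs (((DCoh.tensorCxQ E).totalLeftDerived DerivedCategory.Q
    (HomologicalComplex.quasiIso X.Modules (ComplexShape.up ℤ))).IsLeftDerivedFunctor
      ((DCoh.tensorCxQ E).totalLeftDerivedCounit DerivedCategory.Q
        (HomologicalComplex.quasiIso X.Modules (ComplexShape.up ℤ))) _)

lemma isIso_ltenCounit (E : CochainComplex X.Modules ℤ) [DCoh.HasLTensorCx E] {K : CochainComplex X.Modules ℤ}
    (hK : DCoh.IsKFlat K) : IsIso ((ltenCounit E).app K) :=
  haveI := isLeftDerived_ltenCounit E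
  (kresX X).isIso_counit DerivedCategory.Q (inverts_tensorCxQ E) _ (ltenCounit E) K hK

/-- If `E` is K-flat, nothing needs resolving. -/
lemma isIso_ltenCounit_of_flat (E : CochainComplex X.Modules ℤ) [DCoh.HasLTensorCx E] (hE : DCoh.IsKFlat E)
    (K : CochainComplex X.Modules ℤ) : IsIso ((ltenCounit E).app K) :=
  haveI := isLeftDerived_ltenCounit E
  (trivRes X).isIso_counit DerivedCategory.Q (fun P Q α _ _ hα => by
    have h : QuasiIso (((DCoh.tensorCx (X := X)).flip.obj E).map α) :=
      KFlat.FlatR.quasiIso (DCoh.tensorBi (X := X)) hE α ((mem_quasiIso_iff _).1 hα)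
    exact inferInstanceAs (IsIso (DerivedCategory.Q.map (((DCoh.tensorCx (X := X)).flip.obj E).map α))))
    _ (ltenCounit E) K trivial

/-- The value at a K-flat complex. -/
noncomputable def ltenValueIso (E : CochainComplex X.Modules ℤ) [DCoh.HasLTensorCx E]
    {K : CochainComplex X.Modules ℤ} (hK : DCoh.IsKFlat K) :
    (DCoh.LTensorCx E).obj (DCoh.toD X K) ≅ DCoh.toD X ((DCoh.tensorCx.obj K).obj E) :=
  @asIso _ _ _ _ _ (isIso_ltenCounit E hK)

/-- The value when the second factor is K-flat. -/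
noncomputable def ltenValueIso' (E : CochainComplex X.Modules ℤ) [DCoh.HasLTensorCx E] (hE : DCoh.IsKFlat E)
    (K : CochainComplex X.Modules ℤ) :
    (DCoh.LTensorCx E).obj (DCoh.toD X K) ≅ DCoh.toD X ((DCoh.tensorCx.obj K).obj E) :=
  @asIso _ _ _ _ _ (isIso_ltenCounit_of_flat E hE K)

/-- Tensor products of K-flat complexes are K-flat. -/
lemma isKFlat_tensorCx {K L : CochainComplex X.Modules ℤ} (hK : DCoh.IsKFlat K) (hL : DCoh.IsKFlat L) :
    DCoh.IsKFlat ((DCoh.tensorCx.obj K).obj L) :=
  Stalk.isKFlat_of_stalks _ fun x => KFlat.FlatR.of_iso _ (Stalk.stalkTotIso x K L)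
    (KFlat.isKFlat_tensor (Stalk.stalks_of_isKFlat x K hK) (Stalk.stalks_of_isKFlat x L hL))

end Scheme

end Groth.Agent.ModGroth
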