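import Groth.Agent.ModGroth.PerfLocal
import Groth.Agent.ModGroth.PullTensor
import Groth.Agent.ModGroth.LTensorCx
import Groth.Agent.ModGroth.KFlatExact
import Mathlib.CategoryTheory.Limits.Shapes.FiniteProducts
import Mathlib.Algebra.BigOperators.Fin

/-!
# Tensor products of strictly perfect and of perfect complexes
-/

universe u

open CategoryTheory CategoryTheory.Limits Opposite AlgebraicGeometry HomologicalComplex MonoidalCategory

attribute [local instance] HasDerivedCategory.standard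

namespace Groth.Agent.ModGroth.Perf

variable {X : Scheme.{u}}

lemma free_of_le' {M : X.Modules} {U V : X.Opens} (h : V ≤ U) {n : ℕ}
    (e : M.restrict U.ι ≅ FlatMod.freeMod (↑U) n) :
    Nonempty (M.restrict V.ι ≅ FlatMod.freeMod (↑V) n) :=
  LocFree.free_of_le h e

lemma preservesColimits_tensorBi_flip (N : X.Modules) :
    PreservesColimitsOfSize.{u, u} ((DCoh.tensorBi (X := X)).flip.obj N) :=
  tensor_flip_preservesColimits (O := X.sheaf) N

/-- `O ⊗ N ≅ N`. -/
noncomputable def unitTensorIso (N : X.Modules) :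
    ((DCoh.tensorBi (X := X)).obj (Coh.structureModule X)).obj N ≅ N :=
  (tensorSymm (O := X.sheaf) (Coh.structureModule X)).app N ≪≫
    (((ModSite.tensorBi X.sheaf).obj N).mapIso
      (@asIso _ _ _ _ ((adjn X.sheaf).counit.app (SheafOfModules.unit X.ringCatSheaf))
        (@NatIso.isIso_app_of_isIso _ _ _ _ _ _ (adjn X.sheaf).counit
          (inferInstanceAs (IsIso (PresheafOfModules.sheafificationAdjunction
            (𝟙 (ModSite.ringSh X.sheaf).obj)).counit)) _))).symm ≪≫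
    (unitTR (O := X.sheaf)).app N

/-- `O^n ⊗ N ≅ N^n`. -/
noncomputable def freeTensorIso (n : ℕ) (N : X.Modules) :
    ((DCoh.tensorBi (X := X)).obj (FlatMod.freeMod X n)).obj N ≅ ∐ fun _ : Fin n => N :=
  haveI := preservesColimits_tensorBi_flip N
  haveI : PreservesColimitsOfSize.{0, 0} ((DCoh.tensorBi (X := X)).flip.obj N) :=
    preservesColimitsOfSize_shrink _
  PreservesCoproduct.iso ((DCoh.tensorBi (X := X)).flip.obj N) _ ≪≫ Sigma.mapIso fun _ => unitTensorIso N

/-- `(O^m)^n ≅ O^(Σ m)`. -/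
noncomputable def sigmaFreeIso {n : ℕ} (m : Fin n → ℕ) :
    (∐ fun i => FlatMod.freeMod X (m i)) ≅ FlatMod.freeMod X (∑ i, m i) :=
  sigmaSigmaIso (fun i : Fin n => Fin (m i)) (fun _ _ => Coh.structureModule X) ≪≫
    Sigma.whiskerEquiv (f := fun _ : (i : Fin n) × Fin (m i) => Coh.structureModule X)
      (g := fun _ : Fin (∑ i, m i) => Coh.structureModule X) finSigmaFinEquiv fun _ => Iso.refl _

lemma free_tensor (n m : ℕ) :
    Nonempty (((DCoh.tensorBi (X := X)).obj (FlatMod.freeMod X n)).obj (FlatMod.freeMod X m) ≅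
      FlatMod.freeMod X (∑ _i : Fin n, m)) :=
  ⟨freeTensorIso n _ ≪≫ sigmaFreeIso fun _ => m⟩

/-- Restriction commutes with tensor products. -/
noncomputable def restrTensorIso {U : Scheme.{u}} (j : U ⟶ X) [IsOpenImmersion j] (M N : X.Modules) :
    (((DCoh.tensorBi (X := X)).obj M).obj N).restrict j ≅
      ((DCoh.tensorBi (X := U)).obj (M.restrict j)).obj (N.restrict j) :=
  (Scheme.Modules.restrictFunctorIsoPullback j).app _ ≪≫ asIso (Stalk.mu j M N) ≪≫
    ((DCoh.tensorBi (X := U)).mapIso ((Scheme.Modules.restrictFunctorIsoPullback j).app M).symm).app _ ≪≫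
    ((DCoh.tensorBi (X := U)).obj (M.restrict j)).mapIso
      ((Scheme.Modules.restrictFunctorIsoPullback j).app N).symm

lemma isFinLocFree_tensor {M N : X.Modules} (hM : FlatMod.IsFinLocFree M) (hN : FlatMod.IsFinLocFree N) :
    FlatMod.IsFinLocFree (((DCoh.tensorBi (X := X)).obj M).obj N) := fun x => by
  obtain ⟨U, n, hxU, ⟨i⟩⟩ := hM x
  obtain ⟨V, m, hxV, ⟨j⟩⟩ := hN x
  obtain ⟨i'⟩ := free_of_le' (inf_le_left : U ⊓ V ≤ U) i
  obtain ⟨j'⟩ := free_of_le' (inf_le_right : U ⊓ V ≤ V) j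
  obtain ⟨e⟩ := free_tensor (X := ((U ⊓ V : X.Opens) : Scheme.{u})) n m
  exact ⟨U ⊓ V, _, ⟨hxU, hxV⟩, ⟨restrTensorIso (U ⊓ V).ι M N ≪≫
    ((DCoh.tensorBi (X := ((U ⊓ V : X.Opens) : Scheme.{u}))).mapIso i').app _ ≪≫
    ((DCoh.tensorBi (X := ((U ⊓ V : X.Opens) : Scheme.{u}))).obj _).mapIso j' ≪≫ e⟩⟩

lemma isFinLocFree_of_isZero {M : X.Modules} (h : IsZero M) : FlatMod.IsFinLocFree M := fun _ =>
  ⟨⊤, 0, trivial, ⟨((Scheme.Modules.restrictFunctor (⊤ : X.Opens).ι).map_isZero h).iso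
    ((IsZero.iff_id_eq_zero _).2 (Sigma.hom_ext _ _ fun i => i.elim0))⟩⟩

lemma isFinLocFree_sigma {n : ℕ} (M : Fin n → X.Modules) (h : ∀ i, FlatMod.IsFinLocFree (M i)) :
    FlatMod.IsFinLocFree (∐ M) := fun x => by
  choose U m hx e using fun i => h i x
  let W : X.Opens := ⟨⋂ i, (U i : Set X), isOpen_iInter_of_finite fun i => (U i).2⟩
  have e' : ∀ i, (M i).restrict W.ι ≅ FlatMod.freeMod (W : Scheme.{u}) (m i) := fun i =>
    (free_of_le' (fun y hy => Set.mem_iInter.1 hy i : W ≤ U i) (e i).some).some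
  haveI : PreservesColimitsOfSize.{0, 0} (Scheme.Modules.restrictFunctor W.ι) :=
    (Scheme.Modules.restrictAdjunction W.ι).leftAdjoint_preservesColimits
  exact ⟨W, _, Set.mem_iInter.2 hx, ⟨PreservesCoproduct.iso (Scheme.Modules.restrictFunctor W.ι) M ≪≫
    Sigma.mapIso e' ≪≫ sigmaFreeIso m⟩⟩

lemma ιMapBifunctor_congr {S T : CochainComplex X.Modules ℤ} {p p' q q' n : ℤ} (hp : p = p') (hq : q = q')
      (h : p + q = n) (h' : p' + q' = n) :
      eqToHom (by rw [hp, hq]) ≫ ιMapBifunctor S T (DCoh.tensorBi (X := X)) (ComplexShape.up ℤ) p' q' n h' =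
        ιMapBifunctor S T (DCoh.tensorBi (X := X)) (ComplexShape.up ℤ) p q n h := by
  subst hp; subst hq; simp

/-- Tensor products of strictly perfect complexes are strictly perfect. -/
lemma isStrictlyPerfect_tensorCx {S T : CochainComplex X.Modules ℤ} (hS : DCoh.IsStrictlyPerfect S)
    (hT : DCoh.IsStrictlyPerfect T) : DCoh.IsStrictlyPerfect ((DCoh.tensorCx.obj S).obj T) := by
  obtain ⟨⟨a, b, hz⟩, hl⟩ := hS
  obtain ⟨⟨a', b', hz'⟩, hl'⟩ := hT
  have key : ∀ (p q : ℤ), (p < a ∨ b < p) ∨ (q < a' ∨ b' < q) →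
      IsZero (((DCoh.tensorBi (X := X)).obj (S.X p)).obj (T.X q)) := fun p q h => by
    rcases h with h | h
    · exact ((DCoh.tensorBi (X := X)).map_isZero (hz p h)).obj _
    · exact ((DCoh.tensorBi (X := X)).obj (S.X p)).map_isZero (hz' q h)
  refine ⟨⟨a + a', b + b', fun n hn => ?_⟩, fun n => ?_⟩
  · exact (IsZero.iff_id_eq_zero _).2 (mapBifunctor.hom_ext fun p q h =>
      (key p q (by have h' : p + q = n := h; omega)).eq_of_src _ _)
  · let G : Fin (b - a + 1).toNat → X.Modules := fun k =>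
      ((DCoh.tensorBi (X := X)).obj (S.X (a + k))).obj (T.X (n - (a + k)))
    let ι' : ∀ k, G k ⟶ (mapBifunctor S T (DCoh.tensorBi (X := X)) (ComplexShape.up ℤ)).X n := fun k =>
      ιMapBifunctor S T (DCoh.tensorBi (X := X)) (ComplexShape.up ℤ) (a + k) (n - (a + k)) n
        (show (a + (k : ℤ)) + (n - (a + k)) = n by omega)
    have hiso : IsIso (Sigma.desc ι') := by
      refine ⟨mapBifunctorDesc fun p q h =>
        if hp : a ≤ p ∧ p ≤ b then
          eqToHom (by
            have h' : p + q = n := h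
            change _ = ((DCoh.tensorBi (X := X)).obj (S.X (a + ((p - a).toNat : ℤ)))).obj
              (T.X (n - (a + ((p - a).toNat : ℤ))))
            rw [show a + ((p - a).toNat : ℤ) = p by omega, show n - p = q by omega]) ≫
            Sigma.ι G ⟨(p - a).toNat, by omega⟩
        else 0, ?_, ?_⟩
      · refine Sigma.hom_ext _ _ fun k => ?_
        rw [Sigma.ι_desc_assoc, Category.comp_id]
        simp only [ι']
        erw [ι_mapBifunctorDesc]
        have hk := k.2
        rw [dif_pos (show a ≤ a + (k : ℤ) ∧ a + (k : ℤ) ≤ b by omega)]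
        have hk' : (⟨(a + (k : ℤ) - a).toNat, by omega⟩ : Fin (b - a + 1).toNat) = k := Fin.ext (by simp)
        exact Sigma.eqToHom_comp_ι G hk'.symm
      · refine mapBifunctor.hom_ext fun p q h => ?_
        have h' : p + q = n := h
        erw [ι_mapBifunctorDesc_assoc, Category.comp_id]
        split_ifs with hp
        · rw [Category.assoc, Sigma.ι_desc]
          have e1 : a + ((p - a).toNat : ℤ) = p := by omega
          have e2 : n - (a + ((p - a).toNat : ℤ)) = q := by omega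
          simp only [ι']
          exact ιMapBifunctor_congr (S := S) (T := T) e1.symm e2.symm _ _
        · exact (key p q (by omega)).eq_of_src _ _
    exact LocFree.IsFinLocFree.of_iso (@asIso _ _ _ _ _ hiso)
      (isFinLocFree_sigma G fun k => isFinLocFree_tensor (hl _) (hl' _))
/-- Restriction commutes with tensor products of complexes. -/
noncomputable def restrTotIso (V : X.Opens) (K L : CochainComplex X.Modules ℤ) :
    (DCoh.restrictCx V).obj ((DCoh.tensorCx.obj K).obj L) ≅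
      (DCoh.tensorCx.obj ((DCoh.restrictCx V).obj K)).obj ((DCoh.restrictCx V).obj L) :=
  let e := NatIso.mapHomologicalComplex (Scheme.Modules.restrictFunctorIsoPullback V.ι) (ComplexShape.up ℤ)
  e.app _ ≪≫ Stalk.pullTotIso V.ι K L ≪≫
    ((DCoh.tensorCx (X := (V : Scheme.{u}))).mapIso (e.app K).symm).app _ ≪≫
    ((DCoh.tensorCx (X := (V : Scheme.{u}))).obj _).mapIso (e.app L).symm

/-- In `D`, a K-flat second factor may be replaced by an isomorphic one. -/
lemma nonempty_tensor_congr_right (K : CochainComplex X.Modules ℤ) {L L' : CochainComplex X.Modules ℤ}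
    (hL : DCoh.IsKFlat L) (hL' : DCoh.IsKFlat L') (e : DCoh.toD X L ≅ DCoh.toD X L') :
    Nonempty (DCoh.toD X ((DCoh.tensorCx.obj K).obj L) ≅ DCoh.toD X ((DCoh.tensorCx.obj K).obj L')) := by
  obtain ⟨E, s, hs, a, ha⟩ := DerivedCategory.right_fac e.hom
  obtain ⟨R, p, hR, -, hp, -⟩ := scheme_exists_resolution E
  let Q' : CochainComplex X.Modules ℤ ⥤ DCoh.D X := DerivedCategory.Q
  have hp' : IsIso (Q'.map p) := Amp.isIso_Q_map p hp
  have hs' : IsIso (Q'.map s) := hs
  have ha' : IsIso (Q'.map a) := by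
    rw [show Q'.map a = Q'.map s ≫ e.hom by rw [ha]; exact (IsIso.hom_inv_id_assoc _ _).symm]
    infer_instance
  have h1 : QuasiIso (p ≫ s) := by
    rw [← DerivedCategory.isIso_Q_map_iff_quasiIso]
    show IsIso (Q'.map (p ≫ s))
    rw [Q'.map_comp]; infer_instance
  have h2 : QuasiIso (p ≫ a) := by
    rw [← DerivedCategory.isIso_Q_map_iff_quasiIso]
    show IsIso (Q'.map (p ≫ a))
    rw [Q'.map_comp]; infer_instance
  exact ⟨(@asIso _ _ _ _ _ (Amp.isIso_Q_map (((DCoh.tensorCx (X := X)).obj K).map (p ≫ s))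
      (quasiIso_tensor_left (O := X.sheaf) (p ≫ s) h1 hR hL K))).symm ≪≫
    @asIso _ _ _ _ _ (Amp.isIso_Q_map (((DCoh.tensorCx (X := X)).obj K).map (p ≫ a))
      (quasiIso_tensor_left (O := X.sheaf) (p ≫ a) h2 hR hL' K))⟩

/-- Restriction in two steps. -/
noncomputable def restrLEIso {V W : X.Opens} (h : W ≤ V) (P : CochainComplex X.Modules ℤ) :
      (Stalk.pcx (X.homOfLE h)).obj ((DCoh.restrictCx V).obj P) ≅ (DCoh.restrictCx W).obj P :=
    (NatIso.mapHomologicalComplex (Functor.isoWhiskerRight (Scheme.Modules.restrictFunctorIsoPullback V.ι)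
        (Scheme.Modules.pullback (X.homOfLE h)) ≪≫
      Scheme.Modules.pullbackComp (X.homOfLE h) V.ι ≪≫ Scheme.Modules.pullbackCongr (X.homOfLE_ι h) ≪≫
      (Scheme.Modules.restrictFunctorIsoPullback W.ι).symm) (ComplexShape.up ℤ)).app P

/-- Derived tensor products of perfect objects are perfect. -/
theorem isPerfect_ltensorCx (L : CochainComplex X.Modules ℤ) (hL : DCoh.IsKFlat L)
    (hLp : DCoh.IsPerfect (DCoh.toD X L)) [DCoh.HasLTensorCx L] (K : DCoh.D X) (hK : DCoh.IsPerfect K) :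
    DCoh.IsPerfect ((DCoh.LTensorCx L).obj K) := by
  rw [isPerfect_iff] at hLp hK ⊢
  intro x
  obtain ⟨V₁, h₁, S₁, hS₁, ⟨e₁⟩⟩ := hK x
  obtain ⟨V₂, h₂, T₂, hT₂, ⟨e₂⟩⟩ := hLp x
  obtain ⟨P, hP, -, ⟨eP⟩⟩ := Amp.exists_rep K
  let W : X.Opens := V₁ ⊓ V₂
  let g₁ : (W : Scheme.{u}) ⟶ (V₁ : Scheme.{u}) := X.homOfLE inf_le_left
  let g₂ : (W : Scheme.{u}) ⟶ (V₂ : Scheme.{u}) := X.homOfLE inf_le_right
  haveI := Stalk.hasLpull g₁
  haveI := Stalk.hasLpull g₂
  let S : CochainComplex (W : Scheme.{u}).Modules ℤ := (Stalk.pcx g₁).obj S₁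
  let T : CochainComplex (W : Scheme.{u}).Modules ℤ := (Stalk.pcx g₂).obj T₂
  have hS : DCoh.IsStrictlyPerfect S := isStrictlyPerfect_pullback g₁ hS₁
  have hT : DCoh.IsStrictlyPerfect T := isStrictlyPerfect_pullback g₂ hT₂
  have eS : DCoh.toD (W : Scheme.{u}) ((DCoh.restrictCx W).obj P) ≅ DCoh.toD (W : Scheme.{u}) S :=
    DerivedCategory.Q.mapIso (restrLEIso inf_le_left P).symm ≪≫
      (Stalk.lpullValueIso g₁ (isKFlat_restrictCx V₁ hP)).symm ≪≫
      (DCoh.Lpull g₁).mapIso (rDIso V₁ eP ≪≫ e₁) ≪≫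
      Stalk.lpullValueIso g₁ (isKFlat_of_isStrictlyPerfect hS₁)
  have eT : DCoh.toD (W : Scheme.{u}) ((DCoh.restrictCx W).obj L) ≅ DCoh.toD (W : Scheme.{u}) T :=
    DerivedCategory.Q.mapIso (restrLEIso inf_le_right L).symm ≪≫
      (Stalk.lpullValueIso g₂ (isKFlat_restrictCx V₂ hL)).symm ≪≫
      (DCoh.Lpull g₂).mapIso (rDIso V₂ (Iso.refl _) ≪≫ e₂) ≪≫
      Stalk.lpullValueIso g₂ (isKFlat_of_isStrictlyPerfect hT₂)
  haveI := hasLTensorCx ((DCoh.restrictCx W).obj L)
  obtain ⟨e₃⟩ := nonempty_tensor_congr_right S (isKFlat_restrictCx W hL) (isKFlat_of_isStrictlyPerfect hT) eT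
  refine ⟨W, ⟨h₁, h₂⟩, _, isStrictlyPerfect_tensorCx hS hT, ⟨?_⟩⟩
  exact (rDIso W ((ltenValueIso L hP).symm ≪≫ (DCoh.LTensorCx L).mapIso eP)).symm ≪≫
    DerivedCategory.Q.mapIso (restrTotIso W P L) ≪≫
    (ltenValueIso _ (isKFlat_restrictCx W hP)).symm ≪≫
    (DCoh.LTensorCx ((DCoh.restrictCx W).obj L)).mapIso eS ≪≫
    ltenValueIso _ (isKFlat_of_isStrictlyPerfect hS) ≪≫ e₃
end Groth.Agent.ModGroth.Perf
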