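import Groth.Agent.ModGroth.StalkTensor
import Groth.Agent.LBC.Basic
import Groth.Agent.KFlat.BaseChange
import Mathlib.CategoryTheory.Adjunction.Unique

/-!
# Stalks of the inverse image of a sheaf of modules; pullbacks of K-flat complexes
-/

universe u

open CategoryTheory CategoryTheory.Limits Opposite TopologicalSpace AlgebraicGeometry HomologicalComplex

attribute [local instance] HasDerivedCategory.standard

namespace Groth.Agent.ModGroth.Stalk

variable {X Y : Scheme.{u}} (f : X ⟶ Y) (x : X)

/-- Sections of the pushforward of a skyscraper. -/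
noncomputable def pushSec (N : ModuleCat.{u} (X.presheaf.stalk x)) (U : (Opens Y)ᵒᵖ) :
    ModuleCat.{u} (Y.ringCatSheaf.obj.obj U) :=
  ((Scheme.Modules.pushforward f).obj ((skyF x).obj N)).val.obj U

/-- Sections of the skyscraper at the image. -/
noncomputable def skySec (N : ModuleCat.{u} (X.presheaf.stalk x)) (U : (Opens Y)ᵒᵖ) :
    ModuleCat.{u} (Y.ringCatSheaf.obj.obj U) :=
  ((skyF (f.base x)).obj ((ModuleCat.restrictScalars (f.stalkMap x).hom).obj N)).val.obj U

lemma pushSec_smul (N : ModuleCat.{u} (X.presheaf.stalk x)) (U : (Opens Y)ᵒᵖ)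
    (r : Y.ringCatSheaf.obj.obj U) (s : pushSec f x N U) :
    ((r • s : pushSec f x N U) : PLift (x ∈ f ⁻¹ᵁ U.unop) → N) =
      (r • (show skySec f x N U from s) : skySec f x N U) :=
  funext fun h => congrArg (· • (show PLift (x ∈ f ⁻¹ᵁ U.unop) → N from s) h)
    (Scheme.Hom.germ_stalkMap_apply f U.unop x h.down r).symm

/-- The componentwise identity, linearly. -/
noncomputable def pushSecEquiv (N : ModuleCat.{u} (X.presheaf.stalk x)) (U : (Opens Y)ᵒᵖ) :
    pushSec f x N U ≃ₗ[Y.ringCatSheaf.obj.obj U] skySec f x N U where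
  toFun s := (show skySec f x N U from s)
  map_add' _ _ := rfl
  map_smul' r s := pushSec_smul f x N U r s
  invFun s := (show pushSec f x N U from s)
  left_inv _ := rfl
  right_inv _ := rfl

/-- The componentwise identity. -/
noncomputable def pushSecIso (N : ModuleCat.{u} (X.presheaf.stalk x)) (U : (Opens Y)ᵒᵖ) :
    pushSec f x N U ≅ skySec f x N U :=
  (pushSecEquiv f x N U).toModuleIso

/-- Pushforward of a skyscraper, componentwise. -/
noncomputable def pushSkyApp (N : ModuleCat.{u} (X.presheaf.stalk x)) :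
    ((Scheme.Modules.pushforward f).obj ((skyF x).obj N)).val ≅
      ((skyF (f.base x)).obj ((ModuleCat.restrictScalars (f.stalkMap x).hom).obj N)).val :=
  PresheafOfModules.isoMk (fun U => pushSecIso f x N U)
    (fun {U V} g => ModuleCat.hom_ext (LinearMap.ext fun s => rfl))

/-- Pushforward of skyscrapers. -/
noncomputable def pushSkyIso : skyF x ⋙ Scheme.Modules.pushforward f ≅
    ModuleCat.restrictScalars (f.stalkMap x).hom ⋙ skyF (f.base x) :=
  NatIso.ofComponents (fun N => (SheafOfModules.fullyFaithfulForget _).preimageIso (pushSkyApp f x N))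
    fun g => SheafOfModules.Hom.ext (PresheafOfModules.hom_ext fun U => ModuleCat.hom_ext (LinearMap.ext fun s => rfl))

/-- `(f^* M)_x ≅ M_{f x} ⊗ O_{X,x}`. -/
noncomputable def pullStalkIso : Scheme.Modules.pullback f ⋙ DerSch.stalkFunctor X x ≅
    DerSch.stalkFunctor Y (f.base x) ⋙ ModuleCat.extendScalars.{u, u, u} (f.stalkMap x).hom :=
  Adjunction.leftAdjointUniq
    (((Scheme.Modules.pullbackPushforwardAdjunction f).comp (stalkAdj x)).ofNatIsoRight (pushSkyIso f x))
    ((stalkAdj (f.base x)).comp (ModuleCat.extendRestrictScalarsAdj.{u, u, u} (f.stalkMap x).hom))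

/-- Pullback of complexes. -/
noncomputable abbrev pcx : CochainComplex Y.Modules ℤ ⥤ CochainComplex X.Modules ℤ :=
  (Scheme.Modules.pullback f).mapHomologicalComplex (ComplexShape.up ℤ)

/-- The same on complexes. -/
noncomputable def pullStalkCxIso (K : CochainComplex Y.Modules ℤ) :
    (stc x).obj ((pcx f).obj K) ≅
      (DTen.extCx (f.stalkMap x).hom).obj ((stc (f.base x)).obj K) :=
  (NatIso.mapHomologicalComplex (pullStalkIso f x) (ComplexShape.up ℤ)).app K

/-- Pullback preserves K-flatness. -/
lemma isKFlat_pullback (K : CochainComplex Y.Modules ℤ) (hK : DCoh.IsKFlat K) :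
    DCoh.IsKFlat ((pcx f).obj K) :=
  isKFlat_of_stalks _ fun x => KFlat.FlatR.of_iso _ (pullStalkCxIso f x K).symm
    (KFlat.isKFlat_ext (f.stalkMap x).hom (stalks_of_isKFlat (f.base x) K hK))

/-- An acyclic K-flat complex has acyclic pullback. -/
lemma acyclic_pullback (K : CochainComplex Y.Modules ℤ) (hK : DCoh.IsKFlat K) (hac : K.Acyclic) :
    ((pcx f).obj K).Acyclic := fun i => by
  rw [exactAt_iff_isZero_homology]
  refine isZero_homology_of_stc _ i fun x => ?_
  refine IsZero.of_iso ?_ ((homologyFunctor _ (ComplexShape.up ℤ) i).mapIso (pullStalkCxIso f x K))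
  rw [homologyFunctor_obj, ← exactAt_iff_isZero_homology]
  exact LBC.acyclic_ext_of_kFlat (f.stalkMap x).hom (stalks_of_isKFlat (f.base x) K hK)
    (fun j => (exactAt_iff_isZero_homology _ _).2
      (isZero_homology_stc (f.base x) K j ((exactAt_iff_isZero_homology _ _).1 (hac j)))) i

lemma goodInverts_pullback : DerivedLeft.GoodInverts (Scheme.Modules.pullback f) (kresX Y) :=
  fun K L φ hK hL hφ => quasiIso_of_acyclic_mappingCone _ fun i =>
    (acyclic_pullback f _ (KFlat.FlatR.mappingCone (DCoh.tensorBi (X := Y)) φ hK hL)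
      (KFlat.acyclic_mappingCone_of_quasiIso φ) i).of_iso
        (CochainComplex.mappingCone.mapHomologicalComplexIso φ (Scheme.Modules.pullback f))

lemma hasLpull : DCoh.HasLpull f :=
  DerivedLeft.hasLeftDerivedFunctor (goodInverts_pullback f)

/-- The derived pullback is computed by K-flat complexes. -/
noncomputable def lpullValueIso [DCoh.HasLpull f] {K : CochainComplex Y.Modules ℤ} (hK : DCoh.IsKFlat K) :
    (DCoh.Lpull f).obj (DCoh.toD Y K) ≅ DCoh.toD X ((pcx f).obj K) :=
  DerivedLeft.valueIso (hK := ‹DCoh.HasLpull f›) (goodInverts_pullback f) hK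

lemma isFlat_pullback {M : Y.Modules} (hM : FlatMod.IsFlat M) :
    FlatMod.IsFlat ((Scheme.Modules.pullback f).obj M) := fun x => by
  have h1 : Module.Flat (Y.presheaf.stalk (f.base x)) ((DerSch.stalkFunctor Y (f.base x)).obj M) := hM (f.base x)
  have h2 : Module.Flat (X.presheaf.stalk x)
      ((ModuleCat.extendScalars.{u, u, u} (f.stalkMap x).hom).obj ((DerSch.stalkFunctor Y (f.base x)).obj M)) := by
    letI := (f.stalkMap x).hom.toAlgebra
    exact inferInstanceAs (Module.Flat (X.presheaf.stalk x)
      (TensorProduct (Y.presheaf.stalk (f.base x)) (X.presheaf.stalk x) ((DerSch.stalkFunctor Y (f.base x)).obj M)))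
  exact @Module.Flat.of_linearEquiv _ _ _ _ _ _ _ _ h2 ((pullStalkIso f x).app M).toLinearEquiv

end Groth.Agent.ModGroth.Stalk
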