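import Groth.Agent.ModGroth.StalkTensor
import Mathlib.AlgebraicGeometry.Morphisms.ClosedImmersion
import Mathlib.CategoryTheory.Limits.Preserves.Limits

/-!
# Stalks of direct images along immersions; direct images along closed immersions preserve colimits
-/

universe u

open CategoryTheory CategoryTheory.Limits Opposite TopologicalSpace AlgebraicGeometry

namespace Groth.Agent.ModGroth.PushStalk

open Stalk

/-- Colimits are preserved when they are so after each functor of a conservative family. -/
lemma preservesColimitsOfShape_of_jointly {A B : Type*} [Category A] [Category B] {J : Type*} [Category J]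
    [HasColimitsOfShape J A] [HasColimitsOfShape J B] (F : A ⥤ B) {ι : Type*} {E : ι → Type*}
    [∀ i, Category (E i)] [∀ i, HasColimitsOfShape J (E i)] (G : ∀ i, B ⥤ E i)
    (hG : ∀ {M N : B} (φ : M ⟶ N), (∀ i, IsIso ((G i).map φ)) → IsIso φ)
    [∀ i, PreservesColimitsOfShape J (G i)] [∀ i, PreservesColimitsOfShape J (F ⋙ G i)] :
    PreservesColimitsOfShape J F where
  preservesColimit {K} := by
    have : IsIso (colimit.post K F) := hG _ fun i => by
      have h := colimit.post_post K F (G i)
      have h1 : IsIso (colimit.post (K ⋙ F) (G i)) := inferInstance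
      have h2 : IsIso (colimit.post K (F ⋙ G i)) := inferInstance
      exact IsIso.of_isIso_fac_left h
    exact preservesColimit_of_isIso_post _ _

variable {X Y : Scheme.{u}} (f : X ⟶ Y)

/-- `(f_* M)_{f x} ⟶ M_x`. -/
noncomputable def spHom (x : X) (M : X.Modules) :
    (DerSch.stalkFunctor Y (f.base x)).obj ((Scheme.Modules.pushforward f).obj M) →+
      (DerSch.stalkFunctor X x).obj M :=
  (TopCat.Presheaf.stalkPushforward AddCommGrpCat.{u} f.base M.presheaf x).hom

lemma spHom_gm (x : X) (M : X.Modules) {U : Y.Opens} (hx : f.base x ∈ U)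
    (s : (toPres.obj ((Scheme.Modules.pushforward f).obj M)).obj (op U)) :
    spHom f x M (gm (toPres.obj ((Scheme.Modules.pushforward f).obj M)) hx s) =
      gm (toPres.obj M) (U := f ⁻¹ᵁ U) hx s :=
  ConcreteCategory.congr_hom (TopCat.Presheaf.stalkPushforward_germ AddCommGrpCat.{u} f.base M.presheaf U x hx) s

lemma spHom_smul (x : X) (M : X.Modules) (r : Y.presheaf.stalk (f.base x))
    (α : (DerSch.stalkFunctor Y (f.base x)).obj ((Scheme.Modules.pushforward f).obj M)) :
    spHom f x M (r • α) = (f.stalkMap x).hom r • spHom f x M α := by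
  obtain ⟨V, hV, s, rfl⟩ := exists_gm (toPres.obj ((Scheme.Modules.pushforward f).obj M)) α
  obtain ⟨W, hW, r, rfl⟩ := TopCat.Presheaf.exists_germ_eq Y.presheaf r
  let r' := (Y.presheaf.map (homOfLE (inf_le_right : V ⊓ W ≤ W)).op).hom r
  let s' := rs (toPres.obj ((Scheme.Modules.pushforward f).obj M)) (homOfLE (inf_le_left : V ⊓ W ≤ V)).op s
  have hr : (TopCat.Presheaf.germ Y.presheaf (V ⊓ W) (f.base x) ⟨hV, hW⟩).hom r' =
      (TopCat.Presheaf.germ Y.presheaf W (f.base x) hW).hom r :=
    TopCat.Presheaf.germ_res_apply Y.presheaf _ _ _ r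
  rw [← hr, ← gm_res (toPres.obj ((Scheme.Modules.pushforward f).obj M)) (inf_le_left : V ⊓ W ≤ V) (x := f.base x) ⟨hV, hW⟩ s]
  refine (congrArg (spHom f x M) (gm_smul (toPres.obj ((Scheme.Modules.pushforward f).obj M)) _ r' s').symm).trans ?_
  refine (spHom_gm f x M (U := V ⊓ W) ⟨hV, hW⟩ _).trans ?_
  refine (gm_smul (toPres.obj M) (U := f ⁻¹ᵁ (V ⊓ W)) (x := x) ⟨hV, hW⟩ ((f.app (V ⊓ W)).hom r') s').trans ?_
  exact congrArg₂ (· • ·) (Scheme.Hom.germ_stalkMap_apply f (V ⊓ W) x ⟨hV, hW⟩ r').symm
    (spHom_gm f x M (U := V ⊓ W) ⟨hV, hW⟩ s').symm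

lemma spHom_bijective (hf : Topology.IsInducing f.base) (x : X) (M : X.Modules) :
    Function.Bijective (spHom f x M) :=
  have := TopCat.Presheaf.stalkPushforward.stalkPushforward_iso_of_isInducing (C := AddCommGrpCat.{u}) hf M.presheaf x
  ConcreteCategory.bijective_of_isIso _

lemma spHom_natural (x : X) {M N : X.Modules} (φ : M ⟶ N)
    (α : (DerSch.stalkFunctor Y (f.base x)).obj ((Scheme.Modules.pushforward f).obj M)) :
    spHom f x N ((DerSch.stalkFunctor Y (f.base x)).map ((Scheme.Modules.pushforward f).map φ) α) =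
      (DerSch.stalkFunctor X x).map φ (spHom f x M α) := by
  obtain ⟨U, hU, s, rfl⟩ := exists_gm (toPres.obj ((Scheme.Modules.pushforward f).obj M)) α
  refine (congrArg (spHom f x N) ((stalkFunctor_map_eq _ _ _).trans (stMap_gm _ hU s))).trans ?_
  refine (spHom_gm f x N hU _).trans ?_
  refine Eq.trans ?_ (congrArg _ (spHom_gm f x M hU s)).symm
  exact ((stalkFunctor_map_eq x φ _).trans (stMap_gm (toPres.map φ) (U := f ⁻¹ᵁ U) hU s)).symm

/-- Stalks of a direct image at a point of the source, for an inducing map. -/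
noncomputable def pushStalkIso (hf : Topology.IsInducing f.base) (x : X) :
    Scheme.Modules.pushforward f ⋙ DerSch.stalkFunctor Y (f.base x) ≅
      DerSch.stalkFunctor X x ⋙ ModuleCat.restrictScalars (f.stalkMap x).hom :=
  NatIso.ofComponents (fun M => LinearEquiv.toModuleIso
    (LinearEquiv.ofBijective
      (σ₁₂ := RingHom.id (Y.presheaf.stalk (f.base x)))
      (M₂ := (ModuleCat.restrictScalars (f.stalkMap x).hom).obj ((DerSch.stalkFunctor X x).obj M))
      { toFun := spHom f x M
        map_add' := map_add _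
        map_smul' := spHom_smul f x M }
      (spHom_bijective f hf x M)))
    fun φ => ModuleCat.hom_ext (LinearMap.ext fun α => spHom_natural f x φ α)

/-- Direct images vanish outside the (closed) image. -/
lemma isZero_stalk_push (hf : IsClosed (Set.range f.base)) {y : Y} (hy : y ∉ Set.range f.base) (M : X.Modules) :
    IsZero ((DerSch.stalkFunctor Y y).obj ((Scheme.Modules.pushforward f).obj M)) := by
  refine ModuleCat.isZero_iff_subsingleton.2 (subsingleton_of_forall_eq 0 fun α => ?_)
  obtain ⟨V, hV, s, rfl⟩ := exists_gm (toPres.obj ((Scheme.Modules.pushforward f).obj M)) α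
  let V' : Y.Opens := V ⊓ ⟨(Set.range f.base)ᶜ, hf.isOpen_compl⟩
  have h0 : ∀ t : (toPres.obj M).obj (op (f ⁻¹ᵁ V')), t = 0 := fun t =>
    TopCat.Presheaf.section_ext ⟨M.presheaf, M.isSheaf⟩ _ t 0 fun z hz => (hz.2 ⟨z, rfl⟩).elim
  refine (gm_res (toPres.obj ((Scheme.Modules.pushforward f).obj M)) (inf_le_left : V' ≤ V) (x := y) ⟨hV, hy⟩ s).symm.trans ?_
  exact (congrArg _ (h0 _)).trans (map_zero _)

lemma isIso_of_stalks {M N : Y.Modules} (φ : M ⟶ N)
    (h : ∀ y, IsIso ((DerSch.stalkFunctor Y y).map φ)) : IsIso φ := by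
  rw [QCohLib.isIso_iff_stalk_bijective]
  intro y
  suffices h' : Function.Bijective ((DerSch.stalkFunctor Y y).map φ) from h'
  have := h y
  exact ConcreteCategory.bijective_of_isIso _

variable [IsClosedImmersion f]

/-- Direct image along a closed immersion preserves colimits. -/
lemma preservesColimitsOfShape_push {J : Type} [SmallCategory J] :
    PreservesColimitsOfShape J (Scheme.Modules.pushforward f) := by
  haveI : HasColimitsOfSize.{u, u} X.Modules :=
    inferInstanceAs (HasColimitsOfSize.{u, u} (SheafOfModules.{u} X.ringCatSheaf))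
  haveI : HasColimitsOfSize.{u, u} Y.Modules :=
    inferInstanceAs (HasColimitsOfSize.{u, u} (SheafOfModules.{u} Y.ringCatSheaf))
  haveI : HasColimitsOfSize.{0, 0} X.Modules := hasColimitsOfSizeShrink.{0, 0, u, u} _
  haveI : HasColimitsOfSize.{0, 0} Y.Modules := hasColimitsOfSizeShrink.{0, 0, u, u} _
  haveI hst : ∀ (Z : Scheme.{u}) (z : Z), PreservesColimitsOfSize.{0, 0} (DerSch.stalkFunctor Z z) := fun Z z =>
    (stalkAdj z).leftAdjoint_preservesColimits
  haveI : ∀ y : Y, PreservesColimitsOfShape J (Scheme.Modules.pushforward f ⋙ DerSch.stalkFunctor Y y) := fun y => by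
    by_cases hy : y ∈ Set.range f.base
    · obtain ⟨x, rfl⟩ := hy
      exact preservesColimitsOfShape_of_natIso (pushStalkIso f f.isClosedEmbedding.isInducing x).symm
    · refine ⟨fun {K} => ⟨fun {c} _ => ⟨⟨fun s => 0, fun s j => ?_, fun s m _ => ?_⟩⟩⟩⟩
      · exact (isZero_stalk_push f f.isClosedEmbedding.isClosed_range hy _).eq_of_src _ _
      · exact (isZero_stalk_push f f.isClosedEmbedding.isClosed_range hy _).eq_of_src _ _
  exact preservesColimitsOfShape_of_jointly _ (fun y => DerSch.stalkFunctor Y y) fun φ h => isIso_of_stalks φ h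

lemma preservesHomology_push : (Scheme.Modules.pushforward f).PreservesHomology := by
  haveI : ∀ {J : Type} [SmallCategory J] [FinCategory J], PreservesColimitsOfShape J (Scheme.Modules.pushforward f) :=
    fun {J} _ _ => preservesColimitsOfShape_push f
  haveI : PreservesFiniteColimits (Scheme.Modules.pushforward f) := ⟨fun J _ _ => preservesColimitsOfShape_push f⟩
  haveI : PreservesLimitsOfSize.{0, 0} (Scheme.Modules.pushforward f) :=
    (Scheme.Modules.pullbackPushforwardAdjunction f).rightAdjoint_preservesLimits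
  haveI : PreservesFiniteLimits (Scheme.Modules.pushforward f) := PreservesLimitsOfSize.preservesFiniteLimits _
  infer_instance

end Groth.Agent.ModGroth.PushStalk
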