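import Groth.Agent.ModGroth.PullStalk
import Groth.Agent.ModGroth.FlatTrunc
import Groth.Agent.LocFree.Basic
import Groth.Agent.QCohLib.Pullback
import Groth.Prelude.Def_DCoh2
import Mathlib.RingTheory.Flat.FaithfullyFlat.Basic

/-!
# Finite locally free modules and strictly perfect complexes: flatness, inverse images
-/

universe u

open CategoryTheory CategoryTheory.Limits Opposite AlgebraicGeometry HomologicalComplex MonoidalCategory

attribute [local instance] HasDerivedCategory.standard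

namespace Groth.Agent.ModGroth.Perf

variable {X Y : Scheme.{u}}

/-- Restriction to opens commutes with inverse images. -/
noncomputable def restrPullIso (f : X ⟶ Y) {Z Z' : Scheme.{u}} (g : Z ⟶ Z') (j : Z ⟶ X) (j' : Z' ⟶ Y)
    [IsOpenImmersion j] [IsOpenImmersion j'] (h : g ≫ j' = j ≫ f) :
    Scheme.Modules.restrictFunctor j' ⋙ Scheme.Modules.pullback g ≅
      Scheme.Modules.pullback f ⋙ Scheme.Modules.restrictFunctor j :=
  Functor.isoWhiskerRight (Scheme.Modules.restrictFunctorIsoPullback j') _ ≪≫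
    Scheme.Modules.pullbackComp g j' ≪≫ Scheme.Modules.pullbackCongr h ≪≫
    (Scheme.Modules.pullbackComp j f).symm ≪≫
    Functor.isoWhiskerLeft _ (Scheme.Modules.restrictFunctorIsoPullback j).symm

/-- The inverse image of a free module is free. -/
noncomputable def pullFreeModIso (f : X ⟶ Y) (n : ℕ) :
    (Scheme.Modules.pullback f).obj (FlatMod.freeMod Y n) ≅ FlatMod.freeMod X n :=
  haveI := (Scheme.Modules.pullbackPushforwardAdjunction f).leftAdjoint_preservesColimits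
  PreservesCoproduct.iso (Scheme.Modules.pullback f) _ ≪≫ Sigma.mapIso fun _ => QCohLib.pullbackUnitIso f

lemma isFlat_unit : ModSite.IsFlat (O := X.sheaf) (SheafOfModules.unit X.ringCatSheaf) :=
  isFlat_of_iso (O := X.sheaf)
    (@asIso _ _ _ _ ((adjn X.sheaf).counit.app (SheafOfModules.unit X.ringCatSheaf))
      (@NatIso.isIso_app_of_isIso _ _ _ _ _ _ (adjn X.sheaf).counit
        (inferInstanceAs (IsIso (PresheafOfModules.sheafificationAdjunction
          (𝟙 (ModSite.ringSh X.sheaf).obj)).counit)) _))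
    (isFlat_sh _ fun U => inferInstanceAs (Module.Flat (X.presheaf.obj U) (X.presheaf.obj U)))

lemma isFlat_freeMod (n : ℕ) : FlatMod.IsFlat (FlatMod.freeMod X n) := by
  haveI : HasColimitsOfSize.{u, u} X.Modules :=
    inferInstanceAs (HasColimitsOfSize.{u, u} (SheafOfModules.{u} X.ringCatSheaf))
  have h := (isFlat_iff_flatMod (∐ fun _ : ULift.{u} (Fin n) => Coh.structureModule X)).1
    (isFlat_sigma (O := X.sheaf) (fun _ : ULift.{u} (Fin n) => Coh.structureModule X) fun _ => isFlat_unit)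
  exact (isFlat_iff_flatMod _).1 (isFlat_of_iso (O := X.sheaf)
    (Sigma.reindex Equiv.ulift (fun _ : Fin n => Coh.structureModule X)) ((isFlat_iff_flatMod _).2 h))

lemma isFlat_of_isFinLocFree {M : X.Modules} (h : FlatMod.IsFinLocFree M) : FlatMod.IsFlat M := fun x => by
  obtain ⟨U, n, hx, ⟨e⟩⟩ := h x
  have h1 : FlatMod.IsFlat ((Scheme.Modules.pullback U.ι).obj M) :=
    (isFlat_iff_flatMod _).1 (isFlat_of_iso (O := (U : Scheme.{u}).sheaf)
      (e.symm ≪≫ (Scheme.Modules.restrictFunctorIsoPullback U.ι).app M)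
      ((isFlat_iff_flatMod _).2 (isFlat_freeMod n)))
  let φ : (X.presheaf.stalk (U.ι.base ⟨x, hx⟩)) →+* (U : Scheme.{u}).presheaf.stalk ⟨x, hx⟩ :=
    (U.ι.stalkMap ⟨x, hx⟩).hom
  have hφ : φ.FaithfullyFlat :=
    RingHom.FaithfullyFlat.of_bijective (@ConcreteCategory.bijective_of_isIso _ _ _ _ _ _ _ _ (U.ι.stalkMap ⟨x, hx⟩) ((IsOpenImmersion.iff_isIso_stalkMap.1 (inferInstanceAs (IsOpenImmersion U.ι))).2 _))
  have h2 : Module.Flat ((U : Scheme.{u}).presheaf.stalk ⟨x, hx⟩)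
      ((ModuleCat.extendScalars.{u, u, u} φ).obj ((DerSch.stalkFunctor X (U.ι.base ⟨x, hx⟩)).obj M)) :=
    @Module.Flat.of_linearEquiv _ _ _ _ _ _ _ _ (show Module.Flat ((U : Scheme.{u}).presheaf.stalk ⟨x, hx⟩) ((DerSch.stalkFunctor (U : Scheme.{u}) ⟨x, hx⟩).obj ((Scheme.Modules.pullback U.ι).obj M)) from h1 ⟨x, hx⟩)
      (((Stalk.pullStalkIso U.ι ⟨x, hx⟩).app M).symm).toLinearEquiv
  algebraize [φ]
  exact @Module.Flat.of_flat_tensorProduct (X.presheaf.stalk (U.ι.base ⟨x, hx⟩))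
    ((DerSch.stalkFunctor X (U.ι.base ⟨x, hx⟩)).obj M) _ _ _ _ _ _ _ h2

lemma isFinLocFree_pullback (f : X ⟶ Y) {M : Y.Modules} (h : FlatMod.IsFinLocFree M) :
    FlatMod.IsFinLocFree ((Scheme.Modules.pullback f).obj M) := fun x => by
  obtain ⟨U, n, hx, ⟨e⟩⟩ := h (f.base x)
  exact ⟨f ⁻¹ᵁ U, n, hx, ⟨((restrPullIso f (f ∣_ U) _ _ (morphismRestrict_ι f U)).app M).symm ≪≫
    (Scheme.Modules.pullback (f ∣_ U)).mapIso e ≪≫ pullFreeModIso _ n⟩⟩

lemma isStrictlyPerfect_pullback (f : X ⟶ Y) {E : CochainComplex Y.Modules ℤ} (h : DCoh.IsStrictlyPerfect E) :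
    DCoh.IsStrictlyPerfect (((Scheme.Modules.pullback f).mapHomologicalComplex (ComplexShape.up ℤ)).obj E) := by
  obtain ⟨⟨a, b, hz⟩, hl⟩ := h
  exact ⟨⟨a, b, fun i hi => (Scheme.Modules.pullback f).map_isZero (hz i hi)⟩,
    fun i => isFinLocFree_pullback f (hl i)⟩

lemma isKFlat_of_isStrictlyPerfect {E : CochainComplex X.Modules ℤ} (h : DCoh.IsStrictlyPerfect E) :
    DCoh.IsKFlat E := by
  obtain ⟨⟨a, b, hz⟩, hl⟩ := h
  exact scheme_isKFlat_of_boundedAbove E b
    ((CochainComplex.isStrictlyLE_iff E b).2 fun n hn => hz n (Or.inr hn))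
    fun n => isFlat_of_isFinLocFree (hl n)

end Groth.Agent.ModGroth.Perf
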