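import Groth.Agent.ModGroth.LocBasisHom
import Groth.Agent.ModGroth.StalkBasis
import Groth.Agent.QCohLib.Basic
import Groth.Agent.ModGroth.Tensor
import Groth.Prelude.Def_KLin

/-!
# The internal hom out of a finite locally free module: exactness and linearity
-/

universe u

open CategoryTheory CategoryTheory.Limits Opposite AlgebraicGeometry TopologicalSpace MonoidalCategory
open scoped TensorProduct

namespace Groth.Agent.ModGroth.SheafHomExact

open LocBasis

variable {X : Scheme.{u}} (F : X.Modules) [ModSite.HasSheafHom (O := X.sheaf) F]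

lemma exists_common_lift {G G' : X.Modules} (g : G ⟶ G') [Epi g] {x : X} {m : ℕ} {V : X.Opens} (hx : x ∈ V)
    (v : Fin m → ((fg X.sheaf).obj G').obj (op V)) :
    ∃ (W : X.Opens) (h : W ≤ V) (w : Fin m → ((fg X.sheaf).obj G).obj (op W)), x ∈ W ∧
      ∀ i, g.val.app (op W) (w i) = res (O := X.sheaf) ((fg X.sheaf).obj G') (homOfLE h).op (v i) := by
  induction m with
  | zero => exact ⟨V, le_rfl, fun i => i.elim0, hx, fun i => i.elim0⟩
  | succ m ih =>
    obtain ⟨W, hWV, w, hxW, hw⟩ := ih fun i => v i.succ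
    obtain ⟨W₀, h₀, ⟨s, hs⟩, hx₀⟩ := (QCohLib.epi_iff_locally_surjective g).1 inferInstance V (v 0) x hx
    refine ⟨W ⊓ W₀, inf_le_left.trans hWV,
      Fin.cons (res (O := X.sheaf) ((fg X.sheaf).obj G) (homOfLE (inf_le_right : W ⊓ W₀ ≤ W₀)).op s)
        (fun i => res (O := X.sheaf) ((fg X.sheaf).obj G) (homOfLE (inf_le_left : W ⊓ W₀ ≤ W)).op (w i)),
      ⟨hxW, hx₀⟩, Fin.cases ?_ fun i => ?_⟩
    · rw [Fin.cons_zero]
      refine (res_app (O := X.sheaf) ((fg X.sheaf).map g) _ s).trans ?_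
      refine (congrArg (res (O := X.sheaf) ((fg X.sheaf).obj G') _) hs).trans ?_
      exact (res_comp (O := X.sheaf) ((fg X.sheaf).obj G') (homOfLE h₀).op (homOfLE inf_le_right).op (v 0)).symm
    · rw [Fin.cons_succ]
      refine (res_app (O := X.sheaf) ((fg X.sheaf).map g) _ (w i)).trans ?_
      refine (congrArg (res (O := X.sheaf) ((fg X.sheaf).obj G') _) (hw i)).trans ?_
      exact (res_comp (O := X.sheaf) ((fg X.sheaf).obj G') (homOfLE hWV).op (homOfLE inf_le_left).op (v i.succ)).symm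

variable {F}

/-- `Hom(F, -)` preserves epimorphisms for `F` finite locally free. -/
theorem epi_sheafHom_map (hF : FlatMod.IsFinLocFree F) {G G' : X.Modules} (g : G ⟶ G') [Epi g] :
    Epi (C := X.Modules) ((ModSite.sheafHom (O := X.sheaf) F).map g) := by
  refine (QCohLib.epi_iff_locally_surjective (X := X) ((ModSite.sheafHom (O := X.sheaf) F).map g)).2
    fun U t x hx => ?_
  obtain ⟨U₀, m, e, hx₀, he⟩ := exists_isBasis hF x
  let V := U ⊓ U₀
  obtain ⟨W, hWV, w, hxW, hw⟩ := exists_common_lift g (V := V) ⟨hx, hx₀⟩ fun i =>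
    evSec (O := X.sheaf) F G'
      (res (O := X.sheaf) ((fg X.sheaf).obj ((ModSite.sheafHom (O := X.sheaf) F).obj G')) (homOfLE (inf_le_left : V ≤ U)).op t)
      (res (O := X.sheaf) ((fg X.sheaf).obj F) (homOfLE (inf_le_right : V ≤ U₀)).op (e i))
  let eW : Fin m → ((fg X.sheaf).obj F).obj (op W) :=
    fun i => res (O := X.sheaf) ((fg X.sheaf).obj F) (homOfLE (hWV.trans inf_le_right)).op (e i)
  have heW : IsBasis (O := X.sheaf) F eW := fun Z k => by
    convert he Z (k ≫ homOfLE (hWV.trans inf_le_right)) using 5 with i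
    exact (res_comp (O := X.sheaf) ((fg X.sheaf).obj F) _ _ _).symm
  obtain ⟨s, hs⟩ := (bijective_evSec (O := X.sheaf) F G heW).2 w
  refine ⟨W, hWV.trans inf_le_left, ⟨s, ?_⟩, hxW⟩
  refine (bijective_evSec (O := X.sheaf) F G' heW).1 (funext fun i => ?_)
  refine (evSec_map (O := X.sheaf) F G g s (eW i)).trans ?_
  refine (congrArg (g.val.app (op W)) (congrFun hs i)).trans ((hw i).trans ?_)
  refine (evSec_res (O := X.sheaf) F G' (homOfLE hWV) _ _).trans ?_
  exact congrArg₂ (evSec (O := X.sheaf) F G')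
    (res_comp (O := X.sheaf) ((fg X.sheaf).obj ((ModSite.sheafHom (O := X.sheaf) F).obj G')) _ _ t).symm
    (res_comp (O := X.sheaf) ((fg X.sheaf).obj F) _ _ (e i)).symm

variable (F)

/-- Tensoring commutes with multiplication by global functions. -/
lemma tR_map_smulModΓ (M : X.Modules) (r : Coh.Γtop X) :
    (tR (O := X.sheaf) F).map (Formal.smulModΓ M r) = Formal.smulModΓ ((tR (O := X.sheaf) F).obj M) r := by
  apply ((adjn X.sheaf).homEquiv _ _).injective
  refine ((adjn X.sheaf).homEquiv_unit _ _ _).trans (Eq.trans ?_ ((adjn X.sheaf).homEquiv_unit _ _ _).symm)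
  change eta' (O := X.sheaf) ((fg X.sheaf).obj M ⊗ (fg X.sheaf).obj F) ≫
      (fg X.sheaf).map ((sh X.sheaf).map ((fg X.sheaf).map (Formal.smulModΓ M r) ▷ (fg X.sheaf).obj F)) = _
  refine (eta'_naturality (O := X.sheaf) _).symm.trans ?_
  refine PresheafOfModules.hom_ext fun U => ModuleCat.hom_ext ?_
  refine TensorProduct.ext' fun a b => ?_
  exact map_smul ((eta' (O := X.sheaf) ((fg X.sheaf).obj M ⊗ (fg X.sheaf).obj F)).app U).hom
    (show X.sheaf.obj.obj U from Coh.resTop X U r)
    (a ⊗ₜ[X.sheaf.obj.obj U] b)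

/-- The internal hom commutes with multiplication by global functions. -/
lemma sheafHom_map_smulModΓ (N : X.Modules) (r : Coh.Γtop X) :
    (ModSite.sheafHom (O := X.sheaf) F).map (Formal.smulModΓ N r) =
      Formal.smulModΓ ((ModSite.sheafHom (O := X.sheaf) F).obj N) r := by
  apply ((ModSite.sheafHomAdj (O := X.sheaf) F).homEquiv _ _).symm.injective
  refine ((ModSite.sheafHomAdj (O := X.sheaf) F).homEquiv_counit _ _ _).trans
    (Eq.trans ?_ ((ModSite.sheafHomAdj (O := X.sheaf) F).homEquiv_counit _ _ _).symm)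
  refine ((ModSite.sheafHomAdj (O := X.sheaf) F).counit.naturality (Formal.smulModΓ N r)).trans ?_
  refine Eq.trans ?_ (congrArg (fun z => z ≫ (ModSite.sheafHomAdj (O := X.sheaf) F).counit.app N)
    (tR_map_smulModΓ F ((ModSite.sheafHom (O := X.sheaf) F).obj N) r).symm)
  exact KLin.comp_smulModΓ (X := X) ((ModSite.sheafHomAdj (O := X.sheaf) F).counit.app N) r

end Groth.Agent.ModGroth.SheafHomExact
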