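import Groth.Agent.ModGroth.StalkFun
import Groth.Agent.ModGroth.TotMap
import Groth.Agent.ModGroth.LTensor
import Groth.Agent.KFlat.Ring
import Groth.Agent.QCohLib.StalkRestrict

/-!
# The stalk functor is exact, jointly conservative and monoidal; K-flatness on stalks
-/

universe u

open CategoryTheory CategoryTheory.Limits Opposite MonoidalCategory TopologicalSpace AlgebraicGeometry
  HomologicalComplex
open scoped TensorProduct

namespace Groth.Agent.ModGroth.Stalk

variable {X : Scheme.{u}} (x : X)

instance isLeftAdjoint_stalk : (DerSch.stalkFunctor X x).IsLeftAdjoint := (stalkAdj x).isLeftAdjoint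

lemma mono_stalk_map {M N : X.Modules} (φ : M ⟶ N) [Mono φ] :
    Mono ((DerSch.stalkFunctor X x).map φ) := by
  rw [ModuleCat.mono_iff_injective]
  have : Mono ((forgetPM X.sheaf).map φ) :=
    have : PreservesLimitsOfSize.{u, u} (forgetPM X.sheaf) := (adjn X.sheaf).rightAdjoint_preservesLimits
    @Functor.map_mono _ _ _ _ (forgetPM X.sheaf) _ _ _ φ ‹Mono φ›
  have h : ∀ U, Function.Injective (((forgetPM X.sheaf).map φ).app U) := fun U =>
    (ModuleCat.mono_iff_injective _).1
      (inferInstanceAs (Mono ((PresheafOfModules.evaluation _ U).map ((forgetPM X.sheaf).map φ))))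
  intro α β hab
  exact stMap_injective (toPres.map φ) h x
    (((stalkFunctor_map_eq x φ α).symm.trans hab).trans (stalkFunctor_map_eq x φ β))

instance preservesHomology_stalk : (DerSch.stalkFunctor X x).PreservesHomology := by
  have : PreservesColimitsOfSize.{u, u} (DerSch.stalkFunctor X x) := (stalkAdj x).leftAdjoint_preservesColimits
  have : PreservesFiniteColimits (DerSch.stalkFunctor X x) :=
    PreservesColimitsOfSize.preservesFiniteColimits _
  have : PreservesFiniteLimits (DerSch.stalkFunctor X x) :=
    preservesFiniteLimits_of_mono _ fun _ _ g _ => mono_stalk_map x g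
  have h := (DerSch.stalkFunctor X x).exact_tfae.out 3 2
  exact h.1 ⟨inferInstance, inferInstance⟩

lemma isZero_of_stalks {M : X.Modules} (h : ∀ x, IsZero ((DerSch.stalkFunctor X x).obj M)) : IsZero M :=
  QCohLib.isZero_of_subsingleton_stalk fun x => ModuleCat.subsingleton_of_isZero (h x)

lemma isZero_stalk {M : X.Modules} (h : IsZero M) : IsZero ((DerSch.stalkFunctor X x).obj M) :=
  Functor.map_isZero _ h

/-- Stalks of complexes. -/
noncomputable abbrev stc : CochainComplex X.Modules ℤ ⥤ DRing.Cx (X.presheaf.stalk x) :=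
  (DerSch.stalkFunctor X x).mapHomologicalComplex (ComplexShape.up ℤ)

lemma isZero_homology_stc (L : CochainComplex X.Modules ℤ) (i : ℤ) (h : IsZero (L.homology i)) :
    IsZero (((stc x).obj L).homology i) := by
  rw [← exactAt_iff_isZero_homology] at h ⊢
  exact ShortComplex.Exact.map h (DerSch.stalkFunctor X x)

/-- Acyclicity is detected on stalks. -/
lemma isZero_homology_of_stc (L : CochainComplex X.Modules ℤ) (i : ℤ)
    (h : ∀ x, IsZero (((stc x).obj L).homology i)) : IsZero (L.homology i) :=
  isZero_of_stalks fun x => (h x).of_iso ((L.sc i).mapHomologyIso (DerSch.stalkFunctor X x)).symm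

/-- `(M ⊗ N)_x ≅ M_x ⊗ N_x`. -/
noncomputable def tensorStalkIso (M N : X.Modules) :
    (DerSch.stalkFunctor X x).obj M ⊗ (DerSch.stalkFunctor X x).obj N ≅
      (DerSch.stalkFunctor X x).obj (((DCoh.tensorBi (X := X)).obj M).obj N) :=
  @asIso _ _ _ _ (tensorComparison x M N)
    ((ConcreteCategory.isIso_iff_bijective _).2 (bijective_tensorComparison x M N))

lemma tensorComparison_gm (M N : X.Modules) {U : X.Opens} (hx : x ∈ U)
    (m : (toPres.obj M).obj (op U)) (n : (toPres.obj N).obj (op U)) :
    tensorComparison x M N (gm (toPres.obj M) hx m ⊗ₜ[stR X.presheaf x] gm (toPres.obj N) hx n) =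
      gm (toPres.obj (((DCoh.tensorBi (X := X)).obj M).obj N)) hx
        ((eta (O := X.sheaf) (toPres.obj M ⊗ toPres.obj N)).app (op U) (tm' (toPres.obj M) (toPres.obj N) m n)) :=
  psiLin_gm (R := X.presheaf) _ hx m n

lemma tensorComparison_natL {M M' : X.Modules} (a : M ⟶ M') (N : X.Modules) :
    ((DerSch.stalkFunctor X x).map a ▷ (DerSch.stalkFunctor X x).obj N) ≫ tensorComparison x M' N =
      tensorComparison x M N ≫
        (DerSch.stalkFunctor X x).map (((DCoh.tensorBi (X := X)).map a).app N) := by
  refine ModuleCat.MonoidalCategory.tensor_ext fun α β => ?_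
  obtain ⟨U, hx, m, n, rfl, rfl⟩ := exists_pair (toPres.obj M) (toPres.obj N) α β
  change tensorComparison x M' N ((DerSch.stalkFunctor X x).map a (gm (toPres.obj M) hx m) ⊗ₜ[stR X.presheaf x]
      gm (toPres.obj N) hx n) =
    (DerSch.stalkFunctor X x).map (((DCoh.tensorBi (X := X)).map a).app N)
      (tensorComparison x M N (gm (toPres.obj M) hx m ⊗ₜ[stR X.presheaf x] gm (toPres.obj N) hx n))
  rw [stalkFunctor_map_eq, stMap_gm, tensorComparison_gm, tensorComparison_gm, stalkFunctor_map_eq]
  refine Eq.trans ?_ (stMap_gm (R := X.presheaf) _ hx _).symm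
  exact congrArg (gm _ hx) (congrArg (fun t => t.app (op U) (tm' (toPres.obj M) (toPres.obj N) m n))
    ((adjn X.sheaf).unit.naturality (toPres.map a ▷ toPres.obj N)))

lemma tensorComparison_natR (M : X.Modules) {N N' : X.Modules} (b : N ⟶ N') :
    ((DerSch.stalkFunctor X x).obj M ◁ (DerSch.stalkFunctor X x).map b) ≫ tensorComparison x M N' =
      tensorComparison x M N ≫
        (DerSch.stalkFunctor X x).map (((DCoh.tensorBi (X := X)).obj M).map b) := by
  refine ModuleCat.MonoidalCategory.tensor_ext fun α β => ?_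
  obtain ⟨U, hx, m, n, rfl, rfl⟩ := exists_pair (toPres.obj M) (toPres.obj N) α β
  change tensorComparison x M N' (gm (toPres.obj M) hx m ⊗ₜ[stR X.presheaf x]
      (DerSch.stalkFunctor X x).map b (gm (toPres.obj N) hx n)) =
    (DerSch.stalkFunctor X x).map (((DCoh.tensorBi (X := X)).obj M).map b)
      (tensorComparison x M N (gm (toPres.obj M) hx m ⊗ₜ[stR X.presheaf x] gm (toPres.obj N) hx n))
  rw [stalkFunctor_map_eq, stMap_gm, tensorComparison_gm, tensorComparison_gm, stalkFunctor_map_eq]
  refine Eq.trans ?_ (stMap_gm (R := X.presheaf) _ hx _).symm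
  exact congrArg (gm _ hx) (congrArg (fun t => t.app (op U) (tm' (toPres.obj M) (toPres.obj N) m n))
    ((adjn X.sheaf).unit.naturality (toPres.obj M ◁ toPres.map b)))

/-- The stalk functor is compatible with tensor products. -/
noncomputable def stalkCompat : BiCompat (DCoh.tensorBi (X := X))
    (curriedTensor (ModuleCat.{u} (X.presheaf.stalk x))) (DerSch.stalkFunctor X x) where
  iso := tensorStalkIso x
  natL := tensorComparison_natL x
  natR := tensorComparison_natR x

/-- Stalks of a tensor product of complexes. -/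
noncomputable def stalkTotIso (K L : CochainComplex X.Modules ℤ) :
    mapBifunctor ((stc x).obj K) ((stc x).obj L) (curriedTensor (ModuleCat.{u} (X.presheaf.stalk x)))
      (ComplexShape.up ℤ) ≅ (stc x).obj (((DCoh.tensorCx (X := X)).obj K).obj L) :=
  haveI : PreservesColimitsOfSize.{0, 0} (DerSch.stalkFunctor X x) :=
    (stalkAdj x).leftAdjoint_preservesColimits
  totCompareIso (stalkCompat x) K L

lemma isKFlat_of_stalks (F : CochainComplex X.Modules ℤ)
    (h : ∀ x, DRing.IsKFlat (X.presheaf.stalk x) ((stc x).obj F)) : DCoh.IsKFlat F := fun L hL i =>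
  isZero_homology_of_stc _ i fun x =>
    (h x ((stc x).obj L) (fun j => isZero_homology_stc x L j (hL j)) i).of_iso
      ((homologyFunctor _ (ComplexShape.up ℤ) i).mapIso (stalkTotIso x L F)).symm

instance preservesEpi_sky : (skyF x).PreservesEpimorphisms where
  preserves {N N'} f _ := by
    refine (Scheme.Modules.toPresheaf X).epi_of_epi_map ?_
    refine @NatTrans.epi_of_epi_app _ _ _ _ _ _ _ fun U => ?_
    rw [AddCommGrpCat.epi_iff_surjective]
    intro s
    exact ⟨fun h => Function.surjInv ((ModuleCat.epi_iff_surjective f).1 inferInstance) (s h),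
      funext fun h => Function.surjInv_eq ((ModuleCat.epi_iff_surjective f).1 inferInstance) (s h)⟩

/-- Skyscrapers are exact. -/
lemma exact_map_sky {S : ShortComplex (ModuleCat.{u} (X.presheaf.stalk x))} [(skyF x).PreservesZeroMorphisms]
    (hS : S.Exact) : (S.map (skyF x)).Exact := by
  have : (skyF x).IsRightAdjoint := (stalkAdj x).isRightAdjoint
  have : (skyF x).Additive := (stalkAdj x).right_adjoint_additive
  have : PreservesLimitsOfSize.{0, 0} (skyF x) := (stalkAdj x).rightAdjoint_preservesLimits
  have : PreservesFiniteLimits (skyF x) := PreservesLimitsOfSize.preservesFiniteLimits _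
  have h0 := (skyF x).preservesFiniteLimits_tfae.out 3 0
  have h1 := h0.1 inferInstance
  have h2 : ∀ T : ShortComplex (ModuleCat.{u} (X.presheaf.stalk x)), T.ShortExact → (T.map (skyF x)).ShortExact :=
    fun T hT =>
      { exact := (h1 T hT).1
        mono_f := (h1 T hT).2
        epi_g := haveI := hT.epi_g; inferInstanceAs (Epi ((skyF x).map T.g)) }
  have h3 := (skyF x).exact_tfae.out 0 1
  exact h3.1 h2 S hS

/-- The stalk at `x` of a skyscraper at `x`. -/
noncomputable def skyStalkIso : skyF x ⋙ DerSch.stalkFunctor X x ≅ 𝟭 _ :=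
  NatIso.ofComponents (fun N => (evEquiv (R := X.presheaf) x N).toModuleIso) fun f => (skyCounit x).naturality f

lemma stalks_of_isKFlat (F : CochainComplex X.Modules ℤ) (hF : DCoh.IsKFlat F) :
    DRing.IsKFlat (X.presheaf.stalk x) ((stc x).obj F) := fun M hM i => by
  have : (skyF x).Additive := (stalkAdj x).right_adjoint_additive
  let M' : CochainComplex X.Modules ℤ := ((skyF x).mapHomologicalComplex (ComplexShape.up ℤ)).obj M
  have hM' : ∀ j, IsZero (M'.homology j) := fun j => by
    rw [← exactAt_iff_isZero_homology]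
    exact exact_map_sky x ((exactAt_iff_isZero_homology M j).2 (hM j))
  let e : (stc x).obj M' ≅ M :=
    (NatIso.mapHomologicalComplex (skyStalkIso x) (ComplexShape.up ℤ)).app M ≪≫
      (Functor.mapHomologicalComplexIdIso _ _).app M
  exact (isZero_homology_stc x _ i (hF M' hM' i)).of_iso
    ((homologyFunctor _ (ComplexShape.up ℤ) i).mapIso
      (((curriedTensor (ModuleCat.{u} (X.presheaf.stalk x))).map₂CochainComplex.mapIso e.symm).app _ ≪≫
        stalkTotIso x M' F))

lemma isKFlat_iff_stalks (F : CochainComplex X.Modules ℤ) :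
    DCoh.IsKFlat F ↔ ∀ x, DRing.IsKFlat (X.presheaf.stalk x) ((stc x).obj F) :=
  ⟨fun h x => stalks_of_isKFlat x F h, isKFlat_of_stalks F⟩

end Groth.Agent.ModGroth.Stalk
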