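import Groth.Agent.ModGroth.StalkBasis
import Groth.Agent.ModGroth.FreeOn
import Groth.Agent.ModGroth.FinLocFree
import Mathlib.CategoryTheory.Abelian.RightDerived

/-!
# Finite locally free modules: projection formula, injectivity of `E ⊗ I`
-/

universe u

open CategoryTheory CategoryTheory.Limits Opposite TopologicalSpace AlgebraicGeometry MonoidalCategory
open scoped TensorProduct

namespace Groth.Agent.ModGroth.LocBasis

open Stalk

section Site

variable {C : Type u} [SmallCategory C] {J : GrothendieckTopology C} {O : Sheaf J CommRingCat.{u}}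
variable (E : ModSite.Mod O) {G G' : ModSite.Mod O} {U : C} {n : ℕ} (e : Fin n → ((fg O).obj E).obj (op U))

lemma phiMap_map (φ : G ⟶ G') (W : C) (h : W ⟶ U) (g : Fin n → ((fg O).obj G).obj (op W)) :
    ((sh O).map ((fg O).obj E ◁ (fg O).map φ)).val.app (op W) (phiMap E G e W h g) =
      phiMap E G' e W h (fun i => φ.val.app (op W) (g i)) := by
  refine (congrArg (fun t : ptens E G ⟶ (fg O).obj ((sh O).obj (ptens E G')) =>
    t.app (op W) (psiMap E G e W h g))
      (eta'_naturality ((fg O).obj E ◁ (fg O).map φ))).symm.trans ?_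
  refine congrArg ((eta' (ptens E G')).app (op W)) ?_
  refine Eq.trans ?_ (psiMap_apply E G' e W h _).symm
  exact (congrArg (((fg O).obj E ◁ (fg O).map φ).app (op W)) (psiMap_apply E G e W h g)).trans
    (map_sum (((fg O).obj E ◁ (fg O).map φ).app (op W)).hom _ _)

lemma phiMap_smul (W : C) (h : W ⟶ U) (r : O.obj.obj (op W)) (g : Fin n → ((fg O).obj G).obj (op W)) :
    phiMap E G e W h (r • g) = r • phiMap E G e W h g := by
  have h' : psiMap E G e W h (r • g) = r • psiMap E G e W h g := by
    rw [psiMap_apply, psiMap_apply, Finset.smul_sum]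
    exact Finset.sum_congr rfl fun i _ => TensorProduct.tmul_smul _ _ _
  exact (congrArg ((eta' (ptens E G)).app (op W)) h').trans (map_smul ((eta' (ptens E G)).app (op W)).hom r _)

lemma phiMap_res {V W : C} (k : V ⟶ W) (h : W ⟶ U) (c : Fin n → ((fg O).obj G).obj (op W)) :
    phiMap E G e V (k ≫ h) (fun i => res ((fg O).obj G) k.op (c i)) =
      res ((fg O).obj ((sh O).obj (ptens E G))) k.op (phiMap E G e W h c) := by
  rw [phiMap_apply, phiMap_apply, psiMap_res]
  exact res_app (eta' (ptens E G)) k.op _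

lemma prodSec_bijective {ι : Type u} (H : ι → ModSite.Mod O) [HasProduct H] (W : C) :
    Function.Bijective (fun (s : ((fg O).obj (∏ᶜ H)).obj (op W)) j => (Pi.π H j).val.app (op W) s) := by
  refine ⟨fun s t h => (FreeOn.homEquiv O W (∏ᶜ H)).symm.injective (Pi.hom_ext _ _ fun j =>
    (FreeOn.homEquiv O W (H j)).injective ?_), fun c => ⟨FreeOn.homEquiv O W (∏ᶜ H)
      (Pi.lift fun j => (FreeOn.homEquiv O W (H j)).symm (c j)), funext fun j => ?_⟩⟩
  · refine (FreeOn.homEquiv_comp O W _ _).trans (((congrArg _ (Equiv.apply_symm_apply _ _)).trans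
      ((congrFun h j).trans (congrArg _ (Equiv.apply_symm_apply _ _)).symm)).trans (FreeOn.homEquiv_comp O W _ _).symm)
  · exact (FreeOn.homEquiv_comp O W _ _).symm.trans
      ((congrArg _ (limit.lift_π _ _)).trans (Equiv.apply_symm_apply _ _))

variable {E e}

/-- `G^n ≅ E ⊗ G` on the sections over an object. -/
noncomputable def coordEquiv (hU : IsTerminal U) (he : IsBasis E e) (G : ModSite.Mod O) (W : Cᵒᵖ) :
    (Fin n → ((fg O).obj G).obj W) ≃ₗ[O.obj.obj W] ((fg O).obj ((sh O).obj (ptens E G))).obj W :=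
  LinearEquiv.ofBijective
    { toFun := phiMap E G e W.unop (hU.from _)
      map_add' := map_add _
      map_smul' := phiMap_smul E e W.unop (hU.from _) }
    (phiMap_bijective G he W.unop (hU.from _))

lemma coordEquiv_res (hU : IsTerminal U) (he : IsBasis E e) (G : ModSite.Mod O) {V W : Cᵒᵖ} (k : V ⟶ W)
    (c : Fin n → ((fg O).obj G).obj V) :
    coordEquiv hU he G W (fun i => res ((fg O).obj G) k (c i)) =
      res ((fg O).obj ((sh O).obj (ptens E G))) k (coordEquiv hU he G V c) := by
  have h := phiMap_res E e (G := G) k.unop (hU.from V.unop) c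
  rw [hU.hom_ext (k.unop ≫ hU.from V.unop) (hU.from W.unop)] at h
  exact h

lemma coordEquiv_symm_res (hU : IsTerminal U) (he : IsBasis E e) (G : ModSite.Mod O) {V W : Cᵒᵖ} (k : V ⟶ W)
    (t : ((fg O).obj ((sh O).obj (ptens E G))).obj V) :
    (coordEquiv hU he G W).symm (res ((fg O).obj ((sh O).obj (ptens E G))) k t) =
      fun i => res ((fg O).obj G) k ((coordEquiv hU he G V).symm t i) :=
  (coordEquiv hU he G W).injective (((coordEquiv hU he G W).apply_symm_apply _).trans
    ((congrArg (res _ k) ((coordEquiv hU he G V).apply_symm_apply t).symm).trans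
      (coordEquiv_res hU he G k _).symm))

/-- The `i`-th coordinate. -/
noncomputable def coordPre (hU : IsTerminal U) (he : IsBasis E e) (G : ModSite.Mod O) (i : Fin n) :
    (fg O).obj ((sh O).obj (ptens E G)) ⟶ (fg O).obj G where
  app W := ModuleCat.ofHom (R := O.obj.obj W)
    (X := ((fg O).obj ((sh O).obj (ptens E G))).obj W) (Y := ((fg O).obj G).obj W)
    { toFun := fun t => (coordEquiv hU he G W).symm t i
      map_add' := fun a b => congrFun (map_add (coordEquiv hU he G W).symm a b) i
      map_smul' := fun r a => congrFun (map_smul (coordEquiv hU he G W).symm r a) i }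
  naturality {V W} k := ModuleCat.hom_ext (LinearMap.ext fun t =>
    congrFun (coordEquiv_symm_res hU he G k t) i)

lemma single_res (G : ModSite.Mod O) {V W : Cᵒᵖ} (k : V ⟶ W) (i : Fin n) (a : ((fg O).obj G).obj V) :
    (fun j => res ((fg O).obj G) k ((Pi.single i a : Fin n → ((fg O).obj G).obj V) j)) =
      Pi.single i (res ((fg O).obj G) k a) :=
  funext fun j => Pi.apply_single (fun _ => res ((fg O).obj G) k) (fun _ => map_zero _) i a j

/-- The `i`-th inclusion at an object. -/
noncomputable def inclApp (hU : IsTerminal U) (he : IsBasis E e) (G : ModSite.Mod O) (i : Fin n) (W : Cᵒᵖ) :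
    ((fg O).obj G).obj W →ₗ[O.obj.obj W] ((fg O).obj ((sh O).obj (ptens E G))).obj W :=
  (coordEquiv hU he G W).toLinearMap.comp
    (LinearMap.single (O.obj.obj W) (fun _ : Fin n => ((fg O).obj G).obj W) i)

lemma inclApp_res (hU : IsTerminal U) (he : IsBasis E e) (G : ModSite.Mod O) (i : Fin n) {V W : Cᵒᵖ}
    (k : V ⟶ W) (a : ((fg O).obj G).obj V) :
    inclApp hU he G i W (res ((fg O).obj G) k a) =
      res ((fg O).obj ((sh O).obj (ptens E G))) k (inclApp hU he G i V a) :=
  (congrArg (coordEquiv hU he G W) (single_res G k i a).symm).trans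
    (coordEquiv_res hU he G k (Pi.single i a))

/-- The `i`-th inclusion. -/
noncomputable def inclPre (hU : IsTerminal U) (he : IsBasis E e) (G : ModSite.Mod O) (i : Fin n) :
    (fg O).obj G ⟶ (fg O).obj ((sh O).obj (ptens E G)) where
  app W := ModuleCat.ofHom (R := O.obj.obj W)
    (X := ((fg O).obj G).obj W) (Y := ((fg O).obj ((sh O).obj (ptens E G))).obj W) (inclApp hU he G i W)
  naturality {V W} k := ModuleCat.hom_ext (LinearMap.ext fun a => inclApp_res hU he G i k a)

lemma sum_coord_incl (hU : IsTerminal U) (he : IsBasis E e) (G : ModSite.Mod O) (W : Cᵒᵖ)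
    (t : ((fg O).obj ((sh O).obj (ptens E G))).obj W) :
    ∑ i, coordEquiv hU he G W (Pi.single i ((coordEquiv hU he G W).symm t i)) = t := by
  rw [← map_sum, Finset.univ_sum_single, LinearEquiv.apply_symm_apply]

lemma sum_app {A B : ModSite.Mod O} {ι : Type} (s : Finset ι) (f : ι → (A ⟶ B)) (W : Cᵒᵖ)
    (t : ((fg O).obj A).obj W) : (∑ i ∈ s, f i).val.app W t = ∑ i ∈ s, (f i).val.app W t := by
  induction s using Finset.cons_induction with
  | empty => rfl
  | cons a s ha ih =>
    rw [Finset.sum_cons, Finset.sum_cons]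
    exact congrArg (_ + ·) ih

/-- With a global basis, `E ⊗ J` is a direct summand of `J^n`. -/
lemma injective_of_basis (hU : IsTerminal U) (he : IsBasis E e) (G : ModSite.Mod O) [Injective G] :
    Injective ((sh O).obj (ptens E G)) := by
  let π : Fin n → ((sh O).obj (ptens E G) ⟶ G) := fun i => ⟨coordPre hU he G i⟩
  let inj : Fin n → (G ⟶ (sh O).obj (ptens E G)) := fun i => ⟨inclPre hU he G i⟩
  have hsum : ∑ i, π i ≫ inj i = 𝟙 _ :=
    SheafOfModules.Hom.ext (PresheafOfModules.hom_ext fun W => ModuleCat.hom_ext (LinearMap.ext fun t =>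
      (sum_app Finset.univ (fun i => π i ≫ inj i) W t).trans (sum_coord_incl hU he G W t)))
  refine ⟨fun {A B} φ m _ => ⟨∑ i, Injective.factorThru (φ ≫ π i) m ≫ inj i, ?_⟩⟩
  rw [Preadditive.comp_sum]
  simp only [Injective.comp_factorThru_assoc, Category.assoc]
  rw [← Preadditive.comp_sum, hsum, Category.comp_id]

end Site

variable {X Y : Scheme.{u}}

lemma isIso_of_small {M N : X.Modules} (φ : M ⟶ N)
    (h : ∀ x : X, ∃ U : X.Opens, x ∈ U ∧ ∀ W ≤ U, Function.Bijective ((toPres.map φ).app (op W))) :
    IsIso φ := by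
  rw [QCohLib.isIso_iff_stalk_bijective]
  intro x
  suffices h' : Function.Bijective ((DerSch.stalkFunctor X x).map φ) from h'
  obtain ⟨U, hxU, hU⟩ := h x
  refine ⟨(injective_iff_map_eq_zero _).2 fun α hα => ?_, fun β => ?_⟩
  · obtain ⟨V, hxV, m, rfl⟩ := exists_gm (toPres.obj M) α
    have hα' : gm (toPres.obj N) hxV ((toPres.map φ).app (op V) m) = gm (toPres.obj N) hxV 0 :=
      ((stMap_gm (toPres.map φ) hxV m).symm.trans ((stalkFunctor_map_eq x φ _).symm.trans hα)).trans
        (map_zero _).symm
    obtain ⟨W, hxW, h₁, h₂, e⟩ := gm_eq (toPres.obj N) hxV hxV hα'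
    rw [map_zero] at e
    have e' : rs (toPres.obj M) (homOfLE (inf_le_left : W ⊓ U ≤ W)).op (rs (toPres.obj M) (homOfLE h₁).op m) = 0 := by
      refine (hU (W ⊓ U) inf_le_right).1 (Eq.trans ?_ (map_zero ((toPres.map φ).app (op (W ⊓ U))).hom).symm)
      rw [rs_app, rs_app, e, map_zero]
    rw [← gm_res (toPres.obj M) h₁ hxW, ← gm_res (toPres.obj M) inf_le_left (x := x) ⟨hxW, hxU⟩, e', map_zero]
    rfl
  · obtain ⟨V, hxV, m, rfl⟩ := exists_gm (toPres.obj N) β
    obtain ⟨a, ha⟩ := (hU (V ⊓ U) inf_le_right).2 (rs (toPres.obj N) (homOfLE inf_le_left).op m)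
    refine ⟨gm (toPres.obj M) (U := V ⊓ U) ⟨hxV, hxU⟩ a, ?_⟩
    exact (stalkFunctor_map_eq x φ _).trans ((stMap_gm (toPres.map φ) _ a).trans
      ((congrArg _ ha).trans (gm_res (toPres.obj N) _ _ m)))

section Alpha

variable (f : X ⟶ Y) (E : Y.Modules)

/-- `e ⊗ g ↦ f^* e ⊗ g`. -/
noncomputable def alphaSec (F : X.Modules) {U : Y.Opens} (m : (toPres.obj E).obj (op U))
    (n : (toPres.obj ((Scheme.Modules.pushforward f).obj F)).obj (op U)) :
    (toPres.obj (((DCoh.tensorBi (X := X)).obj ((Scheme.Modules.pullback f).obj E)).obj F)).obj (op (f ⁻¹ᵁ U)) :=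
  (eta (O := X.sheaf) (toPres.obj ((Scheme.Modules.pullback f).obj E) ⊗ toPres.obj F)).app (op (f ⁻¹ᵁ U))
    (tm' (toPres.obj ((Scheme.Modules.pullback f).obj E)) (toPres.obj F) (U := f ⁻¹ᵁ U) (pSec f E m) n)

lemma alphaSec_add_left (F : X.Modules) {U : Y.Opens} (m m' : (toPres.obj E).obj (op U))
    (n : (toPres.obj ((Scheme.Modules.pushforward f).obj F)).obj (op U)) :
    alphaSec f E F (m + m') n = alphaSec f E F m n + alphaSec f E F m' n :=
  (congrArg _ ((congrArg (fun t => tm' _ (toPres.obj F) (U := f ⁻¹ᵁ U) t n) (pSec_add f E m m')).trans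
    (tm'_add_left _ _ _ _ _))).trans (map_add _ _ _)

lemma alphaSec_add_right (F : X.Modules) {U : Y.Opens} (m : (toPres.obj E).obj (op U))
    (n n' : (toPres.obj ((Scheme.Modules.pushforward f).obj F)).obj (op U)) :
    alphaSec f E F m (n + n') = alphaSec f E F m n + alphaSec f E F m n' :=
  (congrArg _ (tm'_add_right (toPres.obj ((Scheme.Modules.pullback f).obj E)) (toPres.obj F)
    (U := f ⁻¹ᵁ U) (pSec f E m) n n')).trans (map_add _ _ _)

lemma alphaSec_smul_left (F : X.Modules) {U : Y.Opens} (r : Y.presheaf.obj (op U))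
    (m : (toPres.obj E).obj (op U)) (n : (toPres.obj ((Scheme.Modules.pushforward f).obj F)).obj (op U)) :
    alphaSec f E F (r • m) n = (f.app U).hom r • alphaSec f E F m n :=
  (congrArg _ (congrArg (fun t => tm' _ (toPres.obj F) (U := f ⁻¹ᵁ U) t n) (pSec_smul f E r m))).trans
    (map_tm'_smul _ _ _ _)

lemma alphaSec_smul_right (F : X.Modules) {U : Y.Opens} (r : Y.presheaf.obj (op U))
    (m : (toPres.obj E).obj (op U)) (n : (toPres.obj ((Scheme.Modules.pushforward f).obj F)).obj (op U)) :
    alphaSec f E F m (r • n) = (f.app U).hom r • alphaSec f E F m n :=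
  (congrArg _ (tm'_smul (toPres.obj ((Scheme.Modules.pullback f).obj E)) (toPres.obj F)
    (U := f ⁻¹ᵁ U) ((f.app U).hom r) (pSec f E m) n).symm).trans (map_tm'_smul _ _ _ _)

/-- The presheaf level map. -/
noncomputable def alphaPre (F : X.Modules) :
    (toPres.obj E ⊗ toPres.obj ((Scheme.Modules.pushforward f).obj F) : Pres Y.presheaf) ⟶
      toPres.obj ((Scheme.Modules.pushforward f).obj
        (((DCoh.tensorBi (X := X)).obj ((Scheme.Modules.pullback f).obj E)).obj F)) where
  app U := ModuleCat.MonoidalCategory.tensorLift (fun m n => alphaSec f E F (U := U.unop) m n)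
    (fun m m' n => alphaSec_add_left f E F m m' n)
    (fun r m n => alphaSec_smul_left f E F r m n)
    (fun m n n' => alphaSec_add_right f E F m n n')
    (fun r m n => alphaSec_smul_right f E F r m n)
  naturality {U V} g := ModuleCat.MonoidalCategory.tensor_ext fun m n => by
    change alphaSec f E F (rs (toPres.obj E) g.unop.op m)
      (rs (toPres.obj F) ((Opens.map f.base).map g.unop).op n) = _
    refine (congrArg (fun t => (eta (O := X.sheaf) (toPres.obj ((Scheme.Modules.pullback f).obj E) ⊗ toPres.obj F)).app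
      (op (f ⁻¹ᵁ V.unop)) (tm' _ (toPres.obj F) (U := f ⁻¹ᵁ V.unop) t _)) (pSec_res f E g.unop m)).trans ?_
    exact rs_app (eta (O := X.sheaf) (toPres.obj ((Scheme.Modules.pullback f).obj E) ⊗ toPres.obj F))
      ((Opens.map f.base).map g.unop).op (tm' _ (toPres.obj F) (pSec f E (U := U.unop) m) n)

/-- `E ⊗ f_* F ⟶ f_*(f^* E ⊗ F)`. -/
noncomputable def alphaApp (F : X.Modules) :
    ((DCoh.tensorBi (X := Y)).obj E).obj ((Scheme.Modules.pushforward f).obj F) ⟶
      (Scheme.Modules.pushforward f).obj
        (((DCoh.tensorBi (X := X)).obj ((Scheme.Modules.pullback f).obj E)).obj F) :=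
  ((adjn Y.sheaf).homEquiv _ _).symm (alphaPre f E F)

lemma eta_alphaApp (F : X.Modules) :
    eta (O := Y.sheaf) (toPres.obj E ⊗ toPres.obj ((Scheme.Modules.pushforward f).obj F)) ≫
      toPres.map (alphaApp f E F) = alphaPre f E F :=
  ((adjn Y.sheaf).homEquiv_unit (f := alphaApp f E F)).symm.trans (Equiv.apply_symm_apply _ _)

/-- The projection morphism, naturally in `F`. -/
noncomputable def alpha :
    Scheme.Modules.pushforward f ⋙ (DCoh.tensorBi (X := Y)).obj E ⟶
      (DCoh.tensorBi (X := X)).obj ((Scheme.Modules.pullback f).obj E) ⋙ Scheme.Modules.pushforward f where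
  app F := alphaApp f E F
  naturality F F' φ := ((adjn Y.sheaf).homEquiv _ _).injective (by
    refine ((adjn Y.sheaf).homEquiv_naturality_left _ _).trans ?_
    refine Eq.trans ?_ ((adjn Y.sheaf).homEquiv_naturality_right _ _).symm
    change _ ≫ ((adjn Y.sheaf).homEquiv _ _) (alphaApp f E F') = ((adjn Y.sheaf).homEquiv _ _) (alphaApp f E F) ≫ _
    refine (congrArg (_ ≫ ·) (((adjn Y.sheaf).homEquiv _ _).apply_symm_apply (alphaPre f E F'))).trans
      (Eq.trans ?_ (congrArg (· ≫ _) (((adjn Y.sheaf).homEquiv _ _).apply_symm_apply (alphaPre f E F))).symm)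
    refine PresheafOfModules.hom_ext fun U => ModuleCat.MonoidalCategory.tensor_ext fun m n => ?_
    exact congrArg (fun t : (toPres.obj ((Scheme.Modules.pullback f).obj E) ⊗ toPres.obj F : Pres X.presheaf) ⟶
        toPres.obj (((DCoh.tensorBi (X := X)).obj ((Scheme.Modules.pullback f).obj E)).obj F') =>
      t.app (op (f ⁻¹ᵁ U.unop)) (tm' _ (toPres.obj F) (U := f ⁻¹ᵁ U.unop) (pSec f E m) n))
        (eta'_naturality (O := X.sheaf) (toPres.obj ((Scheme.Modules.pullback f).obj E) ◁ toPres.map φ)))

variable {E} {U : Y.Opens} {n : ℕ} (e : Fin n → (toPres.obj E).obj (op U))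

lemma alphaApp_phiMap (F : X.Modules) (W : Y.Opens) (h : W ≤ U)
    (g : Fin n → (toPres.obj ((Scheme.Modules.pushforward f).obj F)).obj (op W)) :
    (toPres.map (alphaApp f E F)).app (op W)
        (phiMap (O := Y.sheaf) E ((Scheme.Modules.pushforward f).obj F) e W (homOfLE h) g) =
      phiMap (O := X.sheaf) (U := f ⁻¹ᵁ U) ((Scheme.Modules.pullback f).obj E) F (fun i => pSec f E (e i)) (f ⁻¹ᵁ W)
        ((Opens.map f.base).map (homOfLE h)) g := by
  refine (congrArg (fun z => (toPres.map (alphaApp f E F)).app (op W) z) (congrArg _ (psiMap_apply (O := Y.sheaf) E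
    ((Scheme.Modules.pushforward f).obj F) e W (homOfLE h) g))).trans ?_
  refine Eq.trans ?_ (congrArg _ (psiMap_apply (O := X.sheaf) (U := f ⁻¹ᵁ U) ((Scheme.Modules.pullback f).obj E) F
    (fun i => pSec f E (e i)) (f ⁻¹ᵁ W) ((Opens.map f.base).map (homOfLE h)) g)).symm
  refine (congrArg (fun t : (toPres.obj E ⊗ toPres.obj ((Scheme.Modules.pushforward f).obj F) : Pres Y.presheaf) ⟶
      toPres.obj ((Scheme.Modules.pushforward f).obj
        (((DCoh.tensorBi (X := X)).obj ((Scheme.Modules.pullback f).obj E)).obj F)) => t.app (op W) _)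
    (eta_alphaApp f E F)).trans ?_
  refine (map_sum ((alphaPre f E F).app (op W)).hom _ _).trans ?_
  refine Eq.trans ?_ (map_sum ((eta' (O := X.sheaf) _).app (op (f ⁻¹ᵁ W))).hom _ _).symm
  refine Finset.sum_congr rfl fun i _ => ?_
  exact congrArg (fun t => (eta (O := X.sheaf) (toPres.obj ((Scheme.Modules.pullback f).obj E) ⊗ toPres.obj F)).app
    (op (f ⁻¹ᵁ W)) (tm' _ (toPres.obj F) t (g i))) (pSec_res f E (homOfLE h) (e i))

theorem isIso_alpha (hE : FlatMod.IsFinLocFree E) : IsIso (alpha f E) := by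
  have : ∀ F, IsIso ((alpha f E).app F) := fun F => by
    refine isIso_of_small (X := Y) (alphaApp f E F) fun x => ?_
    obtain ⟨U, n, e, hx, he⟩ := exists_isBasis hE x
    refine ⟨U, hx, fun W hW => ?_⟩
    have hY := phiMap_bijective (O := Y.sheaf) ((Scheme.Modules.pushforward f).obj F) he W (homOfLE hW)
    have hX := phiMap_bijective (O := X.sheaf) F (isBasis_pSec f he) (f ⁻¹ᵁ W) ((Opens.map f.base).map (homOfLE hW))
    refine (Function.Bijective.of_comp_iff _ hY).1 ?_
    rw [show (_ ∘ _) = _ from funext (alphaApp_phiMap f e F W hW)]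
    exact hX
  exact NatIso.isIso_of_isIso_app _

end Alpha

section Products

variable (E : X.Modules)

lemma isIso_piComparison (hE : FlatMod.IsFinLocFree E) {ι : Type u} (H : ι → X.Modules) [HasProduct H]
    [HasProduct fun j => ((DCoh.tensorBi (X := X)).obj E).obj (H j)] :
    IsIso (piComparison ((DCoh.tensorBi (X := X)).obj E) H) := by
  refine isIso_of_small _ fun x => ?_
  obtain ⟨U, n, e, hx, he⟩ := exists_isBasis hE x
  refine ⟨U, hx, fun W hW => ?_⟩
  let κ := piComparison ((DCoh.tensorBi (X := X)).obj E) H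
  have hP := prodSec_bijective (O := X.sheaf) (fun j => ((DCoh.tensorBi (X := X)).obj E).obj (H j)) W
  have hQ := prodSec_bijective (O := X.sheaf) H W
  have key : ∀ g j, (toPres.map (Pi.π _ j)).app (op W) ((toPres.map κ).app (op W)
      (phiMap (O := X.sheaf) E (∏ᶜ H) e W (homOfLE hW) g)) =
      phiMap (O := X.sheaf) E (H j) e W (homOfLE hW) (fun i => (toPres.map (Pi.π H j)).app (op W) (g i)) :=
    fun g j => (congrArg (fun t => (toPres.map t).app (op W) (phiMap (O := X.sheaf) E (∏ᶜ H) e W (homOfLE hW) g))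
      (piComparison_comp_π ((DCoh.tensorBi (X := X)).obj E) H j)).trans
        (phiMap_map (O := X.sheaf) E e (Pi.π H j) W (homOfLE hW) g)
  refine (Function.Bijective.of_comp_iff _ (phiMap_bijective (O := X.sheaf) (∏ᶜ H) he W (homOfLE hW))).1
    ⟨fun g g' h => funext fun i => hQ.1 (funext fun j => ?_), fun t => ?_⟩
  · have h' := congrArg ((toPres.map (Pi.π (fun j => ((DCoh.tensorBi (X := X)).obj E).obj (H j)) j)).app (op W)) h
    exact congrFun ((phiMap_bijective (O := X.sheaf) (H j) he W (homOfLE hW)).1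
      ((key g j).symm.trans (h'.trans (key g' j)))) i
  · choose c hc using fun j => (phiMap_bijective (O := X.sheaf) (H j) he W (homOfLE hW)).2
      ((toPres.map (Pi.π (fun j => ((DCoh.tensorBi (X := X)).obj E).obj (H j)) j)).app (op W) t)
    choose g hg using fun i => hQ.2 (fun j => c j i)
    refine ⟨g, hP.1 (funext fun j => (key g j).trans (Eq.trans ?_ (hc j)))⟩
    exact congrArg _ (funext fun i => congrFun (hg i) j)

end Products

section Injective

variable (E : X.Modules)

lemma preservesMonomorphisms_pullback_ι (U : X.Opens) :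
    (Scheme.Modules.pullback U.ι).PreservesMonomorphisms where
  preserves {M N} g _ :=
    have : Mono ((Scheme.Modules.restrictFunctor U.ι).map g) := by
      rw [QCohLib.mono_iff_app_injective]
      intro V
      exact (QCohLib.mono_iff_app_injective g).1 inferInstance _
    mono_map_of_iso (Scheme.Modules.restrictFunctorIsoPullback U.ι) g

lemma mono_toProd (U : X → X.Opens) (hx : ∀ x, x ∈ U x) (I : X.Modules)
    (Jx : ∀ x, (U x : Scheme.{u}).Modules) (u : ∀ x, (Scheme.Modules.pullback (U x).ι).obj I ⟶ Jx x)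
    (hu : ∀ x, Mono (u x)) [HasProduct fun x => (Scheme.Modules.pushforward (U x).ι).obj (Jx x)] :
    Mono (Pi.lift fun x => (Scheme.Modules.pullbackPushforwardAdjunction (U x).ι).homEquiv I (Jx x) (u x)) := by
  rw [QCohLib.mono_iff_app_injective]
  intro W
  refine (injective_iff_map_eq_zero _).2 fun s hs => ?_
  refine TopCat.Presheaf.section_ext ⟨I.presheaf, I.isSheaf⟩ W s 0 fun y hy => ?_
  let f := (U y).ι
  let v := (Scheme.Modules.pullbackPushforwardAdjunction f).homEquiv I (Jx y) (u y)
  have h0 : (toPres.map v).app (op W) s = 0 :=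
    (congrArg (fun t => (toPres.map t).app (op W) s)
      (Pi.lift_π (fun x => (Scheme.Modules.pullbackPushforwardAdjunction (U x).ι).homEquiv I (Jx x) (u x)) y)).symm.trans
      ((congrArg ((toPres.map (Pi.π (fun x => (Scheme.Modules.pushforward (U x).ι).obj (Jx x)) y)).app (op W)) hs).trans
        (map_zero _))
  have hv : v = (Scheme.Modules.pullbackPushforwardAdjunction f).unit.app I ≫ (Scheme.Modules.pushforward f).map (u y) :=
    Adjunction.homEquiv_unit _ _ _ _
  have h0' : (toPres.map (u y)).app (op (f ⁻¹ᵁ W)) (pSec f I s) = 0 :=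
    (congrArg (fun t => (toPres.map t).app (op W) s) hv).symm.trans h0
  have hinj : Function.Injective ((toPres.map (u y)).app (op (f ⁻¹ᵁ W))) :=
    (QCohLib.mono_iff_app_injective _).1 (hu y) (f ⁻¹ᵁ W)
  have h1 : pSec f I s = 0 := hinj (h0'.trans (map_zero _).symm)
  let y' : (U y : Scheme.{u}) := ⟨y, hx y⟩
  have h2 := pullStalkIso_germ f y' I (U := W) hy s
  have h3 : oneT f y' ((DerSch.stalkFunctor X (f.base y')).obj I) (gm (toPres.obj I) hy s) = 0 :=
    h2.symm.trans ((congrArg (fun z => (pullStalkIso f y').hom.app I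
      (gm (toPres.obj ((Scheme.Modules.pullback f).obj I)) (U := f ⁻¹ᵁ W) hy z)) h1).trans
        ((congrArg _ (map_zero (gm (toPres.obj ((Scheme.Modules.pullback f).obj I)) (U := f ⁻¹ᵁ W) (x := y') hy))).trans
          (map_zero _)))
  have hφ : (f.stalkMap y').hom.FaithfullyFlat :=
    RingHom.FaithfullyFlat.of_bijective (@ConcreteCategory.bijective_of_isIso _ _ _ _ _ _ _ _ (f.stalkMap y')
      ((IsOpenImmersion.iff_isIso_stalkMap.1 (inferInstanceAs (IsOpenImmersion (U y).ι))).2 _))
  let φ := (f.stalkMap y').hom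
  letI : Algebra (X.presheaf.stalk (f.base y')) ((U y : Scheme.{u}).presheaf.stalk y') := φ.toAlgebra
  haveI : Module.FaithfullyFlat (X.presheaf.stalk (f.base y')) ((U y : Scheme.{u}).presheaf.stalk y') := hφ
  have h4 : gm (toPres.obj I) hy s = 0 :=
    Module.FaithfullyFlat.tensorProduct_mk_injective (A := X.presheaf.stalk (f.base y'))
      (B := (U y : Scheme.{u}).presheaf.stalk y') ((DerSch.stalkFunctor X (f.base y')).obj I)
      (h3.trans (TensorProduct.tmul_zero _ _).symm)
  exact h4.trans (map_zero (gm (toPres.obj I) hy)).symm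

/-- `E ⊗ -` preserves injectives. -/
theorem injective_tensor (hE : FlatMod.IsFinLocFree E) (I : X.Modules) [Injective I] :
    Injective (((DCoh.tensorBi (X := X)).obj E).obj I) := by
  choose U n e hx he using exists_isBasis hE
  haveI : ∀ Z : Scheme.{u}, EnoughInjectives Z.Modules := fun Z => sheaf_enoughInjectives Z.ringCatSheaf
  let Jx := fun x => Injective.under ((Scheme.Modules.pullback (U x).ι).obj I)
  haveI hJx : ∀ x, Injective (Jx x) := fun x => Injective.injective_under _
  let H : X → X.Modules := fun x => (Scheme.Modules.pushforward (U x).ι).obj (Jx x)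
  have hH : ∀ x, Injective (H x) := fun x =>
    have := preservesMonomorphisms_pullback_ι (U x)
    (Scheme.Modules.pullbackPushforwardAdjunction (U x).ι).map_injective _ (Injective.injective_under _)
  let T := (DCoh.tensorBi (X := X)).obj E
  have hT : ∀ x, Injective (T.obj (H x)) := fun x => by
    have := isIso_alpha (U x).ι hE
    refine Injective.of_iso (asIso ((alpha (U x).ι E).app (Jx x))).symm ?_
    have hJ : Injective (((DCoh.tensorBi (X := (U x : Scheme.{u}))).obj
        ((Scheme.Modules.pullback (U x).ι).obj E)).obj (Jx x)) :=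
      haveI : Injective (C := ModSite.Mod (U x : Scheme.{u}).sheaf) (Jx x) := hJx x
      injective_of_basis (O := (U x : Scheme.{u}).sheaf) (U := (U x).ι ⁻¹ᵁ (U x)) (E := (Scheme.Modules.pullback (U x).ι).obj E)
        (IsTerminal.ofUniqueHom (fun W => homOfLE fun z _ => (show ↥(U x) from z).2) fun _ _ => Subsingleton.elim _ _)
        (isBasis_pSec (U x).ι (he x)) _
    have := preservesMonomorphisms_pullback_ι (U x)
    exact (Scheme.Modules.pullbackPushforwardAdjunction (U x).ι).map_injective _ hJ
  have := isIso_piComparison E hE H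
  have hP : Injective (T.obj (∏ᶜ H)) :=
    Injective.of_iso (asIso (piComparison T H)).symm inferInstance
  let d : I ⟶ ∏ᶜ H := Pi.lift fun x =>
    (Scheme.Modules.pullbackPushforwardAdjunction (U x).ι).homEquiv _ _ (Injective.ι _)
  have : Mono d := mono_toProd U hx I Jx (fun x => Injective.ι _) fun x => inferInstance
  refine ⟨fun {A B} φ m _ => ⟨Injective.factorThru (φ ≫ T.map d) m ≫ T.map (Injective.factorThru (𝟙 I) d), ?_⟩⟩
  rw [Injective.comp_factorThru_assoc, Category.assoc, ← T.map_comp, Injective.comp_factorThru,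
    T.map_id, Category.comp_id]

end Injective

end Groth.Agent.ModGroth.LocBasis

namespace Groth.Agent.ModGroth.LocBasis

open Stalk

variable {X Y : Scheme.{u}}

lemma tL_preservesHomology_of_isFlat {C : Type u} [SmallCategory C] {J : GrothendieckTopology C}
    {O : Sheaf J CommRingCat.{u}} (F : ModSite.Mod O) (hF : ModSite.IsFlat F) : (tL F).PreservesHomology := by
  haveI : PreservesFiniteLimits (tR F) := hF.1
  haveI : PreservesFiniteColimits (tR F) := hF.2
  haveI : PreservesFiniteLimits (tL F) := preservesFiniteLimits_of_natIso (tensorSymm F).symm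
  haveI : PreservesFiniteColimits (tL F) := preservesFiniteColimits_of_natIso (tensorSymm F).symm
  infer_instance

lemma preservesHomology_tensor {E : X.Modules} (hE : FlatMod.IsFinLocFree E) :
    ((DCoh.tensorBi (X := X)).obj E).PreservesHomology :=
  tL_preservesHomology_of_isFlat (O := X.sheaf) E ((isFlat_iff_flatMod E).2 (Perf.isFlat_of_isFinLocFree hE))

/-- A functor that is exact and preserves injectives transports right derived functors. -/
noncomputable def rightDerivedCompIso {A B A' : Type (u + 1)} [Category.{u} A] [Category.{u} B] [Category.{u} A']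
    [Abelian A] [Abelian B] [Abelian A'] [HasInjectiveResolutions A] [HasInjectiveResolutions A']
    (P : A ⥤ B) [P.Additive] (S : B ⥤ B) [S.Additive] [S.PreservesHomology] (T : A ⥤ A') [T.Additive]
    [T.PreservesHomology] (hT : ∀ I : A, Injective I → Injective (T.obj I)) (Q : A' ⥤ B) [Q.Additive]
    (α : P ⋙ S ≅ T ⋙ Q) (F : A) (q : ℕ) :
    S.obj ((P.rightDerived q).obj F) ≅ (Q.rightDerived q).obj (T.obj F) :=
  let I := injectiveResolution F
  let I' : InjectiveResolution (T.obj F) :=
    { cocomplex := (T.mapHomologicalComplex _).obj I.cocomplex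
      injective := fun n => hT _ (I.injective n)
      ι := (HomologicalComplex.singleMapHomologicalComplex T (ComplexShape.up ℕ) 0).inv.app F ≫
        (T.mapHomologicalComplex _).map I.ι
      quasiIso := inferInstance }
  S.mapIso (I.isoRightDerivedObj P q) ≪≫
    (ShortComplex.mapHomologyIso (((P.mapHomologicalComplex _).obj I.cocomplex).sc q) S).symm ≪≫
    (HomologicalComplex.homologyFunctor B _ q).mapIso ((NatIso.mapHomologicalComplex α _).app I.cocomplex) ≪≫
    (I'.isoRightDerivedObj Q q).symm

/-- The projection formula for finite locally free modules, degree by degree. -/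
theorem nonempty_rpush_projection (f : X ⟶ Y) [HasInjectiveResolutions X.Modules]
    (F : X.Modules) (E : Y.Modules) (hE : FlatMod.IsFinLocFree E) (q : ℕ) :
    Nonempty (((DCoh.tensorBi (X := Y)).obj E).obj ((Coh.Rpush f q).obj F) ≅
      (Coh.Rpush f q).obj (((DCoh.tensorBi (X := X)).obj ((Scheme.Modules.pullback f).obj E)).obj F)) := by
  haveI := isIso_alpha f hE
  haveI := preservesHomology_tensor hE
  have hE' := Perf.isFinLocFree_pullback f hE
  haveI := preservesHomology_tensor hE'
  exact ⟨rightDerivedCompIso (Scheme.Modules.pushforward f) ((DCoh.tensorBi (X := Y)).obj E)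
    ((DCoh.tensorBi (X := X)).obj ((Scheme.Modules.pullback f).obj E))
    (fun I _ => injective_tensor _ hE' I) (Scheme.Modules.pushforward f) (asIso (alpha f E)) F q⟩

end Groth.Agent.ModGroth.LocBasis
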