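import Groth.Agent.ModGroth.TotMap

/-!
# Total complexes and a projection formula for bifunctors
-/

universe v v' u u'

open CategoryTheory CategoryTheory.Limits HomologicalComplex

namespace Groth.Agent.ModGroth.Mixed

variable {C : Type u} [Category.{v} C] [Abelian C] {D : Type u'} [Category.{v'} D] [Abelian D]
  (F₁ : C ⥤ C ⥤ C) [F₁.Additive] [∀ X, (F₁.obj X).Additive]
  (F₂ : D ⥤ D ⥤ D) [F₂.Additive] [∀ X, (F₂.obj X).Additive]
  [∀ K L : CochainComplex C ℤ, HasMapBifunctor K L F₁ (ComplexShape.up ℤ)]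
  [∀ K L : CochainComplex D ℤ, HasMapBifunctor K L F₂ (ComplexShape.up ℤ)]
  (Φ : C ⥤ D) [Φ.Additive] (Ψ : D ⥤ C) [Ψ.Additive]

/-- Compatibility `Φ A ⊗ B ≅ Φ (A ⊗ Ψ B)` of two bifunctors. -/
structure ProjCompat where
  /-- the isomorphisms -/
  iso : ∀ (A : C) (B : D), (F₂.obj (Φ.obj A)).obj B ≅ Φ.obj ((F₁.obj A).obj (Ψ.obj B))
  natL : ∀ {A A' : C} (a : A ⟶ A') (B : D),
    (F₂.map (Φ.map a)).app B ≫ (iso A' B).hom = (iso A B).hom ≫ Φ.map ((F₁.map a).app (Ψ.obj B))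
  natR : ∀ (A : C) {B B' : D} (b : B ⟶ B'),
    (F₂.obj (Φ.obj A)).map b ≫ (iso A B').hom = (iso A B).hom ≫ Φ.map ((F₁.obj A).map (Ψ.map b))

variable {F₁ F₂ Φ Ψ} (μ : ProjCompat F₁ F₂ Φ Ψ)

/-- `Φ` on complexes. -/
local notation "Φc" => Φ.mapHomologicalComplex (ComplexShape.up ℤ)

/-- `Ψ` on complexes. -/
local notation "Ψc" => Ψ.mapHomologicalComplex (ComplexShape.up ℤ)

/-- The comparison at one bidegree. -/
noncomputable def muX (K : CochainComplex C ℤ) (L : CochainComplex D ℤ) (p q : ℤ) :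
    (F₂.obj (((Φc).obj K).X p)).obj (L.X q) ⟶ Φ.obj ((F₁.obj (K.X p)).obj (((Ψc).obj L).X q)) :=
  (μ.iso (K.X p) (L.X q)).hom

lemma muX_natL (K : CochainComplex C ℤ) (L : CochainComplex D ℤ) (p p' q : ℤ) :
    (F₂.map (((Φc).obj K).d p p')).app (L.X q) ≫ muX μ K L p' q =
      muX μ K L p q ≫ Φ.map ((F₁.map (K.d p p')).app (((Ψc).obj L).X q)) :=
  μ.natL (K.d p p') (L.X q)

lemma muX_natR (K : CochainComplex C ℤ) (L : CochainComplex D ℤ) (p q q' : ℤ) :
    (F₂.obj (((Φc).obj K).X p)).map (L.d q q') ≫ muX μ K L p q' =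
      muX μ K L p q ≫ Φ.map ((F₁.obj (K.X p)).map (((Ψc).obj L).d q q')) :=
  μ.natR (K.X p) (L.d q q')

/-- Degree `n` of the comparison map. -/
noncomputable def totCompareX (K : CochainComplex C ℤ) (L : CochainComplex D ℤ) (n : ℤ) :
    (mapBifunctor ((Φc).obj K) L F₂ (ComplexShape.up ℤ)).X n ⟶
      Φ.obj ((mapBifunctor K ((Ψc).obj L) F₁ (ComplexShape.up ℤ)).X n) :=
  mapBifunctorDesc fun p q h => muX μ K L p q ≫ Φ.map (ιMapBifunctor K ((Ψc).obj L) F₁ (ComplexShape.up ℤ) p q n h)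

lemma ι_totCompareX (K : CochainComplex C ℤ) (L : CochainComplex D ℤ) (p q n : ℤ) (h : p + q = n) :
    ιMapBifunctor ((Φc).obj K) L F₂ (ComplexShape.up ℤ) p q n h ≫ totCompareX μ K L n =
      muX μ K L p q ≫ Φ.map (ιMapBifunctor K ((Ψc).obj L) F₁ (ComplexShape.up ℤ) p q n h) :=
  ι_mapBifunctorDesc ..

lemma totCompare_d₁ (K : CochainComplex C ℤ) (L : CochainComplex D ℤ) (p q n' : ℤ) :
    mapBifunctor.d₁ ((Φc).obj K) L F₂ (ComplexShape.up ℤ) p q n' ≫ totCompareX μ K L n' =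
      muX μ K L p q ≫ Φ.map (mapBifunctor.d₁ K ((Ψc).obj L) F₁ (ComplexShape.up ℤ) p q n') := by
  by_cases h : p + 1 + q = n'
  · rw [mapBifunctor.d₁_eq _ _ _ _ (show (ComplexShape.up ℤ).Rel p (p + 1) from rfl) q n' h,
      mapBifunctor.d₁_eq _ _ _ _ (show (ComplexShape.up ℤ).Rel p (p + 1) from rfl) q n' h,
      Units.smul_def, Units.smul_def, Preadditive.zsmul_comp, Functor.map_zsmul, Preadditive.comp_zsmul,
      Category.assoc, ι_totCompareX, Functor.map_comp, ← Category.assoc, muX_natL, Category.assoc]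
  · rw [mapBifunctor.d₁_eq_zero' _ _ _ _ (show (ComplexShape.up ℤ).Rel p (p + 1) from rfl) q n' h,
      mapBifunctor.d₁_eq_zero' _ _ _ _ (show (ComplexShape.up ℤ).Rel p (p + 1) from rfl) q n' h,
      zero_comp]
    exact ((congrArg (muX μ K L p q ≫ ·) (Φ.map_zero _ _)).trans comp_zero).symm

lemma totCompare_d₂ (K : CochainComplex C ℤ) (L : CochainComplex D ℤ) (p q n' : ℤ) :
    mapBifunctor.d₂ ((Φc).obj K) L F₂ (ComplexShape.up ℤ) p q n' ≫ totCompareX μ K L n' =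
      muX μ K L p q ≫ Φ.map (mapBifunctor.d₂ K ((Ψc).obj L) F₁ (ComplexShape.up ℤ) p q n') := by
  by_cases h : p + (q + 1) = n'
  · rw [mapBifunctor.d₂_eq _ _ _ _ p (show (ComplexShape.up ℤ).Rel q (q + 1) from rfl) n' h,
      mapBifunctor.d₂_eq _ _ _ _ p (show (ComplexShape.up ℤ).Rel q (q + 1) from rfl) n' h,
      Units.smul_def, Units.smul_def, Preadditive.zsmul_comp, Functor.map_zsmul, Preadditive.comp_zsmul,
      Category.assoc, ι_totCompareX, Functor.map_comp, ← Category.assoc, muX_natR, Category.assoc]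
  · rw [mapBifunctor.d₂_eq_zero' _ _ _ _ p (show (ComplexShape.up ℤ).Rel q (q + 1) from rfl) n' h,
      mapBifunctor.d₂_eq_zero' _ _ _ _ p (show (ComplexShape.up ℤ).Rel q (q + 1) from rfl) n' h,
      zero_comp]
    exact ((congrArg (muX μ K L p q ≫ ·) (Φ.map_zero _ _)).trans comp_zero).symm

lemma totCompareX_comm (K : CochainComplex C ℤ) (L : CochainComplex D ℤ) (n n' : ℤ) :
    totCompareX μ K L n ≫ Φ.map ((mapBifunctor K ((Ψc).obj L) F₁ (ComplexShape.up ℤ)).d n n') =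
      (mapBifunctor ((Φc).obj K) L F₂ (ComplexShape.up ℤ)).d n n' ≫ totCompareX μ K L n' := by
  refine mapBifunctor.hom_ext fun p q h => ?_
  rw [← Category.assoc, ι_totCompareX, Category.assoc, ← Functor.map_comp, mapBifunctor.d_eq,
    mapBifunctor.d_eq, Preadditive.comp_add, Preadditive.add_comp, Preadditive.comp_add,
    mapBifunctor.ι_D₁, mapBifunctor.ι_D₂, ← Category.assoc, ← Category.assoc, mapBifunctor.ι_D₁,
    mapBifunctor.ι_D₂, totCompare_d₁, totCompare_d₂, Functor.map_add, Preadditive.comp_add]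

/-- The comparison map. -/
noncomputable def totCompare (K : CochainComplex C ℤ) (L : CochainComplex D ℤ) :
    mapBifunctor ((Φc).obj K) L F₂ (ComplexShape.up ℤ) ⟶
      (Φc).obj (mapBifunctor K ((Ψc).obj L) F₁ (ComplexShape.up ℤ)) where
  f n := totCompareX μ K L n
  comm' i j _ := totCompareX_comm μ K L i j

lemma isIso_totCompare [∀ n : ℤ, PreservesColimitsOfShape (Discrete (DegIdx n)) Φ]
    (K : CochainComplex C ℤ) (L : CochainComplex D ℤ) : IsIso (totCompare μ K L) := by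
  have : ∀ n, IsIso ((totCompare μ K L).f n) := fun n => by
    let hc₁ := isColimitDegCofan F₂ ((Φc).obj K) L n
    let hc₂ := isColimitOfPreserves Φ (isColimitDegCofan F₁ K ((Ψc).obj L) n)
    let θ : Discrete.functor (fun x : DegIdx n => (F₂.obj (((Φc).obj K).X x.1.1)).obj (L.X x.1.2)) ≅
        Discrete.functor (fun x : DegIdx n => (F₁.obj (K.X x.1.1)).obj (((Ψc).obj L).X x.1.2)) ⋙ Φ :=
      Discrete.natIso fun x => μ.iso (K.X x.as.1.1) (L.X x.as.1.2)
    have e : (totCompare μ K L).f n = (IsColimit.coconePointsIsoOfNatIso hc₁ hc₂ θ).hom :=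
      hc₁.hom_ext fun x => (ι_totCompareX μ K L x.as.1.1 x.as.1.2 n x.as.2).trans
        (IsColimit.comp_coconePointsIsoOfNatIso_hom hc₁ hc₂ θ x).symm
    rw [e]
    exact (IsColimit.coconePointsIsoOfNatIso hc₁ hc₂ θ).isIso_hom
  exact Hom.isIso_of_components _

/-- `Φ` commutes with total complexes. -/
noncomputable def totCompareIso [∀ n : ℤ, PreservesColimitsOfShape (Discrete (DegIdx n)) Φ]
    (K : CochainComplex C ℤ) (L : CochainComplex D ℤ) :
    mapBifunctor ((Φc).obj K) L F₂ (ComplexShape.up ℤ) ≅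
      (Φc).obj (mapBifunctor K ((Ψc).obj L) F₁ (ComplexShape.up ℤ)) :=
  @asIso _ _ _ _ (totCompare μ K L) (isIso_totCompare μ K L)

end Groth.Agent.ModGroth.Mixed
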