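import Groth.Agent.ModGroth.PushStalk
import Groth.Agent.ModGroth.PullTensor
import Groth.Agent.ModGroth.TotMixed
import Mathlib.LinearAlgebra.TensorProduct.Tower

/-!
# `f_* M ⊗ N ≅ f_*(M ⊗ f^* N)` for a closed immersion
-/

universe u

open CategoryTheory CategoryTheory.Limits Opposite TopologicalSpace AlgebraicGeometry MonoidalCategory

namespace Groth.Agent.ModGroth.PushStalk

open Stalk

section Algebra

variable {R S : Type u} [CommRing R] [CommRing S] (φ : R →+* S)

/-- `A ⊗[R] B → M ⊗[S] (S ⊗[R] B)` is bijective when `A = M` over `R`. -/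
lemma bijective_cancel {A B : ModuleCat.{u} R} {M : ModuleCat.{u} S} (e : A →+ M) (he : Function.Bijective e)
    (hs : ∀ (r : R) (a : A), e (r • a) = φ r • e a)
    (g : (A ⊗ B : ModuleCat.{u} R) →+ (M ⊗ (ModuleCat.extendScalars.{u, u, u} φ).obj B : ModuleCat.{u} S))
    (hg : ∀ (a : A) (b : B), g (a ⊗ₜ[R] b) =
      e a ⊗ₜ[S] (show (ModuleCat.extendScalars.{u, u, u} φ).obj B from
        (ModuleCat.extendRestrictScalarsAdj.{u, u, u} φ).unit.app B b)) :
    Function.Bijective g := by
  letI := φ.toAlgebra
  letI : Module R M := Module.compHom M φ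
  haveI : IsScalarTower R S M := IsScalarTower.of_algebraMap_smul fun _ _ => rfl
  let l : A →ₗ[R] M := { toFun := e, map_add' := map_add e, map_smul' := hs }
  let eL : A ≃ₗ[R] M := LinearEquiv.ofBijective l he
  let G : TensorProduct R A B ≃+ TensorProduct S M (TensorProduct R S B) :=
    (TensorProduct.congr eL (LinearEquiv.refl R B)).toAddEquiv.trans
      (TensorProduct.AlgebraTensorModule.cancelBaseChange R S S M B).symm.toAddEquiv
  have : ∀ z : TensorProduct R A B, g z = G z := fun z => by
    induction z using TensorProduct.induction_on with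
    | zero => exact (map_zero g).trans (map_zero G).symm
    | tmul a b =>
      refine (hg a b).trans ?_
      change _ = (TensorProduct.AlgebraTensorModule.cancelBaseChange R S S M B).symm (e a ⊗ₜ[R] b)
      rw [TensorProduct.AlgebraTensorModule.cancelBaseChange_symm_tmul]
      rfl
    | add z w hz hw => exact (map_add g z w).trans ((congrArg₂ (· + ·) hz hw).trans (map_add G z w).symm)
  have hG : Function.Bijective (fun z : TensorProduct R A B => g z) := by
    rw [show (fun z : TensorProduct R A B => g z) = G from funext this]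
    exact G.bijective
  exact hG

end Algebra

variable {X Y : Scheme.{u}} (f : X ⟶ Y)

/-- `m ⊗ n ↦ m ⊗ f^* n`. -/
noncomputable def betaSec (M : X.Modules) (N : Y.Modules) {U : Y.Opens}
    (m : (toPres.obj ((Scheme.Modules.pushforward f).obj M)).obj (op U))
    (n : (toPres.obj N).obj (op U)) :
    (toPres.obj (((DCoh.tensorBi (X := X)).obj M).obj ((Scheme.Modules.pullback f).obj N))).obj (op (f ⁻¹ᵁ U)) :=
  (eta (O := X.sheaf) (toPres.obj M ⊗ toPres.obj ((Scheme.Modules.pullback f).obj N))).app (op (f ⁻¹ᵁ U))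
    (tm' (toPres.obj M) (toPres.obj ((Scheme.Modules.pullback f).obj N)) (U := f ⁻¹ᵁ U) m (pSec f N n))

lemma betaSec_add_left (M : X.Modules) (N : Y.Modules) {U : Y.Opens}
    (m m' : (toPres.obj ((Scheme.Modules.pushforward f).obj M)).obj (op U)) (n : (toPres.obj N).obj (op U)) :
    betaSec f M N (m + m') n = betaSec f M N m n + betaSec f M N m' n :=
  (congrArg _ (tm'_add_left (toPres.obj M) (toPres.obj ((Scheme.Modules.pullback f).obj N))
    (U := f ⁻¹ᵁ U) m m' (pSec f N n))).trans (map_add _ _ _)

lemma betaSec_add_right (M : X.Modules) (N : Y.Modules) {U : Y.Opens}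
    (m : (toPres.obj ((Scheme.Modules.pushforward f).obj M)).obj (op U)) (n n' : (toPres.obj N).obj (op U)) :
    betaSec f M N m (n + n') = betaSec f M N m n + betaSec f M N m n' :=
  (congrArg _ ((congrArg (fun t => tm' (toPres.obj M) _ (U := f ⁻¹ᵁ U) m t) (pSec_add f N n n')).trans
    (tm'_add_right _ _ _ _ _))).trans (map_add _ _ _)

lemma betaSec_smul_left (M : X.Modules) (N : Y.Modules) {U : Y.Opens} (r : Y.presheaf.obj (op U))
    (m : (toPres.obj ((Scheme.Modules.pushforward f).obj M)).obj (op U)) (n : (toPres.obj N).obj (op U)) :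
    betaSec f M N (r • m) n = (f.app U).hom r • betaSec f M N m n :=
  map_tm'_smul (A := toPres.obj M) (U := f ⁻¹ᵁ U) _ ((f.app U).hom r) m (pSec f N n)

lemma betaSec_smul_right (M : X.Modules) (N : Y.Modules) {U : Y.Opens} (r : Y.presheaf.obj (op U))
    (m : (toPres.obj ((Scheme.Modules.pushforward f).obj M)).obj (op U)) (n : (toPres.obj N).obj (op U)) :
    betaSec f M N m (r • n) = (f.app U).hom r • betaSec f M N m n :=
  (congrArg _ ((congrArg (fun t => tm' (toPres.obj M) _ (U := f ⁻¹ᵁ U) m t) (pSec_smul f N r n)).trans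
      (tm'_smul _ _ _ _ _).symm)).trans
    (map_tm'_smul (A := toPres.obj M) (U := f ⁻¹ᵁ U) _ _ _ _)

/-- The presheaf level map. -/
noncomputable def betaPre (M : X.Modules) (N : Y.Modules) :
    (toPres.obj ((Scheme.Modules.pushforward f).obj M) ⊗ toPres.obj N : Pres Y.presheaf) ⟶
      toPres.obj ((Scheme.Modules.pushforward f).obj
        (((DCoh.tensorBi (X := X)).obj M).obj ((Scheme.Modules.pullback f).obj N))) where
  app U := ModuleCat.MonoidalCategory.tensorLift (fun m n => betaSec f M N (U := U.unop) m n)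
    (fun m m' n => betaSec_add_left f M N m m' n)
    (fun r m n => betaSec_smul_left f M N r m n)
    (fun m n n' => betaSec_add_right f M N m n n')
    (fun r m n => betaSec_smul_right f M N r m n)
  naturality {U V} g := ModuleCat.MonoidalCategory.tensor_ext fun m n => by
    change betaSec f M N (rs (toPres.obj M) ((Opens.map f.base).map g.unop).op m)
      (rs (toPres.obj N) g.unop.op n) = _
    refine (congrArg (fun t => (eta (O := X.sheaf) (toPres.obj M ⊗ toPres.obj ((Scheme.Modules.pullback f).obj N))).app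
      (op (f ⁻¹ᵁ V.unop)) (tm' (toPres.obj M) _ (U := f ⁻¹ᵁ V.unop) _ t)) (pSec_res f N g.unop n)).trans ?_
    exact rs_app (eta (O := X.sheaf) (toPres.obj M ⊗ toPres.obj ((Scheme.Modules.pullback f).obj N)))
      ((Opens.map f.base).map g.unop).op (tm' (toPres.obj M) _ m (pSec f N (U := U.unop) n))

/-- `f_* M ⊗ N ⟶ f_*(M ⊗ f^* N)`. -/
noncomputable def beta (M : X.Modules) (N : Y.Modules) :
    ((DCoh.tensorBi (X := Y)).obj ((Scheme.Modules.pushforward f).obj M)).obj N ⟶
      (Scheme.Modules.pushforward f).obj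
        (((DCoh.tensorBi (X := X)).obj M).obj ((Scheme.Modules.pullback f).obj N)) :=
  ((adjn Y.sheaf).homEquiv _ _).symm (betaPre f M N)

lemma eta_beta (M : X.Modules) (N : Y.Modules) :
    eta (O := Y.sheaf) (toPres.obj ((Scheme.Modules.pushforward f).obj M) ⊗ toPres.obj N) ≫
      toPres.map (beta f M N) = betaPre f M N :=
  ((adjn Y.sheaf).homEquiv_unit (f := beta f M N)).symm.trans (Equiv.apply_symm_apply _ _)

lemma beta_natL {M M' : X.Modules} (a : M ⟶ M') (N : Y.Modules) :
    ((DCoh.tensorBi (X := Y)).map ((Scheme.Modules.pushforward f).map a)).app N ≫ beta f M' N =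
      beta f M N ≫ (Scheme.Modules.pushforward f).map
        (((DCoh.tensorBi (X := X)).map a).app ((Scheme.Modules.pullback f).obj N)) :=
  ((adjn Y.sheaf).homEquiv _ _).injective (by
    refine ((adjn Y.sheaf).homEquiv_naturality_left _ _).trans ?_
    refine Eq.trans ?_ ((adjn Y.sheaf).homEquiv_naturality_right _ _).symm
    refine (congrArg (_ ≫ ·) (((adjn Y.sheaf).homEquiv _ _).apply_symm_apply (betaPre f M' N))).trans
      (Eq.trans ?_ (congrArg (· ≫ _) (((adjn Y.sheaf).homEquiv _ _).apply_symm_apply (betaPre f M N))).symm)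
    refine PresheafOfModules.hom_ext fun U => ModuleCat.MonoidalCategory.tensor_ext fun m n => ?_
    exact congrArg (fun t : (toPres.obj M ⊗ toPres.obj ((Scheme.Modules.pullback f).obj N) : Pres X.presheaf) ⟶
        toPres.obj (((DCoh.tensorBi (X := X)).obj M').obj ((Scheme.Modules.pullback f).obj N)) =>
      t.app (op (f ⁻¹ᵁ U.unop)) (tm' (toPres.obj M) _ (U := f ⁻¹ᵁ U.unop) m (pSec f N n)))
        (eta'_naturality (O := X.sheaf) (toPres.map a ▷ toPres.obj ((Scheme.Modules.pullback f).obj N))))

lemma pSec_map {N N' : Y.Modules} (b : N ⟶ N') {U : Y.Opens} (n : (toPres.obj N).obj (op U)) :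
    pSec f N' ((toPres.map b).app (op U) n) =
      (toPres.map ((Scheme.Modules.pullback f).map b)).app (op (f ⁻¹ᵁ U)) (pSec f N n) :=
  congrArg (fun t => (toPres.map t).app (op U) n)
    ((Scheme.Modules.pullbackPushforwardAdjunction f).unit.naturality b)

lemma beta_natR (M : X.Modules) {N N' : Y.Modules} (b : N ⟶ N') :
    ((DCoh.tensorBi (X := Y)).obj ((Scheme.Modules.pushforward f).obj M)).map b ≫ beta f M N' =
      beta f M N ≫ (Scheme.Modules.pushforward f).map
        (((DCoh.tensorBi (X := X)).obj M).map ((Scheme.Modules.pullback f).map b)) :=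
  ((adjn Y.sheaf).homEquiv _ _).injective (by
    refine ((adjn Y.sheaf).homEquiv_naturality_left _ _).trans ?_
    refine Eq.trans ?_ ((adjn Y.sheaf).homEquiv_naturality_right _ _).symm
    refine (congrArg (_ ≫ ·) (((adjn Y.sheaf).homEquiv _ _).apply_symm_apply (betaPre f M N'))).trans
      (Eq.trans ?_ (congrArg (· ≫ _) (((adjn Y.sheaf).homEquiv _ _).apply_symm_apply (betaPre f M N))).symm)
    refine PresheafOfModules.hom_ext fun U => ModuleCat.MonoidalCategory.tensor_ext fun m n => ?_
    refine (congrArg (fun z => (eta (O := X.sheaf) (toPres.obj M ⊗ toPres.obj ((Scheme.Modules.pullback f).obj N'))).app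
      (op (f ⁻¹ᵁ U.unop)) (tm' (toPres.obj M) _ (U := f ⁻¹ᵁ U.unop) m z)) (pSec_map f b n)).trans ?_
    exact congrArg (fun t : (toPres.obj M ⊗ toPres.obj ((Scheme.Modules.pullback f).obj N) : Pres X.presheaf) ⟶
        toPres.obj (((DCoh.tensorBi (X := X)).obj M).obj ((Scheme.Modules.pullback f).obj N')) =>
      t.app (op (f ⁻¹ᵁ U.unop)) (tm' (toPres.obj M) _ (U := f ⁻¹ᵁ U.unop) m (pSec f N n)))
        (eta'_naturality (O := X.sheaf) (toPres.obj M ◁ toPres.map ((Scheme.Modules.pullback f).map b))))

/-- `M_x ⊗ (O_{X,x} ⊗ N_{f x}) ≅ (M ⊗ f^* N)_x`. -/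
noncomputable def targetIso (x : X) (M : X.Modules) (N : Y.Modules) :
    (DerSch.stalkFunctor X x).obj M ⊗
        (ModuleCat.extendScalars.{u, u, u} (f.stalkMap x).hom).obj ((DerSch.stalkFunctor Y (f.base x)).obj N) ≅
      (DerSch.stalkFunctor X x).obj (((DCoh.tensorBi (X := X)).obj M).obj ((Scheme.Modules.pullback f).obj N)) :=
  MonoidalCategory.tensorIso (Iso.refl _) ((pullStalkIso f x).app N).symm ≪≫ tensorStalkIso x _ _

lemma targetIso_gm (x : X) (M : X.Modules) (N : Y.Modules) {U : Y.Opens} (hx : f.base x ∈ U)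
    (m : (toPres.obj ((Scheme.Modules.pushforward f).obj M)).obj (op U)) (n : (toPres.obj N).obj (op U)) :
    (targetIso f x M N).hom (gm (toPres.obj M) (U := f ⁻¹ᵁ U) hx m ⊗ₜ[X.presheaf.stalk x]
        oneT f x _ (gm (toPres.obj N) hx n)) =
      gm (toPres.obj (((DCoh.tensorBi (X := X)).obj M).obj ((Scheme.Modules.pullback f).obj N)))
        (U := f ⁻¹ᵁ U) hx (betaSec f M N m n) :=
  (congrArg (fun t => tensorComparison x M ((Scheme.Modules.pullback f).obj N)
      (gm (toPres.obj M) (U := f ⁻¹ᵁ U) hx m ⊗ₜ[X.presheaf.stalk x] t)) (inv_oneT f x N hx n)).trans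
    (tensorComparison_gm x M _ (U := f ⁻¹ᵁ U) hx m (pSec f N n))

/-- The stalk of `beta` at a point of the source. -/
lemma bijective_stalk_beta (hf : Topology.IsInducing f.base) (x : X) (M : X.Modules) (N : Y.Modules) :
    Function.Bijective ((DerSch.stalkFunctor Y (f.base x)).map (beta f M N)) := by
  let S := tensorStalkIso (f.base x) ((Scheme.Modules.pushforward f).obj M) N
  let g : ((DerSch.stalkFunctor Y (f.base x)).obj ((Scheme.Modules.pushforward f).obj M) ⊗
      (DerSch.stalkFunctor Y (f.base x)).obj N : ModuleCat.{u} (Y.presheaf.stalk (f.base x))) →+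
      ((DerSch.stalkFunctor X x).obj M ⊗ (ModuleCat.extendScalars.{u, u, u} (f.stalkMap x).hom).obj
        ((DerSch.stalkFunctor Y (f.base x)).obj N) : ModuleCat.{u} (X.presheaf.stalk x)) :=
    (targetIso f x M N).inv.hom.toAddMonoidHom.comp ((spHom f x _).comp
      (((DerSch.stalkFunctor Y (f.base x)).map (beta f M N)).hom.toAddMonoidHom.comp S.hom.hom.toAddMonoidHom))
  have hg : Function.Bijective g := by
    refine bijective_cancel (f.stalkMap x).hom (spHom f x M) (spHom_bijective f hf x M) (spHom_smul f x M) g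
      fun α β => ?_
    obtain ⟨U, hx, m, n, rfl, rfl⟩ :=
      exists_pair (toPres.obj ((Scheme.Modules.pushforward f).obj M)) (toPres.obj N) α β
    refine Eq.trans ?_ (congrArg (fun t : ↑((DerSch.stalkFunctor X x).obj M) => t ⊗ₜ[X.presheaf.stalk x]
      oneT f x ((DerSch.stalkFunctor Y (f.base x)).obj N) (gm (toPres.obj N) hx n))
      (spHom_gm f x M hx m)).symm
    refine Eq.trans ?_ (ConcreteCategory.congr_hom (targetIso f x M N).hom_inv_id _)
    refine congrArg (targetIso f x M N).inv ?_
    refine Eq.trans ?_ (targetIso_gm f x M N hx m n).symm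
    refine (congrArg (spHom f x _) (((congrArg _ (tensorComparison_gm (f.base x) _ N hx m n)).trans
      (stalkFunctor_map_eq _ _ _)).trans (stMap_gm _ hx _))).trans ((spHom_gm f x _ hx _).trans ?_)
    exact congrArg _ (congrArg (fun t => t.app (op U) (tm' (toPres.obj ((Scheme.Modules.pushforward f).obj M))
      (toPres.obj N) m n)) (eta_beta f M N))
  have h1 : Function.Bijective (targetIso f x M N).inv :=
    (targetIso f x M N).symm.toLinearEquiv.bijective
  have h2 := (h1.comp (spHom_bijective f hf x
    (((DCoh.tensorBi (X := X)).obj M).obj ((Scheme.Modules.pullback f).obj N))))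
  have h3 : Function.Bijective S.hom := S.toLinearEquiv.bijective
  exact (Function.Bijective.of_comp_iff' h2 _).1 ((Function.Bijective.of_comp_iff _ h3).1 hg)

variable [IsClosedImmersion f]

lemma isIso_beta (M : X.Modules) (N : Y.Modules) : IsIso (beta f M N) := by
  refine isIso_of_stalks _ fun y => ?_
  by_cases hy : y ∈ Set.range f.base
  · obtain ⟨x, rfl⟩ := hy
    exact (ConcreteCategory.isIso_iff_bijective _).2
      (bijective_stalk_beta f f.isClosedEmbedding.isInducing x M N)
  · have h1 := isZero_stalk_push f f.isClosedEmbedding.isClosed_range hy M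
    have h2 := isZero_stalk_push f f.isClosedEmbedding.isClosed_range hy
      (((DCoh.tensorBi (X := X)).obj M).obj ((Scheme.Modules.pullback f).obj N))
    have h3 : IsZero ((DerSch.stalkFunctor Y y).obj
        (((DCoh.tensorBi (X := Y)).obj ((Scheme.Modules.pushforward f).obj M)).obj N)) :=
      (Functor.map_isZero (tensorRight ((DerSch.stalkFunctor Y y).obj N)) h1).of_iso
        (tensorStalkIso y _ N).symm
    exact isIso_of_source_target_iso_zero _ h3.isoZero h2.isoZero

/-- The projection formula at the level of modules. -/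
noncomputable def projCompat : Mixed.ProjCompat (DCoh.tensorBi (X := X)) (DCoh.tensorBi (X := Y))
    (Scheme.Modules.pushforward f) (Scheme.Modules.pullback f) where
  iso M N := @asIso _ _ _ _ (beta f M N) (isIso_beta f M N)
  natL a B := beta_natL f a B
  natR A {_ _} b := beta_natR f A b

/-- The projection formula at the level of complexes. -/
noncomputable def projTotIso (K : CochainComplex X.Modules ℤ) (L : CochainComplex Y.Modules ℤ) :
    ((DCoh.tensorCx (X := Y)).obj (((Scheme.Modules.pushforward f).mapHomologicalComplex (ComplexShape.up ℤ)).obj K)).obj L ≅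
      ((Scheme.Modules.pushforward f).mapHomologicalComplex (ComplexShape.up ℤ)).obj
        (((DCoh.tensorCx (X := X)).obj K).obj ((pcx f).obj L)) :=
  haveI : ∀ n : ℤ, PreservesColimitsOfShape (Discrete (DegIdx n)) (Scheme.Modules.pushforward f) :=
    fun n => preservesColimitsOfShape_push f
  Mixed.totCompareIso (projCompat f) K L

end Groth.Agent.ModGroth.PushStalk
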