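import Groth.Agent.ModGroth.KFlatSite
import Mathlib.Algebra.Homology.BifunctorAssociator

/-!
# Associativity of the tensor product of complexes on a ringed site
-/

universe u

open CategoryTheory CategoryTheory.Limits HomologicalComplex MonoidalCategory

namespace Groth.Agent.ModGroth

variable {C : Type u} [SmallCategory C] {J : GrothendieckTopology C} {O : Sheaf J CommRingCat.{u}}

lemma nat_aux {P P' Q Q' R R' S S' : PM O} (l : P ⟶ Q) (m : P ⟶ R) (r : R ⟶ S) (l' : P' ⟶ Q')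
    (m' : P' ⟶ R') (r' : R' ⟶ S') [IsIso ((sh O).map l)] [IsIso ((sh O).map l')]
    (p : P ⟶ P') (q : Q ⟶ Q') (t : R ⟶ R') (s : S ⟶ S') (hl : p ≫ l' = l ≫ q)
    (hm : p ≫ m' = m ≫ t) (hr : t ≫ r' = r ≫ s) :
    (sh O).map q ≫ inv ((sh O).map l') ≫ (sh O).map m' ≫ (sh O).map r' =
      (inv ((sh O).map l) ≫ (sh O).map m ≫ (sh O).map r) ≫ (sh O).map s := by
  rw [← cancel_epi ((sh O).map l), ← Category.assoc, ← (sh O).map_comp, ← hl, (sh O).map_comp,
    Category.assoc, IsIso.hom_inv_id_assoc, Category.assoc, IsIso.hom_inv_id_assoc,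
    ← (sh O).map_comp, ← (sh O).map_comp, reassoc_of% hm, hr, ← Category.assoc, (sh O).map_comp]
  simp only [Category.assoc, Functor.map_comp]

/-- Tensor products of three sheaves of modules. -/
noncomputable def assocHom (A B D : ModSite.Mod O) :
    ((ModSite.tensorBi O).obj (((ModSite.tensorBi O).obj A).obj B)).obj D ⟶
      ((ModSite.tensorBi O).obj A).obj (((ModSite.tensorBi O).obj B).obj D) :=
  haveI : IsIso ((sh O).map (eta' ((fg O).obj A ⊗ (fg O).obj B) ▷ (fg O).obj D)) :=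
    isIso_sh_whiskerRight_eta' (O := O) _ _
  @inv _ _ _ _ ((sh O).map (eta' ((fg O).obj A ⊗ (fg O).obj B) ▷ (fg O).obj D))
    (isIso_sh_whiskerRight_eta' (O := O) _ _) ≫
    (sh O).map (α_ ((fg O).obj A) ((fg O).obj B) ((fg O).obj D)).hom ≫
    (sh O).map ((fg O).obj A ◁ eta' ((fg O).obj B ⊗ (fg O).obj D))

instance isIso_assocHom (A B D : ModSite.Mod O) : IsIso (assocHom A B D) := by
  unfold assocHom
  exact @IsIso.comp_isIso _ _ _ _ _ _ _ (@IsIso.inv_isIso _ _ _ _ _ (isIso_sh_whiskerRight_eta' (O := O) _ _))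
    (@IsIso.comp_isIso _ _ _ _ _ ((sh O).map (α_ ((fg O).obj A) ((fg O).obj B) ((fg O).obj D)).hom) _ inferInstance (isIso_sh_whiskerLeft_eta' (O := O) _ _))

lemma assocHom_nat₁ {A A' : ModSite.Mod O} (f : A ⟶ A') (B D : ModSite.Mod O) :
    ((ModSite.tensorBi O).map (((ModSite.tensorBi O).map f).app B)).app D ≫ assocHom A' B D =
      assocHom A B D ≫ ((ModSite.tensorBi O).map f).app (((ModSite.tensorBi O).obj B).obj D) := by
  haveI := isIso_sh_whiskerRight_eta' ((fg O).obj A ⊗ (fg O).obj B) ((fg O).obj D)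
  haveI := isIso_sh_whiskerRight_eta' ((fg O).obj A' ⊗ (fg O).obj B) ((fg O).obj D)
  refine nat_aux (eta' ((fg O).obj A ⊗ (fg O).obj B) ▷ (fg O).obj D) _ ((fg O).obj A ◁ eta' ((fg O).obj B ⊗ (fg O).obj D))
    (eta' ((fg O).obj A' ⊗ (fg O).obj B) ▷ (fg O).obj D) _ ((fg O).obj A' ◁ eta' ((fg O).obj B ⊗ (fg O).obj D))
    ((fg O).map f ▷ (fg O).obj B ▷ (fg O).obj D) ((fg O).map ((sh O).map ((fg O).map f ▷ (fg O).obj B)) ▷ (fg O).obj D)
    ((fg O).map f ▷ ((fg O).obj B ⊗ (fg O).obj D))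
    ((fg O).map f ▷ (fg O).obj ((sh O).obj ((fg O).obj B ⊗ (fg O).obj D))) ?_
    (associator_naturality_left _ _ _) (whisker_exchange _ _).symm
  rw [← comp_whiskerRight, ← comp_whiskerRight, eta'_naturality]

lemma assocHom_nat₂ (A : ModSite.Mod O) {B B' : ModSite.Mod O} (g : B ⟶ B') (D : ModSite.Mod O) :
    ((ModSite.tensorBi O).map (((ModSite.tensorBi O).obj A).map g)).app D ≫ assocHom A B' D =
      assocHom A B D ≫ ((ModSite.tensorBi O).obj A).map (((ModSite.tensorBi O).map g).app D) := by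
  haveI := isIso_sh_whiskerRight_eta' ((fg O).obj A ⊗ (fg O).obj B) ((fg O).obj D)
  haveI := isIso_sh_whiskerRight_eta' ((fg O).obj A ⊗ (fg O).obj B') ((fg O).obj D)
  refine nat_aux (eta' ((fg O).obj A ⊗ (fg O).obj B) ▷ (fg O).obj D) _ ((fg O).obj A ◁ eta' ((fg O).obj B ⊗ (fg O).obj D))
    (eta' ((fg O).obj A ⊗ (fg O).obj B') ▷ (fg O).obj D) _ ((fg O).obj A ◁ eta' ((fg O).obj B' ⊗ (fg O).obj D))
    (((fg O).obj A ◁ (fg O).map g) ▷ (fg O).obj D) ((fg O).map ((sh O).map ((fg O).obj A ◁ (fg O).map g)) ▷ (fg O).obj D)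
    ((fg O).obj A ◁ ((fg O).map g ▷ (fg O).obj D))
    ((fg O).obj A ◁ (fg O).map ((sh O).map ((fg O).map g ▷ (fg O).obj D))) ?_
    (associator_naturality_middle _ _ _) ?_
  · rw [← comp_whiskerRight, ← comp_whiskerRight, eta'_naturality]
  · rw [← whiskerLeft_comp, ← whiskerLeft_comp, eta'_naturality]

lemma assocHom_nat₃ (A B : ModSite.Mod O) {D D' : ModSite.Mod O} (h : D ⟶ D') :
    ((ModSite.tensorBi O).obj (((ModSite.tensorBi O).obj A).obj B)).map h ≫ assocHom A B D' =
      assocHom A B D ≫ ((ModSite.tensorBi O).obj A).map (((ModSite.tensorBi O).obj B).map h) := by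
  haveI := isIso_sh_whiskerRight_eta' ((fg O).obj A ⊗ (fg O).obj B) ((fg O).obj D)
  haveI := isIso_sh_whiskerRight_eta' ((fg O).obj A ⊗ (fg O).obj B) ((fg O).obj D')
  refine nat_aux (eta' ((fg O).obj A ⊗ (fg O).obj B) ▷ (fg O).obj D) _ ((fg O).obj A ◁ eta' ((fg O).obj B ⊗ (fg O).obj D))
    (eta' ((fg O).obj A ⊗ (fg O).obj B) ▷ (fg O).obj D') _ ((fg O).obj A ◁ eta' ((fg O).obj B ⊗ (fg O).obj D'))
    (((fg O).obj A ⊗ (fg O).obj B) ◁ (fg O).map h) ((fg O).obj ((sh O).obj ((fg O).obj A ⊗ (fg O).obj B)) ◁ (fg O).map h)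
    ((fg O).obj A ◁ ((fg O).obj B ◁ (fg O).map h))
    ((fg O).obj A ◁ (fg O).map ((sh O).map ((fg O).obj B ◁ (fg O).map h)))
    (whisker_exchange _ _) (associator_naturality_right _ _ _) ?_
  rw [← whiskerLeft_comp, ← whiskerLeft_comp, eta'_naturality]

variable (O) in
/-- The associator of the tensor product of sheaves of modules. -/
noncomputable def assocNatIso : bifunctorComp₁₂ (ModSite.tensorBi O) (ModSite.tensorBi O) ≅
    bifunctorComp₂₃ (ModSite.tensorBi O) (ModSite.tensorBi O) :=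
  NatIso.ofComponents (fun A => NatIso.ofComponents (fun B => NatIso.ofComponents
      (fun D => @asIso _ _ _ _ (assocHom A B D) (isIso_assocHom A B D))
      (fun h => assocHom_nat₃ A B h))
      (fun g => NatTrans.ext (funext fun D => assocHom_nat₂ A g D)))
    (fun f => NatTrans.ext (funext fun B => NatTrans.ext (funext fun D => assocHom_nat₁ f B D)))

lemma preservesColimits₀_tR (N : ModSite.Mod O) :
    PreservesColimitsOfSize.{0, 0} ((ModSite.tensorBi O).flip.obj N) :=
  haveI := tensor_flip_preservesColimits N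
  preservesColimitsOfSize_shrink _

lemma preservesColimits₀_tL (N : ModSite.Mod O) :
    PreservesColimitsOfSize.{0, 0} ((ModSite.tensorBi O).obj N) :=
  haveI := preservesColimits₀_tR N
  preservesColimits_of_natIso (tensorSymm N).symm

variable (K L M : CochainComplex (ModSite.Mod O) ℤ)

section GenericAssoc

universe v₁ u₁

variable {A : Type u₁} [Category.{v₁} A] [Preadditive A] (F : A ⥤ A ⥤ A) [F.Additive] [∀ X, (F.obj X).Additive]
  (α : bifunctorComp₁₂ F F ≅ bifunctorComp₂₃ F F)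
  [∀ K L : CochainComplex A ℤ, HasMapBifunctor K L F (ComplexShape.up ℤ)]
  [∀ K L M : CochainComplex A ℤ, HasGoodTrifunctor₁₂Obj F F K L M (ComplexShape.up ℤ) (ComplexShape.up ℤ)]
  [∀ K L M : CochainComplex A ℤ,
    HasGoodTrifunctor₂₃Obj F F K L M (ComplexShape.up ℤ) (ComplexShape.up ℤ) (ComplexShape.up ℤ)]

lemma mapBifunctorAssociator_natL {K K' : CochainComplex A ℤ} (φ : K ⟶ K') (L M : CochainComplex A ℤ) :
    mapBifunctorMap (mapBifunctorMap φ (𝟙 L) F (ComplexShape.up ℤ)) (𝟙 M) F (ComplexShape.up ℤ) ≫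
        (mapBifunctorAssociator α K' L M (ComplexShape.up ℤ) (ComplexShape.up ℤ) (ComplexShape.up ℤ)).hom =
      (mapBifunctorAssociator α K L M (ComplexShape.up ℤ) (ComplexShape.up ℤ) (ComplexShape.up ℤ)).hom ≫
        mapBifunctorMap φ (𝟙 (mapBifunctor L M F (ComplexShape.up ℤ))) F (ComplexShape.up ℤ) := by
  refine HomologicalComplex.hom_ext _ _ fun n => mapBifunctor₁₂.hom_ext fun p q r h => ?_
  have hpq : ComplexShape.π (ComplexShape.up ℤ) (ComplexShape.up ℤ) (ComplexShape.up ℤ) (p + q, r) = n := h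
  have hqr : ComplexShape.π (ComplexShape.up ℤ) (ComplexShape.up ℤ) (ComplexShape.up ℤ) (p, q + r) = n :=
    (add_assoc p q r).symm.trans h
  have hn := NatTrans.congr_app (NatTrans.congr_app (α.hom.naturality (φ.f p)) (L.X q)) (M.X r)
  dsimp at hn
  simp only [HomologicalComplex.comp_f, mapBifunctorAssociator, Hom.isoOfComponents_hom_f,
    ι_mapBifunctorAssociatorX_hom_assoc]
  rw [mapBifunctor₁₂.ι_eq F F K L M _ _ p q r (p + q) n rfl hpq,
    mapBifunctor₂₃.ι_eq F F K L M (ComplexShape.up ℤ) (ComplexShape.up ℤ) (ComplexShape.up ℤ) p q r (q + r) n rfl hqr]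
  simp only [Category.assoc, ι_mapBifunctorMap, ι_mapBifunctorMap_assoc, HomologicalComplex.id_f,
    CategoryTheory.Functor.map_id, Category.id_comp]
  rw [← NatTrans.comp_app_assoc, ← Functor.map_comp, ι_mapBifunctorMap]
  simp only [HomologicalComplex.id_f, CategoryTheory.Functor.map_id, Category.id_comp, Functor.map_comp,
    NatTrans.comp_app, Category.assoc]
  have hi := mapBifunctor₁₂.ι_eq F F K' L M (ComplexShape.up ℤ) (ComplexShape.up ℤ) p q r (p + q) n rfl hpq
  rw [← reassoc_of% hi, ι_mapBifunctorAssociatorX_hom,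
    mapBifunctor₂₃.ι_eq F F K' L M (ComplexShape.up ℤ) (ComplexShape.up ℤ) (ComplexShape.up ℤ) p q r (q + r) n rfl hqr]
  refine (Category.assoc _ _ _).symm.trans ((congrArg (· ≫ _) hn).trans ((Category.assoc _ _ _).trans
    (congrArg (_ ≫ ·) ?_)))
  change (F.map (φ.f p)).app ((F.obj (L.X q)).obj (M.X r)) ≫
      (F.obj (K'.X p)).map (ιMapBifunctor L M F (ComplexShape.up ℤ) q r (q + r) rfl) ≫
        ιMapBifunctor K' (mapBifunctor L M F (ComplexShape.up ℤ)) F (ComplexShape.up ℤ) p (q + r) n hqr =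
    ((F.obj (K.X p)).map (ιMapBifunctor L M F (ComplexShape.up ℤ) q r (q + r) rfl) ≫
      ιMapBifunctor K (mapBifunctor L M F (ComplexShape.up ℤ)) F (ComplexShape.up ℤ) p (q + r) n hqr) ≫
        (mapBifunctorMap φ (𝟙 (mapBifunctor L M F (ComplexShape.up ℤ))) F (ComplexShape.up ℤ)).f n
  simp

lemma map₂_natL {K K' : CochainComplex A ℤ} (φ : K ⟶ K') (L M : CochainComplex A ℤ) :
    (F.map₂CochainComplex.map ((F.map₂CochainComplex.map φ).app L)).app M ≫
        (mapBifunctorAssociator α K' L M (ComplexShape.up ℤ) (ComplexShape.up ℤ) (ComplexShape.up ℤ)).hom =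
      (mapBifunctorAssociator α K L M (ComplexShape.up ℤ) (ComplexShape.up ℤ) (ComplexShape.up ℤ)).hom ≫
        (F.map₂CochainComplex.map φ).app ((F.map₂CochainComplex.obj L).obj M) :=
  mapBifunctorAssociator_natL F α φ L M

/-- Tensoring twice on the right. -/
noncomputable def gAssocTensL (K L : CochainComplex A ℤ) :
    F.map₂CochainComplex.flip.obj K ⋙ F.map₂CochainComplex.flip.obj L ≅
      F.map₂CochainComplex.flip.obj ((F.map₂CochainComplex.obj K).obj L) :=
  NatIso.ofComponents (fun P => mapBifunctorAssociator α P K L _ _ _) fun φ => map₂_natL F α φ K L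

/-- Tensoring twice on the right, for a functor equal to the total tensor product. -/
noncomputable def gAssocTensL' (T : CochainComplex A ℤ ⥤ CochainComplex A ℤ ⥤ CochainComplex A ℤ)
    (hT : T = F.map₂CochainComplex) (K L E : CochainComplex A ℤ) (hE : E = (T.obj K).obj L) :
    T.flip.obj K ⋙ T.flip.obj L ≅ T.flip.obj E := by
  subst hT hE
  exact gAssocTensL F α K L

end GenericAssoc

lemma hasGood₁₂ (K L M : CochainComplex (ModSite.Mod O) ℤ) :
    HasGoodTrifunctor₁₂Obj (ModSite.tensorBi O) (ModSite.tensorBi O) K L M (ComplexShape.up ℤ) (ComplexShape.up ℤ) :=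
  fun i j =>
    haveI := preservesColimits₀_tR (M.X j)
    inferInstance

lemma hasGood₂₃ (K L M : CochainComplex (ModSite.Mod O) ℤ) :
    HasGoodTrifunctor₂₃Obj (ModSite.tensorBi O) (ModSite.tensorBi O) K L M
      (ComplexShape.up ℤ) (ComplexShape.up ℤ) (ComplexShape.up ℤ) := fun i j =>
    haveI := preservesColimits₀_tL (K.X i)
    inferInstance

/-- `(K ⊗ L) ⊗ M ≅ K ⊗ (L ⊗ M)`. -/
noncomputable def assocCx :
    ((ModSite.tensorCx O).obj (((ModSite.tensorCx O).obj K).obj L)).obj M ≅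
      ((ModSite.tensorCx O).obj K).obj (((ModSite.tensorCx O).obj L).obj M) :=
  haveI := hasGood₁₂ K L M
  haveI := hasGood₂₃ K L M
  mapBifunctorAssociator (assocNatIso O) K L M (ComplexShape.up ℤ) (ComplexShape.up ℤ) (ComplexShape.up ℤ)

/-- Tensoring twice on the right. -/
noncomputable def assocTensL (K L : CochainComplex (ModSite.Mod O) ℤ) :
    (ModSite.tensorCx O).flip.obj K ⋙ (ModSite.tensorCx O).flip.obj L ≅
      (ModSite.tensorCx O).flip.obj (((ModSite.tensorCx O).obj K).obj L) :=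
  @gAssocTensL' (ModSite.Mod O) _ _ (ModSite.tensorBi O) _ _ (assocNatIso O) _ hasGood₁₂ hasGood₂₃
    (ModSite.tensorCx O) rfl K L _ rfl

end Groth.Agent.ModGroth
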