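import Groth.Agent.ModGroth.Flat
import Mathlib.Algebra.Category.ModuleCat.Stalk
import Mathlib.Topology.Sheaves.Stalks
import Mathlib.CategoryTheory.Sites.Spaces
import Mathlib.RingTheory.Flat.Basic

/-!
# Flatness of sheaves of modules on a ringed space, on stalks
-/

universe u

open CategoryTheory Limits Opposite MonoidalCategory TopologicalSpace
open scoped TensorProduct

namespace Groth.Agent.ModGroth.Stalk

variable {X : TopCat.{u}} {R : X.Presheaf CommRingCat.{u}}

/-- Presheaves of modules over a presheaf of commutative rings on a space. -/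
abbrev Pres (R : X.Presheaf CommRingCat.{u}) : Type (u + 1) :=
  PresheafOfModules.{u} (R ⋙ forget₂ CommRingCat.{u} RingCat.{u})

/-- The stalk of a presheaf of modules. -/
noncomputable abbrev st (M : Pres R) (x : X) : AddCommGrpCat.{u} :=
  TopCat.Presheaf.stalk M.presheaf x

/-- The local ring at a point. -/
noncomputable abbrev stR (R : X.Presheaf CommRingCat.{u}) (x : X) : CommRingCat.{u} := R.stalk x

/-- Restriction maps. -/
noncomputable def rs (M : Pres R) {U V : (Opens X)ᵒᵖ} (g : U ⟶ V) : M.obj U →+ M.obj V :=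
  (M.presheaf.map g).hom

lemma rs_comp (M : Pres R) {U V W : (Opens X)ᵒᵖ} (g : U ⟶ V) (h : V ⟶ W) (x : M.obj U) :
    rs M (g ≫ h) x = rs M h (rs M g x) :=
  PresheafOfModules.map_comp_apply M g h x

lemma rs_app {M M' : Pres R} (f : M ⟶ M') {U V : (Opens X)ᵒᵖ} (g : U ⟶ V) (x : M.obj U) :
    f.app V (rs M g x) = rs M' g (f.app U x) :=
  PresheafOfModules.naturality_apply f g x

/-- Germs. -/
noncomputable def gm (M : Pres R) {U : Opens X} {x : X} (hx : x ∈ U) : M.obj (op U) →+ st M x :=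
  (TopCat.Presheaf.germ M.presheaf U x hx).hom

lemma gm_res (M : Pres R) {U V : Opens X} (h : V ≤ U) {x : X} (hx : x ∈ V) (m : M.obj (op U)) :
    gm M hx (rs M (homOfLE h).op m) = gm M (h hx) m :=
  TopCat.Presheaf.germ_res_apply M.presheaf (homOfLE h) x hx m

lemma gm_smul (M : Pres R) {U : Opens X} {x : X} (hx : x ∈ U) (r : R.obj (op U))
    (m : M.obj (op U)) :
    gm M hx (r • m) = (TopCat.Presheaf.germ R U x hx).hom r • gm M hx m :=
  PresheafOfModules.germ_smul M x U hx r m

lemma exists_gm (M : Pres R) {x : X} (α : st M x) :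
    ∃ (U : Opens X) (hx : x ∈ U) (m : M.obj (op U)), gm M hx m = α := by
  obtain ⟨U, hx, m, h⟩ := TopCat.Presheaf.exists_germ_eq M.presheaf α
  exact ⟨U, hx, m, h⟩

lemma gm_eq (M : Pres R) {U V : Opens X} {x : X} (hx : x ∈ U) (hy : x ∈ V) {m : M.obj (op U)}
    {n : M.obj (op V)} (h : gm M hx m = gm M hy n) :
    ∃ (W : Opens X) (_ : x ∈ W) (hU : W ≤ U) (hV : W ≤ V),
      rs M (homOfLE hU).op m = rs M (homOfLE hV).op n := by
  obtain ⟨W, hW, i, j, e⟩ := TopCat.Presheaf.germ_eq M.presheaf x hx hy m n h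
  exact ⟨W, hW, i.le, j.le, e⟩

/-- The map on stalks. -/
noncomputable def stMap {M N : Pres R} (f : M ⟶ N) (x : X) : st M x →ₗ[stR R x] st N x :=
  let F : st M x →+ st N x := ((TopCat.Presheaf.stalkFunctor AddCommGrpCat.{u} x).map ((PresheafOfModules.toPresheaf _).map f)).hom
  { F with
    map_smul' := fun r α => by
      change F (r • α) = r • F α
      obtain ⟨U, hx, m, rfl⟩ := exists_gm M α
      obtain ⟨V, hy, r, rfl⟩ := R.exists_germ_eq r
      have hz : x ∈ U ⊓ V := ⟨hx, hy⟩
      have nat : ∀ {W : Opens X} (hw : x ∈ W) (k : M.obj (op W)),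
          F (gm M hw k) = gm N hw (f.app (op W) k) := fun hw k =>
        TopCat.Presheaf.stalkFunctor_map_germ_apply _ x hw ((PresheafOfModules.toPresheaf _).map f) k
      rw [← gm_res M inf_le_left hz, ← TopCat.Presheaf.germ_res_apply R
        (homOfLE inf_le_right : U ⊓ V ⟶ V) x hz r, ← gm_smul, nat, nat, map_smul, gm_smul] }

lemma stMap_gm {M N : Pres R} (f : M ⟶ N) {U : Opens X} {x : X} (hx : x ∈ U) (m : M.obj (op U)) :
    stMap f x (gm M hx m) = gm N hx (f.app (op U) m) :=
  TopCat.Presheaf.stalkFunctor_map_germ_apply U x hx ((PresheafOfModules.toPresheaf _).map f) m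

variable (A F : Pres R)

/-- Sections of `A ⊗ F` to the tensor product of the stalks. -/
noncomputable def tau {U : Opens X} {x : X} (hx : x ∈ U) :
    (A.obj (op U) ⊗[R.obj (op U)] F.obj (op U)) →+ (st A x ⊗[stR R x] st F x) :=
  TensorProduct.liftAddHom
    (AddMonoidHom.mk' (fun a => AddMonoidHom.mk' (fun n => gm A hx a ⊗ₜ[stR R x] gm F hx n)
      (fun n n' => by rw [map_add, TensorProduct.tmul_add]))
      (fun a a' => AddMonoidHom.ext fun n => by
        change gm A hx (a + a') ⊗ₜ[stR R x] gm F hx n = _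
        rw [map_add, TensorProduct.add_tmul]
        rfl))
    (fun r a n => by
      change gm A hx (r • a) ⊗ₜ[stR R x] gm F hx n = gm A hx a ⊗ₜ[stR R x] gm F hx (r • n)
      rw [gm_smul, gm_smul, TensorProduct.smul_tmul])

lemma tau_tmul {U : Opens X} {x : X} (hx : x ∈ U) (a : A.obj (op U)) (n : F.obj (op U)) :
    tau A F hx (a ⊗ₜ n) = gm A hx a ⊗ₜ gm F hx n := rfl

lemma exists_pair (M N : Pres R) {x : X} (α : st M x) (β : st N x) :
    ∃ (U : Opens X) (hx : x ∈ U) (a : M.obj (op U)) (n : N.obj (op U)),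
      gm M hx a = α ∧ gm N hx n = β := by
  obtain ⟨U, hx, a, rfl⟩ := exists_gm M α
  obtain ⟨V, hy, n, rfl⟩ := exists_gm N β
  exact ⟨U ⊓ V, ⟨hx, hy⟩, rs M (homOfLE inf_le_left).op a, rs N (homOfLE inf_le_right).op n,
    gm_res M _ _ a, gm_res N _ _ n⟩

/-- A pure tensor, as a section of `A ⊗ F`. -/
noncomputable def tm' {U : Opens X} (a : A.obj (op U)) (n : F.obj (op U)) :
    (A ⊗ F : Pres R).obj (op U) :=
  a ⊗ₜ[R.obj (op U)] n

lemma tm'_add_left {U : Opens X} (a a' : A.obj (op U)) (n : F.obj (op U)) :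
    tm' A F (a + a') n = tm' A F a n + tm' A F a' n := TensorProduct.add_tmul a a' n

lemma tm'_add_right {U : Opens X} (a : A.obj (op U)) (n n' : F.obj (op U)) :
    tm' A F a (n + n') = tm' A F a n + tm' A F a n' := TensorProduct.tmul_add a n n'

lemma tm'_smul {U : Opens X} (r : R.obj (op U)) (a : A.obj (op U)) (n : F.obj (op U)) :
    tm' A F (r • a) n = tm' A F a (r • n) := TensorProduct.smul_tmul r a n

lemma gm_tm'_res {U V : Opens X} (h : V ≤ U) {x : X} (hx : x ∈ V) (a : A.obj (op U))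
    (n : F.obj (op U)) :
    gm (A ⊗ F) hx (tm' A F (rs A (homOfLE h).op a) (rs F (homOfLE h).op n)) =
      gm (A ⊗ F) (h hx) (tm' A F a n) :=
  gm_res (A ⊗ F) h hx (tm' A F a n)

lemma gm_tm'_congr {U U' : Opens X} {x : X} (hx : x ∈ U) (hx' : x ∈ U') {a : A.obj (op U)}
    {a' : A.obj (op U')} {n : F.obj (op U)} {n' : F.obj (op U')} (h1 : gm A hx a = gm A hx' a')
    (h2 : gm F hx n = gm F hx' n') :
    gm (A ⊗ F) hx (tm' A F a n) = gm (A ⊗ F) hx' (tm' A F a' n') := by
  obtain ⟨W1, hW1, i1, j1, e1⟩ := gm_eq A hx hx' h1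
  obtain ⟨W2, hW2, i2, j2, e2⟩ := gm_eq F hx hx' h2
  have hW : x ∈ W1 ⊓ W2 := ⟨hW1, hW2⟩
  have e1' : rs A (homOfLE (inf_le_left.trans i1 : W1 ⊓ W2 ≤ U)).op a =
      rs A (homOfLE (inf_le_left.trans j1 : W1 ⊓ W2 ≤ U')).op a' :=
    (rs_comp A (homOfLE i1).op (homOfLE inf_le_left).op a).trans ((congrArg _ e1).trans
      (rs_comp A (homOfLE j1).op (homOfLE inf_le_left).op a').symm)
  have e2' : rs F (homOfLE (inf_le_left.trans i1 : W1 ⊓ W2 ≤ U)).op n =
      rs F (homOfLE (inf_le_left.trans j1 : W1 ⊓ W2 ≤ U')).op n' :=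
    (rs_comp F (homOfLE i2).op (homOfLE inf_le_right).op n).trans ((congrArg _ e2).trans
      (rs_comp F (homOfLE j2).op (homOfLE inf_le_right).op n').symm)
  rw [← gm_tm'_res A F (inf_le_left.trans i1) hW, ← gm_tm'_res A F (inf_le_left.trans j1) hW,
    e1', e2']

lemma exists_b {x : X} (α : st A x) (β : st F x) : ∃ γ : st (A ⊗ F : Pres R) x,
    ∀ (U : Opens X) (hx : x ∈ U) (a : A.obj (op U)) (n : F.obj (op U)),
      gm A hx a = α → gm F hx n = β → γ = gm (A ⊗ F) hx (tm' A F a n) := by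
  obtain ⟨U, hx, a, n, rfl, rfl⟩ := exists_pair A F α β
  exact ⟨_, fun U' hx' a' n' h1 h2 => gm_tm'_congr A F hx hx' h1.symm h2.symm⟩

/-- The value on a pair of germs. -/
noncomputable def b {x : X} (α : st A x) (β : st F x) : st (A ⊗ F : Pres R) x :=
  (exists_b A F α β).choose

lemma b_eq {U : Opens X} {x : X} (hx : x ∈ U) (a : A.obj (op U)) (n : F.obj (op U)) :
    b A F (gm A hx a) (gm F hx n) = gm (A ⊗ F) hx (tm' A F a n) :=
  (exists_b A F _ _).choose_spec U hx a n rfl rfl

lemma exists_triple (M N P : Pres R) {x : X} (α : st M x) (β : st N x) (γ : st P x) :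
    ∃ (U : Opens X) (hx : x ∈ U) (a : M.obj (op U)) (n : N.obj (op U)) (p : P.obj (op U)),
      gm M hx a = α ∧ gm N hx n = β ∧ gm P hx p = γ := by
  obtain ⟨U, hx, a, n, rfl, rfl⟩ := exists_pair M N α β
  obtain ⟨V, hy, p, rfl⟩ := exists_gm P γ
  exact ⟨U ⊓ V, ⟨hx, hy⟩, rs M (homOfLE inf_le_left).op a, rs N (homOfLE inf_le_left).op n,
    rs P (homOfLE inf_le_right).op p, gm_res M _ _ a, gm_res N _ _ n, gm_res P _ _ p⟩

lemma b_smul {x : X} (r : stR R x) (α : st A x) (β : st F x) :
    b A F (r • α) β = b A F α (r • β) := by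
  obtain ⟨U, hx, a, n, rfl, rfl⟩ := exists_pair A F α β
  obtain ⟨V, hy, r, rfl⟩ := R.exists_germ_eq r
  have hz : x ∈ U ⊓ V := ⟨hx, hy⟩
  rw [← gm_res A inf_le_left hz, ← gm_res F inf_le_left hz,
    ← TopCat.Presheaf.germ_res_apply R (homOfLE inf_le_right : U ⊓ V ⟶ V) x hz r,
    ← gm_smul, ← gm_smul, b_eq, b_eq, tm'_smul]

/-- The comparison map from the tensor product of stalks. -/
noncomputable def psi (x : X) : (st A x ⊗[stR R x] st F x) →+ st (A ⊗ F : Pres R) x :=
  TensorProduct.liftAddHom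
    (AddMonoidHom.mk' (fun α => AddMonoidHom.mk' (b A F α) (fun β β' => by
        obtain ⟨U, hx, a, n, n', rfl, rfl, rfl⟩ := exists_triple A F F α β β'
        rw [← map_add, b_eq, b_eq, b_eq, tm'_add_right, map_add]))
      (fun α α' => AddMonoidHom.ext fun β => by
        obtain ⟨U, hx, a, a', n, rfl, rfl, rfl⟩ := exists_triple A A F α α' β
        change b A F (gm A hx a + gm A hx a') (gm F hx n) = b A F _ _ + b A F _ _
        rw [← map_add, b_eq, b_eq, b_eq, tm'_add_left, map_add]))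
    (fun r α β => b_smul A F r α β)

lemma psi_tau {U : Opens X} {x : X} (hx : x ∈ U)
    (z : A.obj (op U) ⊗[R.obj (op U)] F.obj (op U)) :
    psi A F x (tau A F hx z) = gm (A ⊗ F) hx z := by
  induction z using TensorProduct.induction_on with
  | zero => exact (congrArg _ (map_zero _)).trans ((map_zero _).trans (map_zero (gm (A ⊗ F) hx)).symm)
  | tmul a n => exact b_eq A F hx a n
  | add z w hz hw =>
    exact (congrArg _ (map_add _ _ _)).trans ((map_add _ _ _).trans
      ((congrArg₂ (· + ·) hz hw).trans (map_add (gm (A ⊗ F) hx) z w).symm))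

lemma tau_res {U V : Opens X} (h : V ≤ U) {x : X} (hx : x ∈ V)
    (z : A.obj (op U) ⊗[R.obj (op U)] F.obj (op U)) :
    tau A F hx (rs (A ⊗ F) (homOfLE h).op z) = tau A F (h hx) z := by
  induction z using TensorProduct.induction_on with
  | zero => exact (congrArg _ (map_zero _)).trans ((map_zero _).trans (map_zero _).symm)
  | tmul a n => exact congrArg₂ (· ⊗ₜ ·) (gm_res A h hx a) (gm_res F h hx n)
  | add z w hz hw =>
    exact (congrArg _ (map_add _ _ _)).trans ((map_add _ _ _).trans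
      ((congrArg₂ (· + ·) hz hw).trans (map_add _ _ _).symm))

lemma exists_tau {x : X} (z : st A x ⊗[stR R x] st F x) :
    ∃ (U : Opens X) (hx : x ∈ U) (z₀ : A.obj (op U) ⊗[R.obj (op U)] F.obj (op U)),
      tau A F hx z₀ = z := by
  induction z using TensorProduct.induction_on with
  | zero => exact ⟨⊤, trivial, 0, map_zero _⟩
  | tmul α β =>
    obtain ⟨U, hx, a, n, rfl, rfl⟩ := exists_pair A F α β
    exact ⟨U, hx, a ⊗ₜ n, rfl⟩
  | add z w hz hw =>
    obtain ⟨U, hx, z₀, rfl⟩ := hz
    obtain ⟨V, hy, w₀, rfl⟩ := hw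
    exact ⟨U ⊓ V, ⟨hx, hy⟩, rs (A ⊗ F) (homOfLE inf_le_left).op z₀ +
      rs (A ⊗ F) (homOfLE inf_le_right).op w₀,
      (map_add _ _ _).trans (congrArg₂ (· + ·) (tau_res A F _ _ z₀) (tau_res A F _ _ w₀))⟩

lemma tau_whiskerRight {B : Pres R} (f : A ⟶ B) {U : Opens X} {x : X} (hx : x ∈ U)
    (z : A.obj (op U) ⊗[R.obj (op U)] F.obj (op U)) :
    tau B F hx ((f ▷ F).app (op U) z) = (stMap f x).rTensor (st F x) (tau A F hx z) := by
  induction z using TensorProduct.induction_on with
  | zero =>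
    exact (congrArg _ (map_zero ((f ▷ F).app (op U)).hom)).trans
      ((map_zero _).trans ((congrArg _ (map_zero _)).trans (map_zero _)).symm)
  | tmul a n => exact (congrArg (· ⊗ₜ gm F hx n) (stMap_gm f hx a).symm)
  | add z w hz hw =>
    exact (congrArg _ (map_add ((f ▷ F).app (op U)).hom z w)).trans ((map_add _ _ _).trans
      ((congrArg₂ (· + ·) hz hw).trans
        (((congrArg _ (map_add _ z w)).trans (map_add _ _ _)).symm)))

lemma stMap_injective {M N : Pres R} (f : M ⟶ N) (hf : ∀ U, Function.Injective (f.app U)) (x : X) :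
    Function.Injective (stMap f x) := by
  intro α β h
  obtain ⟨U, hx, a, a', rfl, rfl⟩ := exists_pair M M α β
  rw [stMap_gm, stMap_gm] at h
  obtain ⟨W, hW, i, j, e⟩ := gm_eq N hx hx h
  rw [← rs_app, ← rs_app] at e
  rw [← gm_res M i hW, ← gm_res M i hW]
  exact congrArg _ (hf _ e)

/-- Tensoring with a presheaf having flat stalks keeps monomorphisms locally injective. -/
lemma isLocallyInjective_whiskerRight_of_flat {A B : Pres R} (f : A ⟶ B)
    (hf : ∀ U, Function.Injective (f.app U)) (F : Pres R)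
    (hF : ∀ x, Module.Flat (stR R x) (st F x)) :
    Presheaf.IsLocallyInjective (Opens.grothendieckTopology X)
      ((PresheafOfModules.toPresheaf _).map (f ▷ F)) where
  equalizerSieve_mem {V} z w h := by
    obtain ⟨V⟩ := V
    revert z w
    intro (z : A.obj (op V) ⊗[R.obj (op V)] F.obj (op V))
      (w : A.obj (op V) ⊗[R.obj (op V)] F.obj (op V)) h x (hx : x ∈ V)
    have h' : tau A F hx z = tau A F hx w := by
      have := hF x
      apply Module.Flat.rTensor_preserves_injective_linearMap (stMap f x) (stMap_injective f hf x)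
      rw [← tau_whiskerRight, ← tau_whiskerRight]
      exact congrArg _ h
    obtain ⟨W, hW, i, j, e⟩ := gm_eq (A ⊗ F) hx hx
      ((psi_tau A F hx z).symm.trans ((congrArg _ h').trans (psi_tau A F hx w)))
    exact ⟨W, homOfLE i, e, hW⟩

variable {O : TopCat.Sheaf CommRingCat.{u} X}

lemma mono_sh_map_iff {A B : PM O} (f : A ⟶ B) :
    Mono ((sh O).map f) ↔ Presheaf.IsLocallyInjective (Opens.grothendieckTopology X) (pmap f) := by
  have : PreservesLimitsOfSize.{u, u} (SheafOfModules.toSheaf.{u} (ModSite.ringSh O)) :=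
    toSheaf_preservesLimits _
  have e : Mono ((sh O).map f) ↔
      Mono ((presheafToSheaf (Opens.grothendieckTopology X) AddCommGrpCat.{u}).map (pmap f)) :=
    ⟨fun _ => inferInstanceAs (Mono ((SheafOfModules.toSheaf.{u} (ModSite.ringSh O)).map ((sh O).map f))),
      fun h => (SheafOfModules.toSheaf.{u} (ModSite.ringSh O)).mono_of_mono_map h⟩
  rw [e, ← Presheaf.isLocallyInjective_presheafToSheaf_map_iff]
  constructor
  · intro h
    rw [Sheaf.isLocallyInjective_iff_injective]
    intro U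
    have : Mono ((sheafToPresheaf (Opens.grothendieckTopology X) AddCommGrpCat.{u}).map
      ((presheafToSheaf (Opens.grothendieckTopology X) AddCommGrpCat.{u}).map (pmap f))) := inferInstance
    exact (AddCommGrpCat.mono_iff_injective _).1 ((NatTrans.mono_iff_mono_app _).1 this U)
  · intro h
    exact Sheaf.mono_of_isLocallyInjective _

/-- Modules with flat stalks are flat. -/
lemma isFlat_of_flat_stalks (F : ModSite.Mod O)
    (hF : ∀ x, Module.Flat (stR O.obj x) (st (R := O.obj) ((fg O).obj F) x)) : ModSite.IsFlat F := by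
  refine isFlat_of_mono fun A B g _ => ?_
  have : Mono ((forgetPM O).map g) :=
    have : PreservesLimitsOfSize.{u, u} (forgetPM O) := (adjn O).rightAdjoint_preservesLimits
    inferInstance
  have hg : Mono ((fg O).map g) := this
  have h2 : Mono ((sh O).map ((fg O).map g ▷ (fg O).obj F)) :=
    (mono_sh_map_iff _).2 (isLocallyInjective_whiskerRight_of_flat _
      (fun U => PresheafOfModules.injective_of_mono ((fg O).map g) U) _ hF)
  exact h2

end Groth.Agent.ModGroth.Stalk
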