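import Groth.Agent.ModGroth.KFlatScheme
import Groth.Prelude.Def_DerSch
import Mathlib.CategoryTheory.Adjunction.Unique

/-!
# Stalks of sheaves of modules on a scheme: skyscrapers, tensor products
-/

universe u

open CategoryTheory CategoryTheory.Limits Opposite MonoidalCategory TopologicalSpace AlgebraicGeometry
open scoped TensorProduct

namespace Groth.Agent.ModGroth.Stalk

section Pre

variable {X : TopCat.{u}} {R : X.Presheaf CommRingCat.{u}}

lemma bijective_psi (A F : Pres R) (x : X) : Function.Bijective (psi A F x) := by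
  refine ⟨(injective_iff_map_eq_zero _).2 fun z hz => ?_, fun γ => ?_⟩
  · obtain ⟨U, hx, z₀, rfl⟩ := exists_tau A F z
    rw [psi_tau] at hz
    obtain ⟨W, hW, i, j, e⟩ := gm_eq (A ⊗ F) hx hx (hz.trans (map_zero (gm (A ⊗ F) hx)).symm)
    have e' : rs (A ⊗ F) (homOfLE i).op z₀ = 0 := e.trans (map_zero _)
    rw [← tau_res A F i hW z₀]
    exact (congrArg _ e').trans (map_zero _)
  · obtain ⟨U, hx, c, rfl⟩ := exists_gm (A ⊗ F) γ
    exact ⟨tau A F hx c, psi_tau A F hx c⟩

lemma psi_smul (A F : Pres R) (x : X) (r : stR R x) (z : st A x ⊗[stR R x] st F x) :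
    psi A F x (r • z) = r • psi A F x z := by
  induction z using TensorProduct.induction_on with
  | zero => rw [smul_zero, map_zero, smul_zero]
  | add z w hz hw => rw [smul_add, map_add, hz, hw, map_add, smul_add]
  | tmul α β =>
    obtain ⟨U, hx, a, n, rfl, rfl⟩ := exists_pair A F α β
    obtain ⟨V, hy, r, rfl⟩ := R.exists_germ_eq r
    have hm : x ∈ U ⊓ V := ⟨hx, hy⟩
    rw [TensorProduct.smul_tmul', ← gm_res A inf_le_left hm, ← gm_res F inf_le_left hm,
      ← TopCat.Presheaf.germ_res_apply R (homOfLE inf_le_right : U ⊓ V ⟶ V) x hm r, ← gm_smul]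
    change b A F _ _ = _ • b A F _ _
    rw [b_eq, b_eq, ← gm_smul]
    exact congrArg _ (TensorProduct.smul_tmul' _ _ _).symm

lemma stMap_bijective_of_locallyBijective {M N : Pres R} (f : M ⟶ N)
    (hi : Presheaf.IsLocallyInjective (Opens.grothendieckTopology X) ((PresheafOfModules.toPresheaf _).map f))
    (hs : Presheaf.IsLocallySurjective (Opens.grothendieckTopology X) ((PresheafOfModules.toPresheaf _).map f))
    (x : X) : Function.Bijective (stMap f x) := by
  refine ⟨fun α β h => ?_, fun β => ?_⟩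
  · obtain ⟨U, hx, a, a', rfl, rfl⟩ := exists_pair M M α β
    rw [stMap_gm, stMap_gm] at h
    obtain ⟨W, hW, i, j, e⟩ := gm_eq N hx hx h
    rw [← rs_app, ← rs_app] at e
    obtain ⟨V, g, hg, hxV⟩ := Presheaf.equalizerSieve_mem (Opens.grothendieckTopology X)
      ((PresheafOfModules.toPresheaf _).map f) _ _ e x hW
    rw [← gm_res M i hW, ← gm_res M i hW, ← gm_res M g.le hxV, ← gm_res M g.le hxV]
    exact congrArg _ hg
  · obtain ⟨U, hx, s, rfl⟩ := exists_gm N β
    obtain ⟨V, g, ⟨m, hm⟩, hxV⟩ := Presheaf.imageSieve_mem (Opens.grothendieckTopology X)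
      ((PresheafOfModules.toPresheaf _).map f) s x hx
    exact ⟨gm M hxV (m : M.obj (op V)), (stMap_gm f hxV m).trans
      ((congrArg (gm N hxV) hm).trans (gm_res N g.le hxV s))⟩

lemma stMap_comp {M N P : Pres R} (f : M ⟶ N) (g : N ⟶ P) (x : X) (α : st M x) :
    stMap (f ≫ g) x α = stMap g x (stMap f x α) := by
  obtain ⟨U, hx, m, rfl⟩ := exists_gm M α
  rw [stMap_gm, stMap_gm, stMap_gm]
  rfl

lemma psi_natural {A A' F F' : Pres R} (a : A ⟶ A') (f : F ⟶ F') (x : X) (α : st A x) (β : st F x) :
    stMap (MonoidalCategory.tensorHom a f) x (psi A F x (α ⊗ₜ β)) =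
      psi A' F' x (stMap a x α ⊗ₜ stMap f x β) := by
  obtain ⟨U, hx, m, n, rfl, rfl⟩ := exists_pair A F α β
  rw [stMap_gm, stMap_gm]
  change stMap _ x (b A F _ _) = b A' F' _ _
  rw [b_eq, b_eq, stMap_gm]
  rfl

/-- `psi` followed by a map out of the tensor product, linearly. -/
noncomputable def psiLin {A F P : Pres R} (f : (A ⊗ F : Pres R) ⟶ P) (x : X) :
    (st A x ⊗[stR R x] st F x) →ₗ[stR R x] st P x where
  toFun z := stMap f x (psi A F x z)
  map_add' z w := (congrArg _ (map_add (psi A F x) z w)).trans (map_add _ _ _)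
  map_smul' r z := (congrArg _ (psi_smul A F x r z)).trans (map_smul _ _ _)

lemma psiLin_gm {A F P : Pres R} (f : (A ⊗ F : Pres R) ⟶ P) {U : Opens X} {x : X} (hx : x ∈ U)
    (a : A.obj (op U)) (n : F.obj (op U)) :
    psiLin f x (gm A hx a ⊗ₜ gm F hx n) = gm P hx (f.app (op U) (tm' A F a n)) :=
  (congrArg (stMap f x) (b_eq A F hx a n)).trans (stMap_gm f hx _)

variable (x : X)

/-- Germs, as a map to the skyscraper. -/
noncomputable def unitApp (M : Pres R) : M ⟶ sky x (ModuleCat.of (stR R x) (st M x)) where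
  app U := ModuleCat.ofHom (R := R.obj U) (X := M.obj U) (Y := SkyObj x (ModuleCat.of (stR R x) (st M x)) U)
    { toFun := fun m h => gm M h.down m
      map_add' := fun m n => funext fun h => map_add _ m n
      map_smul' := fun r m => funext fun h => gm_smul M h.down r m }
  naturality {U V} g := ModuleCat.hom_ext (LinearMap.ext fun m => funext fun h =>
    gm_res M g.unop.le h.down m)

lemma unitApp_natural {M N : Pres R} (f : M ⟶ N) :
    f ≫ unitApp x N = unitApp x M ≫ skyMap x (ModuleCat.ofHom (stMap f x)) :=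
  PresheafOfModules.hom_ext fun U => ModuleCat.hom_ext (LinearMap.ext fun m => funext fun h =>
    (stMap_gm f h.down m).symm)

lemma evEquiv_unitApp (M : Pres R) (α : st M x) :
    evEquiv x (ModuleCat.of (stR R x) (st M x)) (stMap (unitApp x M) x α) = α := by
  obtain ⟨U, hx, m, rfl⟩ := exists_gm M α
  rw [stMap_gm]
  exact ev_gm x _ hx _

lemma unitApp_sky (N : ModuleCat.{u} (stR R x)) :
    unitApp x (sky x N) ≫ skyMap x (ModuleCat.ofHom (evEquiv x N).toLinearMap) = 𝟙 _ :=
  PresheafOfModules.hom_ext fun U => ModuleCat.hom_ext (LinearMap.ext fun s => funext fun h =>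
    ev_gm x N h.down s)

end Pre

section Scheme

variable {X : Scheme.{u}} (x : X)

/-- Presheaves of modules on a scheme. -/
noncomputable abbrev toPres : X.Modules ⥤ Pres X.presheaf := fg (X.sheaf)

lemma stalkFunctor_map_eq {M N : X.Modules} (φ : M ⟶ N) (α : st (toPres.obj M) x) :
    (DerSch.stalkFunctor X x).map φ α = stMap (toPres.map φ) x α := by
  obtain ⟨U, hx, m, rfl⟩ := exists_gm (toPres.obj M) α
  rw [stMap_gm]
  exact DerSch.stalkFunctor_map_germ x φ U hx m

/-- Skyscraper sheaves of modules. -/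
noncomputable def skyF : ModuleCat.{u} (X.presheaf.stalk x) ⥤ X.Modules where
  obj N := ⟨sky (R := X.presheaf) x N, sky_isSheaf (R := X.presheaf) x N⟩
  map f := ⟨skyMap (R := X.presheaf) x f⟩
  map_id N := rfl
  map_comp f g := rfl

/-- The counit: evaluation. -/
noncomputable def skyCounit : skyF x ⋙ DerSch.stalkFunctor X x ⟶ 𝟭 _ where
  app N := ModuleCat.ofHom (X := ((skyF x).obj N).presheaf.stalk x) (Y := N)
    (evEquiv (R := X.presheaf) x N).toLinearMap
  naturality N N' f := ModuleCat.hom_ext (LinearMap.ext fun α => by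
    refine (congrArg (evEquiv (R := X.presheaf) x N') (stalkFunctor_map_eq x ((skyF x).map f) α)).trans ?_
    exact evEquiv_stMap (R := X.presheaf) x f α)

lemma stalkFunctor_map_ofHom {M N : X.Modules} (φ : M ⟶ N) :
    (DerSch.stalkFunctor X x).map φ = ModuleCat.ofHom (stMap (toPres.map φ) x) :=
  ModuleCat.hom_ext (LinearMap.ext (stalkFunctor_map_eq x φ))

/-- The unit: germs. -/
noncomputable def skyUnit : 𝟭 X.Modules ⟶ DerSch.stalkFunctor X x ⋙ skyF x where
  app M := ⟨unitApp (R := X.presheaf) x (toPres.obj M)⟩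
  naturality M N φ := SheafOfModules.Hom.ext (by
    refine (unitApp_natural (R := X.presheaf) x (toPres.map φ)).trans ?_
    exact congrArg (fun t => unitApp (R := X.presheaf) x (toPres.obj M) ≫ skyMap (R := X.presheaf) x t)
      (stalkFunctor_map_ofHom x φ).symm)

lemma left_triangle_app (M : X.Modules) :
    (DerSch.stalkFunctor X x).map ((skyUnit x).app M) ≫ (skyCounit x).app ((DerSch.stalkFunctor X x).obj M) =
      𝟙 _ := by
  rw [stalkFunctor_map_ofHom]
  exact ModuleCat.hom_ext (LinearMap.ext (evEquiv_unitApp (R := X.presheaf) x (toPres.obj M)))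

lemma right_triangle_app (N : ModuleCat.{u} (X.presheaf.stalk x)) :
    (skyUnit x).app ((skyF x).obj N) ≫ (skyF x).map ((skyCounit x).app N) = 𝟙 _ :=
  SheafOfModules.Hom.ext (unitApp_sky (R := X.presheaf) x N)

/-- Stalks are left adjoint to skyscrapers. -/
noncomputable def stalkAdj : DerSch.stalkFunctor X x ⊣ skyF x where
  unit := skyUnit x
  counit := skyCounit x
  left_triangle_components := left_triangle_app x
  right_triangle_components := right_triangle_app x

/-- The comparison `M_x ⊗ N_x ⟶ (M ⊗ N)_x`. -/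
noncomputable def tensorComparison (M N : X.Modules) :
    (DerSch.stalkFunctor X x).obj M ⊗ (DerSch.stalkFunctor X x).obj N ⟶
      (DerSch.stalkFunctor X x).obj (((DCoh.tensorBi (X := X)).obj M).obj N) :=
  ModuleCat.ofHom
    (X := st (toPres.obj M) x ⊗[stR X.presheaf x] st (toPres.obj N) x)
    (Y := st (toPres.obj (((DCoh.tensorBi (X := X)).obj M).obj N)) x)
    (psiLin (R := X.presheaf) (eta (O := X.sheaf) (toPres.obj M ⊗ toPres.obj N)) x)

lemma bijective_tensorComparison (M N : X.Modules) :
    Function.Bijective (tensorComparison x M N) := by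
  obtain ⟨hi, hs⟩ := (isLocallyBijective_pmap_iff (eta (O := X.sheaf) (toPres.obj M ⊗ toPres.obj N))).1
    (isIso_sheafify_eta (O := X.sheaf) _)
  exact (stMap_bijective_of_locallyBijective _ hi hs x).comp (bijective_psi _ _ x)

end Scheme

end Groth.Agent.ModGroth.Stalk
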