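import Groth.Agent.ModGroth.Tensor
import Mathlib.Algebra.Category.ModuleCat.Presheaf.Generator
import Mathlib.Algebra.Category.ModuleCat.Presheaf.EpiMono
import Mathlib.Algebra.Homology.ShortComplex.ShortExact
import Mathlib.Algebra.Homology.ShortComplex.PreservesHomology
import Mathlib.CategoryTheory.Abelian.GrothendieckCategory.Basic
import Mathlib.RingTheory.Flat.Basic

/-!
# Flat sheaves of modules on a ringed site
-/

universe u v w v' w'

open CategoryTheory Limits Opposite MonoidalCategory
open scoped TensorProduct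

namespace Groth.Agent.ModGroth

/-- A right exact functor between abelian categories that preserves monomorphisms is left exact. -/
lemma preservesFiniteLimits_of_mono {A : Type w} [Category.{v} A] [Abelian A] {B : Type w'}
    [Category.{v'} B] [Abelian B] (F : A ⥤ B) [PreservesFiniteColimits F]
    (h : ∀ ⦃X Y : A⦄ (g : X ⟶ Y), Mono g → Mono (F.map g)) : PreservesFiniteLimits F :=
  have : F.PreservesZeroMorphisms := Functor.preservesZeroMorphisms_of_preserves_initial_object
  have := preservesBinaryBiproducts_of_preservesBinaryCoproducts F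
  have : F.Additive := Functor.additive_of_preservesBinaryBiproducts F
  have : F.PreservesMonomorphisms := ⟨fun g hg => h g hg⟩
  have := Functor.preservesHomology_of_preservesMonos_and_cokernels F
  F.preservesFiniteLimits_of_preservesHomology

lemma mono_map_of_iso {A : Type w} [Category.{v} A] {B : Type w'} [Category.{v'} B] {F G : A ⥤ B}
    (e : F ≅ G) {X Y : A} (g : X ⟶ Y) [Mono (F.map g)] : Mono (G.map g) :=
  (show G.map g = e.inv.app X ≫ F.map g ≫ e.hom.app Y by
    rw [e.hom.naturality, Iso.inv_hom_id_app_assoc]) ▸ inferInstance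

section Presheaf

variable {C : Type u} [SmallCategory C] {O : Cᵒᵖ ⥤ CommRingCat.{u}}

/-- Tensoring presheaves of modules with a presheaf having flat sections preserves monomorphisms. -/
lemma mono_whiskerRight_of_flat (F : PresheafOfModules.{u} (O ⋙ forget₂ CommRingCat.{u} RingCat.{u}))
    (hF : ∀ X : Cᵒᵖ, Module.Flat (O.obj X) (F.obj X))
    {A B : PresheafOfModules.{u} (O ⋙ forget₂ CommRingCat.{u} RingCat.{u})} (g : A ⟶ B) [Mono g] :
    Mono (g ▷ F) :=
  PresheafOfModules.mono_of_injective fun X =>
    @Module.Flat.rTensor_preserves_injective_linearMap (O.obj X) (F.obj X) _ _ _ _ _ _ _ _ _ (hF X)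
      (g.app X).hom (PresheafOfModules.injective_of_mono g X)

lemma presheaf_tensorRight_exact_of_flat
    (F : PresheafOfModules.{u} (O ⋙ forget₂ CommRingCat.{u} RingCat.{u}))
    (hF : ∀ X : Cᵒᵖ, Module.Flat (O.obj X) (F.obj X)) :
    PreservesFiniteLimits (tensorRight F) ∧ PreservesFiniteColimits (tensorRight F) :=
  have : PreservesFiniteColimits (tensorRight F) :=
    PreservesColimitsOfSize.preservesFiniteColimits _
  ⟨preservesFiniteLimits_of_mono _ fun _ _ g hg => mono_whiskerRight_of_flat F hF g, this⟩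

lemma flat_freeYoneda (U : C) (X : Cᵒᵖ) :
    Module.Flat (O.obj X) (((PresheafOfModules.free (O ⋙ forget₂ CommRingCat.{u} RingCat.{u})).obj
      (yoneda.obj U)).obj X) :=
  inferInstanceAs (Module.Flat (O.obj X) ((X.unop ⟶ U) →₀ O.obj X))

end Presheaf

variable {C : Type u} [SmallCategory C] {J : GrothendieckTopology C} {O : Sheaf J CommRingCat.{u}}

/-- The underlying presheaf of modules. -/
noncomputable abbrev fg (O : Sheaf J CommRingCat.{u}) : ModSite.Mod O ⥤ PM O :=
  SheafOfModules.forget (ModSite.ringSh O)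

/-- The unit of sheafification, with target `fg`. -/
noncomputable def eta' (P : PM O) : P ⟶ (fg O).obj ((sh O).obj P) := eta P

lemma eta'_naturality {P Q : PM O} (g : P ⟶ Q) :
    g ≫ eta' Q = eta' P ≫ (fg O).map ((sh O).map g) :=
  (adjn O).unit.naturality g

lemma isIso_sh_whiskerLeft_eta' (P M : PM O) : IsIso ((sh O).map (M ◁ eta' P)) :=
  isIso_sheafify_whiskerLeft (eta P) M

lemma isIso_sh_whiskerRight_eta' (P M : PM O) : IsIso ((sh O).map (eta' P ▷ M)) :=
  isIso_sheafify_whiskerRight (eta P) M

/-- `- ⊗ F`. -/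
noncomputable abbrev tR (F : ModSite.Mod O) : ModSite.Mod O ⥤ ModSite.Mod O :=
  (ModSite.tensorBi O).flip.obj F

/-- `A ⊗ -`. -/
noncomputable abbrev tL (A : ModSite.Mod O) : ModSite.Mod O ⥤ ModSite.Mod O :=
  (ModSite.tensorBi O).obj A

/-- The tensor product is symmetric. -/
noncomputable def tensorSymm (F : ModSite.Mod O) : tL F ≅ tR F :=
  NatIso.ofComponents (fun G => (sh O).mapIso
    (β_ ((fg O).obj F) ((fg O).obj G))) fun {G G'} g => by
    exact ((sh O).map_comp _ _).symm.trans ((congrArg (sh O).map
      (BraidedCategory.braiding_naturality_right ((fg O).obj F) ((fg O).map g))).trans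
      ((sh O).map_comp _ _))

lemma tL_preservesColimits (A : ModSite.Mod O) : PreservesColimitsOfSize.{u, u} (tL A) :=
  have := tensor_flip_preservesColimits A
  preservesColimits_of_natIso (tensorSymm A).symm

lemma tR_preservesFiniteColimits (F : ModSite.Mod O) : PreservesFiniteColimits (tR F) :=
  have := tensor_flip_preservesColimits F
  PreservesColimitsOfSize.preservesFiniteColimits _

/-- Flatness is preservation of monomorphisms. -/
lemma isFlat_of_mono {F : ModSite.Mod O}
    (h : ∀ ⦃A B : ModSite.Mod O⦄ (g : A ⟶ B), Mono g → Mono ((tR F).map g)) : ModSite.IsFlat F :=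
  have := tR_preservesFiniteColimits F
  ⟨preservesFiniteLimits_of_mono _ h, this⟩

lemma mono_tR_map {F : ModSite.Mod O} (hF : ModSite.IsFlat F) {A B : ModSite.Mod O} (g : A ⟶ B)
    [Mono g] : Mono ((tR F).map g) :=
  have := hF.1
  inferInstance

lemma mono_tL_map {F : ModSite.Mod O} (hF : ModSite.IsFlat F) {A B : ModSite.Mod O} (g : A ⟶ B)
    [Mono g] : Mono ((tL F).map g) :=
  have := mono_tR_map hF g
  mono_map_of_iso (tensorSymm F).symm g

lemma isFlat_of_iso {F G : ModSite.Mod O} (e : F ≅ G) (hF : ModSite.IsFlat F) : ModSite.IsFlat G :=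
  ⟨haveI := hF.1; preservesFiniteLimits_of_natIso ((ModSite.tensorBi O).flip.mapIso e),
    haveI := hF.2; preservesFiniteColimits_of_natIso ((ModSite.tensorBi O).flip.mapIso e)⟩

/-- A colimit of flat modules is flat when colimits of that shape are exact. -/
lemma isFlat_of_isColimit {K : Type u} [SmallCategory K] [HasExactColimitsOfShape K (ModSite.Mod O)]
    (D : K ⥤ ModSite.Mod O) (hD : ∀ k, ModSite.IsFlat (D.obj k)) (c : Cocone D)
    (hc : IsColimit c) : ModSite.IsFlat c.pt := by
  refine isFlat_of_mono fun A B g hg => ?_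
  have := tL_preservesColimits A
  have := tL_preservesColimits B
  let φ : D ⋙ tL A ⟶ D ⋙ tL B := Functor.whiskerLeft D ((ModSite.tensorBi O).map g)
  have : Mono φ :=
    have : ∀ k, Mono (φ.app k) := fun k => mono_tR_map (hD k) g
    NatTrans.mono_of_mono_app φ
  exact colim.map_mono' φ (isColimitOfPreserves (tL A) hc) (isColimitOfPreserves (tL B) hc)
    ((tR c.pt).map g) fun k => ((ModSite.tensorBi O).map g).naturality _

lemma isFlat_of_isColimit_filtered {K : Type u} [SmallCategory K] [IsFiltered K]
    (D : K ⥤ ModSite.Mod O) (hD : ∀ k, ModSite.IsFlat (D.obj k)) (c : Cocone D)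
    (hc : IsColimit c) : ModSite.IsFlat c.pt :=
  have := sheaf_hasExactColimitsOfShape (ModSite.ringSh O) K
  isFlat_of_isColimit D hD c hc

lemma isFlat_of_isColimit_cofan {ι : Type u} (F : ι → ModSite.Mod O)
    (hF : ∀ i, ModSite.IsFlat (F i)) (c : Cofan F) (hc : IsColimit c) : ModSite.IsFlat c.pt :=
  have := sheaf_isGrothendieckAbelian (ModSite.ringSh O)
  have : AB4OfSize.{u} (ModSite.Mod O) := inferInstance
  have := this.ofShape ι
  isFlat_of_isColimit _ (fun ⟨i⟩ => hF i) c hc

lemma isFlat_sigma {ι : Type u} (F : ι → ModSite.Mod O) (hF : ∀ i, ModSite.IsFlat (F i)) :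
    ModSite.IsFlat (∐ F) :=
  isFlat_of_isColimit_cofan F hF _ (coproductIsCoproduct F)

/-- Tensoring with an associated sheaf. -/
noncomputable def tRsh (P : PM O) : fg O ⋙ tensorRight P ⋙ sh O ≅ tR ((sh O).obj P) :=
  NatIso.ofComponents (fun A => @asIso _ _ _ _ ((sh O).map ((fg O).obj A ◁ eta' P))
    (isIso_sh_whiskerLeft_eta' P _)) fun {A B} g =>
      ((sh O).map_comp _ _).symm.trans ((congrArg (sh O).map
        (whisker_exchange ((fg O).map g) (eta' P)).symm).trans ((sh O).map_comp _ _))

/-- The sheaf associated with a presheaf having flat sections is flat. -/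
lemma isFlat_sh (P : PM O) (hP : ∀ X : Cᵒᵖ, Module.Flat (O.obj.obj X) (P.obj X)) :
    ModSite.IsFlat ((sh O).obj P) := by
  refine isFlat_of_mono fun A B g hg => ?_
  have : Mono ((fg O).map g) := by
    have : PreservesLimitsOfSize.{u, u} (forgetPM O) := (adjn O).rightAdjoint_preservesLimits
    have : Mono ((forgetPM O).map g) := inferInstance
    exact this
  have : PreservesFiniteLimits (sh O) :=
    inferInstanceAs (PreservesFiniteLimits
      (PresheafOfModules.sheafification.{u} (𝟙 (ModSite.ringSh O).obj)))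
  have := mono_whiskerRight_of_flat P hP ((fg O).map g)
  have h2 : Mono ((fg O ⋙ tensorRight P ⋙ sh O).map g) :=
    inferInstanceAs (Mono ((sh O).map ((fg O).map g ▷ P)))
  exact mono_map_of_iso (tRsh P) g

/-- The free module on an object, as a sheafification. -/
noncomputable abbrev freeSheaf (O : Sheaf J CommRingCat.{u}) (U : C) : ModSite.Mod O :=
  (sh O).obj ((PresheafOfModules.free (O.obj ⋙ forget₂ CommRingCat.{u} RingCat.{u})).obj
    (yoneda.obj U))

lemma isFlat_freeSheaf (U : C) : ModSite.IsFlat (freeSheaf O U) :=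
  isFlat_sh _ (flat_freeYoneda U)

/-- Every module is a quotient of a flat one. -/
lemma exists_flat_epi (F : ModSite.Mod O) :
    ∃ (G : ModSite.Mod O) (π : G ⟶ F), ModSite.IsFlat G ∧ Epi π := by
  let P : PM O := (fg O).obj F
  have : IsIso (adjn O).counit :=
    inferInstanceAs (IsIso (PresheafOfModules.sheafificationAdjunction
      (𝟙 (ModSite.ringSh O).obj)).counit)
  have : PreservesColimitsOfSize.{u, u} (sh O) := (adjn O).leftAdjoint_preservesColimits
  let P' : PM O := P.freeYonedaCoproduct
  let q : P' ⟶ P := P.fromFreeYonedaCoproduct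
  have : Epi q := inferInstanceAs (Epi P.fromFreeYonedaCoproduct)
  have : Epi ((sh O).map q) := inferInstance
  have hi : IsIso ((adjn O).counit.app F) := inferInstance
  refine ⟨(sh O).obj P', (sh O).map q ≫ (adjn O).counit.app F, ?_,
    @epi_comp _ _ _ _ _ _ _ _ (@IsIso.epi_of_iso _ _ _ _ _ hi)⟩
  exact isFlat_of_iso (PreservesCoproduct.iso (sh O) _).symm
    (isFlat_sigma _ fun m => isFlat_freeSheaf m.1.unop)

/-- The tensor product is associative. -/
noncomputable def tensorAssoc (G F : ModSite.Mod O) :
    tR (((ModSite.tensorBi O).obj G).obj F) ≅ tR G ⋙ tR F :=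
  let G' := (fg O).obj G
  let F' := (fg O).obj F
  let τ : (fg O ⋙ tensorRight G') ⋙ (tensorRight F' ⋙ sh O) ⟶ tR G ⋙ tR F :=
    { app := fun A => (sh O).map (eta' ((fg O).obj A ⊗ G') ▷ F')
      naturality := fun {A B} g =>
        ((sh O).map_comp _ _).symm.trans ((congrArg (sh O).map
          (((tensorRight F').map_comp ((fg O).map g ▷ G') (eta' _)).symm.trans
            ((congrArg (tensorRight F').map (eta'_naturality ((fg O).map g ▷ G'))).trans
              ((tensorRight F').map_comp _ _)))).trans ((sh O).map_comp _ _)) }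
  haveI hτ : ∀ A, IsIso (τ.app A) := fun A =>
    isIso_sh_whiskerRight_eta' ((fg O).obj A ⊗ G') F'
  haveI : IsIso τ := NatIso.isIso_of_isIso_app τ
  (tRsh (G' ⊗ F')).symm ≪≫
    (NatIso.ofComponents (F := fg O ⋙ tensorRight (G' ⊗ F') ⋙ sh O)
      (G := (fg O ⋙ tensorRight G') ⋙ (tensorRight F' ⋙ sh O))
      (fun A => (sh O).mapIso (α_ ((fg O).obj A) G' F').symm) fun {A B} g =>
      ((sh O).map_comp _ _).symm.trans ((congrArg (sh O).map
        (associator_inv_naturality_left ((fg O).map g) G' F')).trans ((sh O).map_comp _ _))) ≪≫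
    asIso τ

/-- Tensor products of flat modules are flat. -/
lemma isFlat_tensor {G F : ModSite.Mod O} (hG : ModSite.IsFlat G) (hF : ModSite.IsFlat F) :
    ModSite.IsFlat (((ModSite.tensorBi O).obj G).obj F) :=
  isFlat_of_mono fun _ _ g _ =>
    have := mono_tR_map hG g
    have : Mono ((tR G ⋙ tR F).map g) := mono_tR_map hF ((tR G).map g)
    mono_map_of_iso (tensorAssoc G F).symm g

end Groth.Agent.ModGroth
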