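import Groth.Prelude.Def_ModSite2
import Groth.Agent.ModGroth.Flat
import Groth.Agent.ModGroth.Functors
import Groth.Agent.ModGroth.FreeOn
import Mathlib.RingTheory.Flat.EquationalCriterion
import Mathlib.LinearAlgebra.TensorProduct.Vanishing
import Mathlib.CategoryTheory.Sites.Point.Conservative

/-!
# Stalks and flatness of sheaves of modules on a ringed site
-/

universe u

open CategoryTheory CategoryTheory.Limits Opposite MonoidalCategory
open scoped TensorProduct

namespace Groth.Agent.ModGroth.SiteStalk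

variable {C : Type u} [SmallCategory C] {J : GrothendieckTopology C} {O : Sheaf J CommRingCat.{u}}
variable (p : GrothendieckTopology.Point.{u} J)

/-- Germs of sections of a module. -/
noncomputable def gm (F : ModSite.Mod O) (X : C) (x : p.fiber.obj X) :
    ((fg O).obj F).obj (op X) →+ ModSite.stalkAb p F :=
  (p.toPresheafFiber X x (ModSite.toAb F).obj).hom

/-- Germs of functions. -/
noncomputable def gR (X : C) (x : p.fiber.obj X) : O.obj.obj (op X) →+* ModSite.stalkRing p O :=
  (p.toPresheafFiber X x O.obj).hom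

lemma gm_smul (F : ModSite.Mod O) (X : C) (x : p.fiber.obj X) (r : O.obj.obj (op X))
    (s : ((fg O).obj F).obj (op X)) : gm p F X x (r • s) = gR p X x r • gm p F X x s :=
  ModSite.germ_smul p F X x r s

lemma gm_res (F : ModSite.Mod O) {X Y : C} (h : Y ⟶ X) (y : p.fiber.obj Y)
    (s : ((fg O).obj F).obj (op X)) :
    gm p F Y y (res ((fg O).obj F) h.op s) = gm p F X (p.fiber.map h y) s :=
  p.toPresheafFiber_w_apply h y (ModSite.toAb F).obj s

lemma gR_res {X Y : C} (h : Y ⟶ X) (y : p.fiber.obj Y) (r : O.obj.obj (op X)) :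
    gR p Y y ((O.obj.map h.op).hom r) = gR p X (p.fiber.map h y) r :=
  p.toPresheafFiber_w_apply h y O.obj r

lemma exists_gm (F : ModSite.Mod O) (m : ModSite.stalkAb p F) :
    ∃ (X : C) (x : p.fiber.obj X) (s : ((fg O).obj F).obj (op X)), gm p F X x s = m :=
  p.toPresheafFiber_jointly_surjective (P := (ModSite.toAb F).obj) m

lemma exists_gR (r : ModSite.stalkRing p O) :
    ∃ (X : C) (x : p.fiber.obj X) (s : O.obj.obj (op X)), gR p X x s = r :=
  p.toPresheafFiber_jointly_surjective (P := O.obj) r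

lemma gm_eq_zero (F : ModSite.Mod O) {X : C} (x : p.fiber.obj X) (s : ((fg O).obj F).obj (op X))
    (h : gm p F X x s = 0) :
    ∃ (Y : C) (f : Y ⟶ X) (y : p.fiber.obj Y), p.fiber.map f y = x ∧ res ((fg O).obj F) f.op s = 0 := by
  have h' : p.toPresheafFiber X x (ModSite.toAb F).obj s = p.toPresheafFiber X x (ModSite.toAb F).obj (0 : ((fg O).obj F).obj (op X)) :=
    h.trans (map_zero (gm p F X x)).symm
  obtain ⟨Y, f, y, hy, e⟩ := (p.toPresheafFiber_eq_iff' X x _ _).1 h'
  exact ⟨Y, f, y, hy, e.trans (map_zero (res ((fg O).obj F) f.op))⟩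

lemma gR_eq_zero {X : C} (x : p.fiber.obj X) (s : O.obj.obj (op X)) (h : gR p X x s = 0) :
    ∃ (Y : C) (f : Y ⟶ X) (y : p.fiber.obj Y), p.fiber.map f y = x ∧ (O.obj.map f.op).hom s = 0 := by
  have h' : p.toPresheafFiber X x O.obj s = p.toPresheafFiber X x O.obj (0 : O.obj.obj (op X)) :=
    h.trans (map_zero (gR p X x)).symm
  obtain ⟨Y, f, y, hy, e⟩ := (p.toPresheafFiber_eq_iff' X x _ _).1 h'
  exact ⟨Y, f, y, hy, e.trans (map_zero (O.obj.map f.op).hom)⟩

/-- Two neighbourhoods have a common refinement. -/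
lemma exists_min {X Y : C} (x : p.fiber.obj X) (y : p.fiber.obj Y) :
    ∃ (Z : C) (f : Z ⟶ X) (g : Z ⟶ Y) (z : p.fiber.obj Z), p.fiber.map f z = x ∧ p.fiber.map g z = y := by
  let f := IsCofiltered.minToLeft (Functor.elementsMk p.fiber X x) (Functor.elementsMk p.fiber Y y)
  let g := IsCofiltered.minToRight (Functor.elementsMk p.fiber X x) (Functor.elementsMk p.fiber Y y)
  exact ⟨_, f.1, g.1, _, f.2, g.2⟩

lemma exists_gm_fin (F : ModSite.Mod O) : ∀ {n : ℕ} (m : Fin n → ModSite.stalkAb p F) (X : C)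
    (x : p.fiber.obj X), ∃ (Y : C) (f : Y ⟶ X) (y : p.fiber.obj Y)
      (s : Fin n → ((fg O).obj F).obj (op Y)), p.fiber.map f y = x ∧ ∀ i, gm p F Y y (s i) = m i := by
  intro n
  induction n with
  | zero => intro m X x; exact ⟨X, 𝟙 X, x, fun i => i.elim0, by simp, fun i => i.elim0⟩
  | succ n ih =>
    intro m X x
    obtain ⟨X', x', s', hs'⟩ := exists_gm p F (m 0)
    obtain ⟨Z, f, g, z, hf, hg⟩ := exists_min p x x'
    obtain ⟨Y, h, y, s, hy, hs⟩ := ih (fun i => m i.succ) Z z
    refine ⟨Y, h ≫ f, y, Fin.cons (res ((fg O).obj F) (h ≫ g).op s') s, by simp [hy, hf],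
      Fin.cases ?_ hs⟩
    rw [Fin.cons_zero, gm_res, Functor.map_comp]
    simp [hy, hg, hs']

lemma exists_gR_fin : ∀ {n : ℕ} (r : Fin n → ModSite.stalkRing p O) (X : C)
    (x : p.fiber.obj X), ∃ (Y : C) (f : Y ⟶ X) (y : p.fiber.obj Y)
      (s : Fin n → O.obj.obj (op Y)), p.fiber.map f y = x ∧ ∀ i, gR p Y y (s i) = r i := by
  intro n
  induction n with
  | zero => intro m X x; exact ⟨X, 𝟙 X, x, fun i => i.elim0, by simp, fun i => i.elim0⟩
  | succ n ih =>
    intro m X x
    obtain ⟨X', x', s', hs'⟩ := exists_gR p (m 0)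
    obtain ⟨Z, f, g, z, hf, hg⟩ := exists_min p x x'
    obtain ⟨Y, h, y, s, hy, hs⟩ := ih (fun i => m i.succ) Z z
    refine ⟨Y, h ≫ f, y, Fin.cons ((O.obj.map (h ≫ g).op).hom s') s, by simp [hy, hf],
      Fin.cases ?_ hs⟩
    rw [Fin.cons_zero, gR_res, Functor.map_comp]
    simp [hy, hg, hs']

lemma exists_res_eq_zero (F : ModSite.Mod O) : ∀ {n : ℕ} {X : C} (x : p.fiber.obj X)
    (s : Fin n → ((fg O).obj F).obj (op X)), (∀ i, gm p F X x (s i) = 0) →
      ∃ (Y : C) (f : Y ⟶ X) (y : p.fiber.obj Y), p.fiber.map f y = x ∧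
        ∀ i, res ((fg O).obj F) f.op (s i) = 0 := by
  intro n
  induction n with
  | zero => intro X x s _; exact ⟨X, 𝟙 X, x, by simp, fun i => i.elim0⟩
  | succ n ih =>
    intro X x s hs
    obtain ⟨Z, f, z, hz, h0⟩ := gm_eq_zero p F x (s 0) (hs 0)
    obtain ⟨Y, g, y, hy, h⟩ := ih z (fun i => res ((fg O).obj F) f.op (s i.succ))
      (fun i => by rw [gm_res, hz]; exact hs _)
    refine ⟨Y, g ≫ f, y, by simp [hy, hz], Fin.cases ?_ fun i => ?_⟩
    · rw [op_comp, res_comp, h0, map_zero]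
    · rw [op_comp, res_comp]
      exact h i

/-- The stalk of a monomorphism is injective. -/
lemma stalkMap_gm {F G : ModSite.Mod O} (φ : F ⟶ G) (X : C) (x : p.fiber.obj X)
    (s : ((fg O).obj F).obj (op X)) :
    (ModSite.stalkMap p φ).hom (gm p F X x s) = gm p G X x (φ.val.app (op X) s) :=
  p.toPresheafFiber_naturality_apply ((SheafOfModules.toSheaf (ModSite.ringSh O)).map φ).hom X x s

lemma mono_forget {A B : ModSite.Mod O} (g : A ⟶ B) [Mono g] : Mono ((fg O).map g) := by
  have : PreservesLimitsOfSize.{u, u} (forgetPM O) := (adjn O).rightAdjoint_preservesLimits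
  exact inferInstanceAs (Mono ((forgetPM O).map g))

lemma stalkMap_injective {A B : ModSite.Mod O} (g : A ⟶ B) [Mono g] :
    Function.Injective (ModSite.stalkMap p g).hom := by
  refine (injective_iff_map_eq_zero _).2 fun a ha => ?_
  obtain ⟨X, x, s, rfl⟩ := exists_gm p A a
  rw [stalkMap_gm] at ha
  obtain ⟨Y, f, y, hy, e⟩ := gm_eq_zero p B x _ ha
  have := mono_forget g
  have e' : ((fg O).map g).app (op Y) (res ((fg O).obj A) f.op s) = 0 :=
    (res_app ((fg O).map g) f.op s).trans e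
  have : res ((fg O).obj A) f.op s = 0 :=
    PresheafOfModules.injective_of_mono ((fg O).map g) (op Y) (e'.trans (map_zero _).symm)
  rw [← hy, ← gm_res, this, map_zero]

lemma stalkMap_surjective {A B : ModSite.Mod O} (g : A ⟶ B) [Epi g] :
    Function.Surjective (ModSite.stalkMap p g).hom := by
  have : Epi ((SheafOfModules.toSheaf.{u} (ModSite.ringSh O)).map g) := by
    have := toSheaf_preservesColimits (R := ModSite.ringSh O)
    infer_instance
  have : Presheaf.IsLocallySurjective J ((SheafOfModules.toSheaf.{u} (ModSite.ringSh O)).map g).hom :=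
    (Sheaf.isLocallySurjective_iff_epi' AddCommGrpCat.{u} _).2 this
  exact p.toPresheafFiber_map_surjective ((SheafOfModules.toSheaf.{u} (ModSite.ringSh O)).map g).hom

lemma stalk_exact (S : ShortComplex (ModSite.Mod O)) (hS : S.Exact) [Mono S.f] :
    LinearMap.range (ModSite.stalkMap p S.f).hom = LinearMap.ker (ModSite.stalkMap p S.g).hom := by
  refine le_antisymm ?_ fun m hm => ?_
  · rintro _ ⟨a, rfl⟩
    obtain ⟨X, x, s, rfl⟩ := exists_gm p S.X₁ a
    rw [LinearMap.mem_ker, stalkMap_gm]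
    refine (stalkMap_gm p S.g X x _).trans ?_
    have h0 : (S.f ≫ S.g).val.app (op X) s = 0 := by
      rw [S.zero]
      rfl
    exact (congrArg (gm p S.X₃ X x) h0).trans (map_zero _)
  · rw [LinearMap.mem_ker] at hm
    obtain ⟨X, x, s, rfl⟩ := exists_gm p S.X₂ m
    rw [stalkMap_gm] at hm
    obtain ⟨Y, f, y, hy, e⟩ := gm_eq_zero p S.X₃ x _ hm
    let k : ModSite.freeOn O Y ⟶ S.X₂ := (FreeOn.homEquiv O Y S.X₂).symm (res ((fg O).obj S.X₂) f.op s)
    have h2 : FreeOn.homEquiv O Y S.X₃ 0 = 0 := by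
      have := FreeOn.homEquiv_comp O Y (0 : ModSite.freeOn O Y ⟶ S.X₂) (0 : S.X₂ ⟶ S.X₃)
      rw [comp_zero] at this
      exact this.trans rfl
    have hk : k ≫ S.g = 0 := (FreeOn.homEquiv O Y S.X₃).injective
      (((FreeOn.homEquiv_comp O Y k S.g).trans
        ((congrArg (S.g.val.app (op Y)) ((FreeOn.homEquiv O Y S.X₂).apply_symm_apply _)).trans
          ((res_app ((fg O).map S.g) f.op s).trans e))).trans h2.symm)
    obtain ⟨l, hl⟩ := KernelFork.IsLimit.lift' hS.fIsKernel k hk
    refine ⟨gm p S.X₁ Y y (FreeOn.homEquiv O Y S.X₁ l), ?_⟩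
    refine (stalkMap_gm p S.f Y y _).trans ?_
    refine (congrArg (gm p S.X₂ Y y) ((FreeOn.homEquiv_comp O Y l S.f).symm.trans
      ((congrArg (FreeOn.homEquiv O Y S.X₂) hl).trans
        ((FreeOn.homEquiv O Y S.X₂).apply_symm_apply _)))).trans ?_
    rw [gm_res, hy]

/-! ### Flat modules -/

lemma mono_sh_map_iff' {A B : PM O} (f : A ⟶ B) :
    Mono ((sh O).map f) ↔ Presheaf.IsLocallyInjective J (pmap f) := by
  have : PreservesLimitsOfSize.{u, u} (SheafOfModules.toSheaf.{u} (ModSite.ringSh O)) :=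
    toSheaf_preservesLimits _
  have e : Mono ((sh O).map f) ↔ Mono ((presheafToSheaf J AddCommGrpCat.{u}).map (pmap f)) :=
    ⟨fun _ => inferInstanceAs (Mono ((SheafOfModules.toSheaf.{u} (ModSite.ringSh O)).map ((sh O).map f))),
      fun h => (SheafOfModules.toSheaf.{u} (ModSite.ringSh O)).mono_of_mono_map h⟩
  rw [e, ← Presheaf.isLocallyInjective_presheafToSheaf_map_iff]
  constructor
  · intro h
    rw [Sheaf.isLocallyInjective_iff_injective]
    intro U
    have : Mono ((sheafToPresheaf J AddCommGrpCat.{u}).map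
      ((presheafToSheaf J AddCommGrpCat.{u}).map (pmap f))) := inferInstance
    exact (AddCommGrpCat.mono_iff_injective _).1 ((NatTrans.mono_iff_mono_app _).1 this U)
  · intro h
    exact Sheaf.mono_of_isLocallyInjective _

lemma isLocallyInjective_whiskerRight (F : ModSite.Mod O) (hF : ModSite.IsFlat F) {A B : PM O}
    (ι : A ⟶ B) [Mono ι] : Presheaf.IsLocallyInjective J (pmap (ι ▷ (fg O).obj F)) := by
  rw [← mono_sh_map_iff']
  have : PreservesFiniteLimits (sh O) :=
    inferInstanceAs (PreservesFiniteLimits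
      (PresheafOfModules.sheafification.{u} (𝟙 (ModSite.ringSh O).obj)))
  have : Mono ((sh O).map ι) := inferInstance
  have h1 : Mono ((sh O).map ((fg O).map ((sh O).map ι) ▷ (fg O).obj F)) := mono_tR_map hF ((sh O).map ι)
  have hA := isIso_sh_whiskerRight_eta' A ((fg O).obj F)
  have hB := isIso_sh_whiskerRight_eta' B ((fg O).obj F)
  have e : (sh O).map (ι ▷ (fg O).obj F) = (sh O).map (eta' A ▷ (fg O).obj F) ≫
      (sh O).map ((fg O).map ((sh O).map ι) ▷ (fg O).obj F) ≫
        inv ((sh O).map (eta' B ▷ (fg O).obj F)) := by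
    rw [← Category.assoc, IsIso.eq_comp_inv, ← (sh O).map_comp, ← (sh O).map_comp,
      ← comp_whiskerRight, ← comp_whiskerRight, eta'_naturality]
  rw [e]
  infer_instance

section Forward

variable {W : C} {l : ℕ}

/-- `Fin l × Hom(-, W)`. -/
def pairs (W : C) (l : ℕ) : Cᵒᵖ ⥤ Type u where
  obj Y := Fin l × (Y.unop ⟶ W)
  map g := ↾fun q => (q.1, g.unop ≫ q.2)

variable (O W) in
/-- The free presheaf on `W`. -/
noncomputable abbrev freeP : PM O :=
  (PresheafOfModules.free (O.obj ⋙ forget₂ CommRingCat.{u} RingCat.{u})).obj (yoneda.obj W)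

variable (O W l) in
/-- The free presheaf on `l` copies of `W`. -/
noncomputable abbrev freeP' : PM O :=
  (PresheafOfModules.free (O.obj ⋙ forget₂ CommRingCat.{u} RingCat.{u})).obj (pairs W l)

/-- The `g`-th coefficient. -/
noncomputable def coef {Y : C} (g : Y ⟶ W) :
    (freeP O W).obj (op Y) →ₗ[O.obj.obj (op Y)] O.obj.obj (op Y) :=
  (Finsupp.lapply g : ((Y ⟶ W) →₀ O.obj.obj (op Y)) →ₗ[O.obj.obj (op Y)] O.obj.obj (op Y))

/-- The basis elements. -/
noncomputable def mk {Y : C} (h : Y ⟶ W) : (freeP O W).obj (op Y) := Finsupp.single h 1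

/-- The basis elements. -/
noncomputable def mk' {Y : C} (q : Fin l × (Y ⟶ W)) : (freeP' O W l).obj (op Y) := Finsupp.single q 1

lemma res_mk {Y Z : C} (k : Z ⟶ Y) (h : Y ⟶ W) : res (freeP O W) k.op (mk h) = mk (k ≫ h) :=
  ModuleCat.freeDesc_apply _ _

/-- The map given by `r`. -/
noncomputable def phi (r : Fin l → O.obj.obj (op W)) : freeP' O W l ⟶ freeP O W :=
  PresheafOfModules.freeObjDesc
    { app := fun Y => ↾fun q => (O.obj.map q.2.op).hom (r q.1) • (mk q.2 : (freeP O W).obj (op Y.unop))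
      naturality := fun Y Z g => by
        ext q
        change (O.obj.map (g.unop ≫ q.2).op).hom (r q.1) • mk (g.unop ≫ q.2) =
          res (freeP O W) g ((O.obj.map q.2.op).hom (r q.1) • mk q.2)
        rw [res_smul]
        refine congrArg₂ (· • ·) ?_ (res_mk g.unop q.2).symm
        rw [op_comp, Functor.map_comp]
        rfl }

lemma phi_mk (r : Fin l → O.obj.obj (op W)) {Y : C} (q : Fin l × (Y ⟶ W)) :
    (phi r).app (op Y) (mk' q) = (O.obj.map q.2.op).hom (r q.1) • mk q.2 :=
  ModuleCat.freeDesc_apply _ _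

lemma mem_of_eq {R M : Type u} [Ring R] [AddCommGroup M] [Module R M] {N : Submodule R M} {a b : M}
    (h : a = b) (hb : b ∈ N) : a ∈ N := h ▸ hb

lemma coef_mk {Y : C} (g : Y ⟶ W) : coef (O := O) g (mk g) = 1 := Finsupp.single_eq_same

lemma coef_mk_of_ne {Y : C} {g h : Y ⟶ W} (hne : h ≠ g) : coef (O := O) g (mk h) = 0 :=
  Finsupp.single_eq_of_ne (Ne.symm hne)

lemma coef_phi_mem (r : Fin l → O.obj.obj (op W)) {Y : C} (g : Y ⟶ W)
    (b : (freeP' O W l).obj (op Y)) :
    coef g ((phi r).app (op Y) b) ∈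
      Submodule.span (O.obj.obj (op Y)) (Set.range fun i => (O.obj.map g.op).hom (r i)) := by
  let L : (freeP' O W l).obj (op Y) →ₗ[O.obj.obj (op Y)] O.obj.obj (op Y) :=
    (coef g).comp ((phi r).app (op Y)).hom
  let M := Submodule.span (O.obj.obj (op Y)) (Set.range fun i => (O.obj.map g.op).hom (r i))
  change L b ∈ M
  induction b using Finsupp.induction_linear with
  | zero => exact (map_zero L).symm ▸ zero_mem M
  | add a b ha hb => exact (map_add L a b).symm ▸ add_mem ha hb
  | single q c =>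
    obtain ⟨i, h⟩ := q
    let c' : O.obj.obj (op Y) := c
    have hq : (Finsupp.single (i, h) c : (freeP' O W l).obj (op Y)) = c' • mk' (i, h) :=
      (Finsupp.smul_single_one _ c).symm
    refine mem_of_eq ((congrArg L hq).trans (map_smul L c' (mk' (i, h)))) ?_
    refine Submodule.smul_mem _ _ ?_
    change coef g ((phi r).app (op Y) (mk' (i, h))) ∈ M
    rw [phi_mk, map_smul]
    by_cases hg : h = g
    · subst hg
      rw [coef_mk, smul_eq_mul, mul_one]
      exact Submodule.subset_span ⟨i, rfl⟩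
    · rw [coef_mk_of_ne hg, smul_zero]
      exact zero_mem _

/-- A linear relation among sections of a flat module is trivial near a point. -/
lemma exists_relation (F : ModSite.Mod O) (hF : ModSite.IsFlat F) (x : p.fiber.obj W)
    (r : Fin l → O.obj.obj (op W)) (m : Fin l → ((fg O).obj F).obj (op W))
    (h0 : ∑ i, r i • m i = 0) :
    ∃ (Y : C) (g : Y ⟶ W) (y : p.fiber.obj Y), p.fiber.map g y = x ∧
      TensorProduct.VanishesTrivially (O.obj.obj (op Y)) (fun i => (O.obj.map g.op).hom (r i))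
        (fun i => res ((fg O).obj F) g.op (m i)) := by
  let I := image (phi r)
  let ι : I ⟶ freeP O W := image.ι (phi r)
  let e : freeP' O W l ⟶ I := factorThruImage (phi r)
  have he : ∀ (Y : Cᵒᵖ) b, ι.app Y (e.app Y b) = (phi r).app Y b := fun Y b =>
    (congrArg (fun k : freeP' O W l ⟶ freeP O W => k.app Y b) (image.fac (phi r)))
  let z : (I ⊗ (fg O).obj F : PM O).obj (op W) :=
    ∑ i, e.app (op W) (mk' (i, 𝟙 W)) ⊗ₜ[O.obj.obj (op W)] m i
  have hz : (ι ▷ (fg O).obj F).app (op W) z = 0 := by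
    refine (map_sum _ _ _).trans ?_
    refine (Finset.sum_congr rfl fun i _ => ?_).trans
      ((TensorProduct.tmul_sum (mk (𝟙 W) : (freeP O W).obj (op W)) Finset.univ fun i => r i • m i).symm.trans
        ((congrArg _ h0).trans (TensorProduct.tmul_zero _ _)))
    change ι.app (op W) (e.app (op W) (mk' (i, 𝟙 W))) ⊗ₜ[O.obj.obj (op W)] m i = _
    rw [he, phi_mk, TensorProduct.smul_tmul]
    congr 2
    simp
  have := isLocallyInjective_whiskerRight F hF ι
  have hS := Presheaf.equalizerSieve_mem J (pmap (ι ▷ (fg O).obj F)) z 0 (hz.trans (map_zero _).symm)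
  obtain ⟨Y, g, hg, y, hy⟩ := p.jointly_surjective _ hS x
  refine ⟨Y, g, y, hy, ?_⟩
  let M := Submodule.span (O.obj.obj (op Y)) (Set.range fun i => (O.obj.map g.op).hom (r i))
  have hM : ∀ a : I.obj (op Y), coef g (ι.app (op Y) a) ∈ M := fun a => by
    have : Epi e := inferInstanceAs (Epi (factorThruImage (phi r)))
    obtain ⟨b, rfl⟩ := PresheafOfModules.surjective_of_epi e (op Y) a
    rw [he]
    exact coef_phi_mem r g b
  let L : I.obj (op Y) →ₗ[O.obj.obj (op Y)] M := ((coef g).comp (ι.app (op Y)).hom).codRestrict M hM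
  let e₀ : Fin l → M := fun i => ⟨(O.obj.map g.op).hom (r i), Submodule.subset_span ⟨i, rfl⟩⟩
  have hL : ∀ i, L (res I g.op (e.app (op W) (mk' (i, 𝟙 W)))) = e₀ i := fun i => Subtype.ext (by
    change coef g (ι.app (op Y) (res I g.op (e.app (op W) (mk' (i, 𝟙 W))))) = _
    rw [res_app ι g.op, he, phi_mk, res_smul, res_mk, map_smul]
    simp only [Category.comp_id, coef_mk, smul_eq_mul, mul_one, e₀, op_id, CategoryTheory.Functor.map_id,
      CommRingCat.hom_id, RingHom.id_apply])
  have h1 : ∑ i, e₀ i ⊗ₜ[O.obj.obj (op Y)] (res ((fg O).obj F) g.op (m i)) = 0 := by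
    have h2 : res (I ⊗ (fg O).obj F : PM O) g.op z = 0 := hg.trans (map_zero _)
    have h3 := congrArg (LinearMap.rTensor (((fg O).obj F).obj (op Y)) L) h2
    refine Eq.trans ?_ (h3.trans (map_zero _))
    refine Eq.symm ((congrArg (LinearMap.rTensor (((fg O).obj F).obj (op Y)) L)
      (map_sum (res (I ⊗ (fg O).obj F : PM O) g.op) _ _)).trans
        ((map_sum _ _ _).trans (Finset.sum_congr rfl fun i _ => ?_)))
    change L (res I g.op (e.app (op W) (mk' (i, 𝟙 W)))) ⊗ₜ[O.obj.obj (op Y)] (res ((fg O).obj F) g.op (m i)) = _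
    rw [hL]
  have hspan : Submodule.span (O.obj.obj (op Y)) (Set.range e₀) = ⊤ := by
    apply Submodule.map_injective_of_injective M.injective_subtype
    rw [Submodule.map_span, Submodule.map_top, Submodule.range_subtype, ← Set.range_comp]
    rfl
  obtain ⟨k, a, yy, h4, h5⟩ := TensorProduct.vanishesTrivially_of_sum_tmul_eq_zero _ hspan h1
  refine ⟨k, a, yy, h4, fun j => ?_⟩
  simpa [e₀] using congrArg Subtype.val (h5 j)

/-- Flat modules have flat stalks. -/
theorem flat_stalk (F : ModSite.Mod O) (hF : ModSite.IsFlat F) :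
    Module.Flat (ModSite.stalkRing p O) (ModSite.stalkMod p F) := by
  rw [Module.Flat.iff_forall_isTrivialRelation]
  intro l f x h
  obtain ⟨X, x₀⟩ := IsCofiltered.nonempty (C := p.fiber.Elements)
  obtain ⟨Y₁, -, y₁, r, -, hr⟩ := exists_gR_fin p f X x₀
  obtain ⟨Y₂, f₂, y₂, m, hy₂, hm⟩ := exists_gm_fin p F x Y₁ y₁
  have h2 : gm p F Y₂ y₂ (∑ i, (O.obj.map f₂.op).hom (r i) • m i) = 0 := by
    rw [map_sum]
    refine (Finset.sum_congr rfl fun i _ => ?_).trans h
    rw [gm_smul, gR_res, hy₂, hr, hm]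
  obtain ⟨Y₃, f₃, y₃, hy₃, h3⟩ := gm_eq_zero p F y₂ _ h2
  obtain ⟨Y, g, y, hy, k, a, yy, h4, h5⟩ :=
    exists_relation p F hF y₃ (fun i => (O.obj.map f₃.op).hom ((O.obj.map f₂.op).hom (r i)))
      (fun i => res ((fg O).obj F) f₃.op (m i)) (by
        rw [map_sum] at h3
        refine Eq.trans (Finset.sum_congr rfl fun i _ => ?_) h3
        exact (res_smul _ _ _ _).symm)
  refine ⟨k, fun i j => gR p Y y (a i j), fun j => gm p F Y y (yy j), fun i => ?_, fun j => ?_⟩
  · have := congrArg (gm p F Y y) (h4 i)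
    rw [gm_res, hy, gm_res, hy₃, hm, map_sum] at this
    refine this.trans (Finset.sum_congr rfl fun j _ => ?_)
    exact gm_smul p F Y y _ _
  · have := congrArg (gR p Y y) (h5 j)
    rw [map_sum, map_zero] at this
    refine Eq.trans (Finset.sum_congr rfl fun i _ => ?_) this
    rw [smul_eq_mul, map_mul, gR_res, hy, gR_res, hy₃, gR_res, hy₂, hr, mul_comm]

end Forward

section Backward

/-- The map to the tensor product of the stalks. -/
noncomputable def toStalkTensor (A F : ModSite.Mod O) {X : C} (x : p.fiber.obj X) :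
    (((fg O).obj A).obj (op X) ⊗[O.obj.obj (op X)] ((fg O).obj F).obj (op X)) →+
      (ModSite.stalkAb p A ⊗[ModSite.stalkRing p O] ModSite.stalkAb p F) :=
  TensorProduct.liftAddHom
    (AddMonoidHom.mk' (fun a => AddMonoidHom.mk' (fun f => gm p A X x a ⊗ₜ[ModSite.stalkRing p O] gm p F X x f)
      (fun f g => by rw [map_add, TensorProduct.tmul_add]))
      (fun a b => AddMonoidHom.ext fun f => by
        change gm p A X x (a + b) ⊗ₜ[ModSite.stalkRing p O] _ = _
        rw [map_add, TensorProduct.add_tmul]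
        rfl))
    (fun r a f => by
      change gm p A X x (r • a) ⊗ₜ[ModSite.stalkRing p O] gm p F X x f =
        gm p A X x a ⊗ₜ[ModSite.stalkRing p O] gm p F X x (r • f)
      rw [gm_smul, gm_smul, TensorProduct.smul_tmul])

/-- At a point where `F` has flat stalk, tensoring with `F` preserves injectivity. -/
lemma exists_res_tmul_eq_zero {A B : ModSite.Mod O} (g : A ⟶ B) [Mono g] (F : ModSite.Mod O)
    {W : C} (x : p.fiber.obj W) (hF : Module.Flat (ModSite.stalkRing p O) (ModSite.stalkMod p F))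
    (z : ((fg O).obj A ⊗ (fg O).obj F : PM O).obj (op W))
    (hz : ((fg O).map g ▷ (fg O).obj F).app (op W) z = 0) :
    ∃ (Y : C) (h : Y ⟶ W) (y : p.fiber.obj Y), p.fiber.map h y = x ∧
      res ((fg O).obj A ⊗ (fg O).obj F : PM O) h.op z = 0 := by
  obtain ⟨S, hS⟩ := TensorProduct.exists_finset (R := O.obj.obj (op W)) z
  let n := S.card
  let ev : Fin n → ((fg O).obj A).obj (op W) × ((fg O).obj F).obj (op W) := fun i =>
    (S.equivFin.symm i).1
  have hz' : z = ∑ i, (ev i).1 ⊗ₜ[O.obj.obj (op W)] (ev i).2 := by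
    rw [hS, ← Finset.sum_coe_sort]
    exact (Fintype.sum_equiv S.equivFin.symm _ _ fun _ => rfl).symm
  let gp : ModSite.stalkAb p A →ₗ[ModSite.stalkRing p O] ModSite.stalkAb p B := (ModSite.stalkMap p g).hom
  have hinj : Function.Injective gp := stalkMap_injective p g
  have h1 : ∑ i, gp (gm p A W x (ev i).1) ⊗ₜ[ModSite.stalkRing p O] gm p F W x (ev i).2 = 0 := by
    have h := congrArg (toStalkTensor p B F x) hz
    replace h := h.trans (map_zero _)
    rw [hz'] at h
    refine Eq.trans ?_ h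
    refine Eq.symm ((congrArg (toStalkTensor p B F x) (map_sum _ _ _)).trans ((map_sum _ _ _).trans ?_))
    refine Finset.sum_congr rfl fun i _ => ?_
    exact congrArg (fun b => b ⊗ₜ[ModSite.stalkRing p O] _) (stalkMap_gm p g W x _).symm
  have h2 : ∑ i, gm p A W x (ev i).1 ⊗ₜ[ModSite.stalkRing p O] gm p F W x (ev i).2 = 0 := by
    refine Module.Flat.rTensor_preserves_injective_linearMap (M := ModSite.stalkAb p F) gp hinj ?_
    rw [map_sum, map_zero]
    simpa using h1
  obtain ⟨k, a, yy, h3, h4⟩ := TensorProduct.vanishesTrivially_of_sum_tmul_eq_zero_of_rTensor_injective _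
    (Module.Flat.rTensor_preserves_injective_linearMap _ (Submodule.injective_subtype _)) h2
  obtain ⟨Y₁, f₁, y₁, ys, hy₁, hys⟩ := exists_gm_fin p F yy W x
  obtain ⟨Y₂, f₂, y₂, as', hy₂, has⟩ := exists_gR_fin p (fun q => a (finProdFinEquiv.symm q).1 (finProdFinEquiv.symm q).2) Y₁ y₁
  let as : Fin n → Fin k → O.obj.obj (op Y₂) := fun i j => as' (finProdFinEquiv (i, j))
  have has' : ∀ i j, gR p Y₂ y₂ (as i j) = a i j := fun i j => (has _).trans (by simp)
  let ys₂ := fun j => res ((fg O).obj F) f₂.op (ys j)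
  have hys₂ : ∀ j, gm p F Y₂ y₂ (ys₂ j) = yy j := fun j => by rw [gm_res, hy₂, hys]
  let f := f₂ ≫ f₁
  have hf : p.fiber.map f y₂ = x := by simp [f, hy₂, hy₁]
  obtain ⟨Y₃, f₃, y₃, hy₃, h5⟩ := exists_res_eq_zero p F y₂
    (fun i => res ((fg O).obj F) f.op (ev i).2 - ∑ j, as i j • ys₂ j) (fun i => by
      rw [map_sub, map_sum, gm_res, hf, sub_eq_zero]
      refine (h3 i).trans (Finset.sum_congr rfl fun j _ => ?_)
      rw [gm_smul, has', hys₂])
  obtain ⟨Y, f₄, y, hy, h6⟩ := exists_res_eq_zero p A y₃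
    (fun j => res ((fg O).obj A) f₃.op (∑ i, as i j • res ((fg O).obj A) f.op (ev i).1)) (fun j => by
      rw [gm_res, hy₃, map_sum]
      refine (Finset.sum_congr rfl fun i _ => ?_).trans (h4 j)
      rw [gm_smul, has', gm_res, hf])
  refine ⟨Y, f₄ ≫ f₃ ≫ f, y, by simp [hy, hy₃, hf], ?_⟩
  let R₄ := res ((fg O).obj A ⊗ (fg O).obj F : PM O) f₄.op
  let R₃ := res ((fg O).obj A ⊗ (fg O).obj F : PM O) f₃.op
  have e : res ((fg O).obj A ⊗ (fg O).obj F : PM O) f.op z =
      ∑ j, (∑ i, as i j • res ((fg O).obj A) f.op (ev i).1) ⊗ₜ[O.obj.obj (op Y₂)] ys₂ j +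
      ∑ i, res ((fg O).obj A) f.op (ev i).1 ⊗ₜ[O.obj.obj (op Y₂)]
        (res ((fg O).obj F) f.op (ev i).2 - ∑ j, as i j • ys₂ j) := by
    refine ((congrArg _ hz').trans (map_sum (res ((fg O).obj A ⊗ (fg O).obj F : PM O) f.op) _ _)).trans ?_
    simp only [TensorProduct.sum_tmul, TensorProduct.tmul_sub, TensorProduct.tmul_sum,
      TensorProduct.smul_tmul, Finset.sum_sub_distrib]
    rw [Finset.sum_comm, add_sub_cancel]
    rfl
  rw [op_comp, op_comp, Category.assoc, res_comp, res_comp, e]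
  refine ((congrArg R₄ (map_add R₃ _ _)).trans (map_add R₄ _ _)).trans ?_
  refine (congrArg₂ (· + ·)
    (((congrArg R₄ (map_sum R₃ _ _)).trans (map_sum R₄ _ _)).trans (Finset.sum_eq_zero fun j _ => ?_))
    (((congrArg R₄ (map_sum R₃ _ _)).trans (map_sum R₄ _ _)).trans (Finset.sum_eq_zero fun i _ => ?_))).trans
      (add_zero _)
  · change res ((fg O).obj A) f₄.op (res ((fg O).obj A) f₃.op _) ⊗ₜ[O.obj.obj (op Y)] _ = 0
    rw [h6]
    exact TensorProduct.zero_tmul _ _
  · change _ ⊗ₜ[O.obj.obj (op Y)] res ((fg O).obj F) f₄.op (res ((fg O).obj F) f₃.op _) = 0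
    rw [h5, map_zero]
    exact TensorProduct.tmul_zero _ _

/-- Modules with flat stalks at a conservative family of points are flat. -/
theorem isFlat_of_flat_stalk (P : ObjectProperty (GrothendieckTopology.Point.{u} J))
    (hP : P.IsConservativeFamilyOfPoints) (F : ModSite.Mod O)
    (hF : ∀ q, P q → Module.Flat (ModSite.stalkRing q O) (ModSite.stalkMod q F)) :
    ModSite.IsFlat F := by
  refine isFlat_of_mono fun A B g _ => ?_
  change Mono ((sh O).map ((fg O).map g ▷ (fg O).obj F))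
  rw [mono_sh_map_iff']
  constructor
  intro V z z' hzz
  obtain ⟨W⟩ := V
  let S := Presheaf.equalizerSieve z z'
  let K : Type u := Σ Y : C, {h : Y ⟶ W // S h}
  refine J.superset_covering (S := Sieve.ofArrows (fun i : K => i.1) (fun i => i.2.1)) ?_ ?_
  · rw [Sieve.generate_le_iff, Presieve.ofArrows_le_iff]
    exact fun i => i.2.2
  · rw [hP.jointly_reflect_ofArrows_mem]
    intro Φ x
    have h0 : ((fg O).map g ▷ (fg O).obj F).app (op W) (z - z') = 0 :=
      (map_sub (((fg O).map g ▷ (fg O).obj F).app (op W)).hom z z').trans (sub_eq_zero.2 hzz)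
    obtain ⟨Y, h, y, hy, e⟩ := exists_res_tmul_eq_zero Φ.obj g F x (hF _ Φ.property) (z - z') h0
    refine ⟨⟨Y, h, ?_⟩, y, hy⟩
    exact sub_eq_zero.1 ((map_sub _ z z').symm.trans e)

end Backward

end Groth.Agent.ModGroth.SiteStalk
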