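import Groth.Agent.ModGroth.FlatTrunc
import Mathlib.Algebra.Homology.DerivedCategory.Fractions
import Mathlib.Algebra.Homology.HomotopyCategory.Shift

/-!
# Tor amplitude on schemes
-/

universe u

open CategoryTheory CategoryTheory.Limits HomologicalComplex AlgebraicGeometry CategoryTheory.Pretriangulated

attribute [local instance] HasDerivedCategory.standard

namespace Groth.Agent.ModGroth.Amp

variable {X : Scheme.{u}}

/-- Termwise tensor product of a complex with a module. -/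
noncomputable abbrev tcx (F : X.Modules) : CochainComplex X.Modules ℤ ⥤ CochainComplex X.Modules ℤ :=
  (DCoh.tensorRightMod F).mapHomologicalComplex (ComplexShape.up ℤ)

/-- `H^i(E ⊗ᴸ F) = 0`. -/
def Van (F : X.Modules) (E : DCoh.D X) (i : ℤ) : Prop :=
  haveI := hasLTensorMod F
  IsZero (DCoh.HD ((DCoh.LTensorMod F).obj E) i)

/-- Vanishing is computed by a K-flat representative. -/
lemma van_iff (F : X.Modules) {K : CochainComplex X.Modules ℤ} (hK : DCoh.IsKFlat K) {E : DCoh.D X}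
    (e : DCoh.toD X K ≅ E) (i : ℤ) : Van F E i ↔ ((tcx F).obj K).ExactAt i := by
  have := hasLTensorMod F
  let e' : DCoh.HD ((DCoh.LTensorMod F).obj E) i ≅ ((tcx F).obj K).homology i :=
    (DerivedCategory.homologyFunctor X.Modules i).mapIso
      (((DCoh.LTensorMod F).mapIso e).symm ≪≫ ltensorValueIso F hK) ≪≫
      (DerivedCategory.homologyFunctorFactors X.Modules i).app _
  rw [exactAt_iff_isZero_homology]
  exact ⟨fun h => h.of_iso e'.symm, fun h => h.of_iso e'⟩

lemma hasTor_iff (a b : ℤ) (E : DCoh.D X) :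
    DCoh.HasTorAmplitudeIn a b E ↔ ∀ (F : X.Modules) (i : ℤ), (i < a ∨ b < i) → Van F E i :=
  ⟨fun h F i hi => @h F (hasLTensorMod F) i hi, fun h F _ i hi => h F i hi⟩

lemma isIso_Q_map {K L : CochainComplex X.Modules ℤ} (f : K ⟶ L) (h : QuasiIso f) :
    IsIso ((DerivedCategory.Q : CochainComplex X.Modules ℤ ⥤ DCoh.D X).map f) :=
  inferInstanceAs (IsIso (DerivedCategory.Q.map f))

/-- K-flat flat representatives exist. -/
lemma exists_rep (E : DCoh.D X) : ∃ K : CochainComplex X.Modules ℤ, DCoh.IsKFlat K ∧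
    (∀ n, FlatMod.IsFlat (K.X n)) ∧ Nonempty (DCoh.toD X K ≅ E) := by
  obtain ⟨K, q, hK, hf, hq, -⟩ := scheme_exists_resolution (DerivedCategory.Q.objPreimage E)
  have : IsIso (DerivedCategory.Q.map q) := inferInstance
  exact ⟨K, hK, hf, ⟨asIso (DerivedCategory.Q.map q) ≪≫ DerivedCategory.Q.objObjPreimageIso E⟩⟩

/-- A flat representative gives Tor amplitude. -/
lemma van_of_flatAmp {a b : ℤ} {E : DCoh.D X} (h : DCoh.HasFlatAmplitudeIn a b E) (F : X.Modules)
    (i : ℤ) (hi : i < a ∨ b < i) : Van F E i := by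
  obtain ⟨K, hv, hf, ⟨e⟩⟩ := h
  have hle : K.IsStrictlyLE b := (CochainComplex.isStrictlyLE_iff K b).2 fun n hn => hv n (Or.inr hn)
  refine (van_iff F (scheme_isKFlat_of_boundedAbove K b hle hf) e i).2 ?_
  rw [exactAt_iff]
  exact ShortComplex.exact_of_isZero_X₂ _ ((DCoh.tensorRightMod F).map_isZero (hv i hi))

lemma tor_of_flatAmp {a b : ℤ} {E : DCoh.D X} (h : DCoh.HasFlatAmplitudeIn a b E) :
    DCoh.HasTorAmplitudeIn a b E :=
  (hasTor_iff a b E).2 (van_of_flatAmp h)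

/-- Tor amplitude gives flat representatives. -/
lemma flatAmp_of_tor {a b : ℤ} (hab : a ≤ b) {E : DCoh.D X} (h : DCoh.HasTorAmplitudeIn a b E) :
    DCoh.HasFlatAmplitudeIn a b E := by
  obtain ⟨K, hK, hf, ⟨e⟩⟩ := exists_rep E
  obtain ⟨L, T, ι, π, hι, hπ, hT, hv⟩ := exists_flat_rep (O := X.sheaf) K hK
    (fun n => (isFlat_iff_flatMod _).2 (hf n)) a b hab
    fun F i hi => (van_iff F hK e i).1 ((hasTor_iff a b E).1 h F i hi)
  have : IsIso ((DerivedCategory.Q : CochainComplex X.Modules ℤ ⥤ DCoh.D X).map ι) := isIso_Q_map ι hι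
  have : IsIso ((DerivedCategory.Q : CochainComplex X.Modules ℤ ⥤ DCoh.D X).map π) := isIso_Q_map π hπ
  exact ⟨T, hv, fun n => (isFlat_iff_flatMod _).1 (hT n),
    ⟨(asIso ((DerivedCategory.Q : CochainComplex X.Modules ℤ ⥤ DCoh.D X).map π)).symm ≪≫
      asIso ((DerivedCategory.Q : CochainComplex X.Modules ℤ ⥤ DCoh.D X).map ι) ≪≫ e⟩⟩

lemma van_shift (F : X.Modules) (E : DCoh.D X) (n i j : ℤ) (h : n + i = j) :
    Van F (E⟦n⟧) i ↔ Van F E j := by
  obtain ⟨K, hK, -, ⟨e⟩⟩ := exists_rep E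
  rw [van_iff F hK e j, van_iff F (K := K⟦n⟧) (KFlat.FlatR.shift DCoh.tensorBi hK n)
    (((DerivedCategory.Q : CochainComplex X.Modules ℤ ⥤ DCoh.D X).commShiftIso n).app K ≪≫
      (shiftFunctor (DCoh.D X) n).mapIso e) i, exactAt_iff_isZero_homology, exactAt_iff_isZero_homology]
  exact (((homologyFunctor X.Modules (ComplexShape.up ℤ) i).mapIso (((tcx F).commShiftIso n).app K)) ≪≫
    ((homologyFunctor X.Modules (ComplexShape.up ℤ) 0).shiftIso n i j h).app ((tcx F).obj K)).isZero_iff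

/-- Factorisation through a K-flat complex, strictly. -/
lemma site_exists_factor_eq {C : Type u} [SmallCategory C] {J : GrothendieckTopology C}
    {O : Sheaf J CommRingCat.{u}} {K L : CochainComplex (ModSite.Mod O) ℤ} (a : K ⟶ L)
    (hK : ModSite.IsKFlat K) : ∃ (N : CochainComplex (ModSite.Mod O) ℤ) (b : K ⟶ N) (c : N ⟶ L),
      ModSite.IsKFlat N ∧ QuasiIso c ∧ b ≫ c = a := by
  obtain ⟨N, b, c, h1, h2, h3, -⟩ := KFlat.exists_factorization (ModSite.tensorBi O)
    (fun U : C => freeSheaf O U) freeSheaf_separates a hK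
  exact ⟨N, b, c, h1, h2, h3⟩

/-- Factorisation through a K-flat complex. -/
lemma scheme_exists_factor_eq {K L : CochainComplex X.Modules ℤ} (a : K ⟶ L) (hK : DCoh.IsKFlat K) :
    ∃ (N : CochainComplex X.Modules ℤ) (b : K ⟶ N) (c : N ⟶ L), DCoh.IsKFlat N ∧ QuasiIso c ∧ b ≫ c = a := by
  obtain ⟨N, b, c, h1, h2, h3⟩ := site_exists_factor_eq (O := X.sheaf) a hK
  exact ⟨N, b, c, h1, h2, h3⟩

/-- The long exact sequence. -/
lemma van_triangle (F : X.Modules) {T : Triangle (DCoh.D X)} (hT : T ∈ distinguishedTriangles) (i : ℤ)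
    (h₂ : Van F T.obj₂ i) (h₁ : Van F T.obj₁ (i + 1)) : Van F T.obj₃ i := by
  obtain ⟨A, B, φ, ⟨eT⟩⟩ := (DerivedCategory.mem_distTriang_iff T).1 hT
  obtain ⟨P, p, hP, -, hp, -⟩ := scheme_exists_resolution A
  obtain ⟨N, b, c, hN, hc, hbc⟩ := scheme_exists_factor_eq (p ≫ φ) hP
  let Q : CochainComplex X.Modules ℤ ⥤ DCoh.D X := DerivedCategory.Q
  have : IsIso (Q.map p) := isIso_Q_map p hp
  have : IsIso (Q.map c) := isIso_Q_map c hc
  let e := isoTriangleOfIso₁₂ (DerivedCategory.Q.mapTriangle.obj (CochainComplex.mappingCone.triangle b))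
    (DerivedCategory.Q.mapTriangle.obj (CochainComplex.mappingCone.triangle φ))
    ((DerivedCategory.mem_distTriang_iff _).2 ⟨_, _, b, ⟨Iso.refl _⟩⟩)
    ((DerivedCategory.mem_distTriang_iff _).2 ⟨_, _, φ, ⟨Iso.refl _⟩⟩)
    (@asIso _ _ _ _ (Q.map p) (isIso_Q_map p hp)) (@asIso _ _ _ _ (Q.map c) (isIso_Q_map c hc))
    (by
      change Q.map b ≫ Q.map c = Q.map p ≫ Q.map φ
      rw [← Q.map_comp, ← Q.map_comp, hbc]) ≪≫ eT.symm
  have e₁ : DCoh.toD X P ≅ T.obj₁ := Triangle.π₁.mapIso e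
  have e₂ : DCoh.toD X N ≅ T.obj₂ := Triangle.π₂.mapIso e
  have e₃ : DCoh.toD X (CochainComplex.mappingCone b) ≅ T.obj₃ := Triangle.π₃.mapIso e
  rw [van_iff F hP e₁, exactAt_iff_isZero_homology] at h₁
  rw [van_iff F hN e₂, exactAt_iff_isZero_homology] at h₂
  rw [van_iff F (KFlat.FlatR.mappingCone DCoh.tensorBi b hP hN) e₃, exactAt_iff_isZero_homology]
  let ψ := (tcx F).map b
  have hS := KFlat.shortExact_of_splitting (CochainComplex.mappingCone.triangleRotateShortComplex ψ)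
    (CochainComplex.mappingCone.triangleRotateShortComplexSplitting ψ)
  refine IsZero.of_iso ?_ ((homologyFunctor X.Modules (ComplexShape.up ℤ) i).mapIso
    (CochainComplex.mappingCone.mapHomologicalComplexIso b (DCoh.tensorRightMod F)))
  refine (hS.homology_exact₂ i).isZero_of_both_zeros (h₂.eq_of_src _ _) (IsZero.eq_of_tgt ?_ _ _)
  exact h₁.of_iso (((homologyFunctor X.Modules (ComplexShape.up ℤ) 0).shiftIso 1 i (i + 1)
    (by omega)).app ((tcx F).obj P))

lemma triangle_amp {T : Triangle (DCoh.D X)} (hT : T ∈ distinguishedTriangles) (F : X.Modules) (i : ℤ) :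
    (Van F T.obj₂ i → Van F T.obj₁ (i + 1) → Van F T.obj₃ i) ∧
    (Van F T.obj₁ i → Van F T.obj₃ i → Van F T.obj₂ i) ∧
    (Van F T.obj₂ i → Van F T.obj₃ (i - 1) → Van F T.obj₁ i) := by
  refine ⟨van_triangle F hT i, fun h1 h3 => ?_, fun h2 h3 => ?_⟩
  · exact van_triangle F (inv_rot_of_distTriang _ hT) i h1
      ((van_shift F T.obj₃ (-1) (i + 1) i (by omega)).2 h3)
  · exact van_triangle F (inv_rot_of_distTriang _ (inv_rot_of_distTriang _ hT)) i
      ((van_shift F T.obj₃ (-1) i (i - 1) (by omega)).2 h3)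
      ((van_shift F T.obj₂ (-1) (i + 1) i (by omega)).2 h2)

end Groth.Agent.ModGroth.Amp
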