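import Groth.Agent.ModGroth.TildeStalk
import Groth.Agent.ModGroth.Amplitude
import Mathlib.Algebra.Category.ModuleCat.Monoidal.Adjunction
import Mathlib.RingTheory.Flat.FaithfullyFlat.Algebra
import Mathlib.AlgebraicGeometry.Morphisms.Flat

/-!
# Stalks of termwise tensor products; descent of exactness along faithfully flat maps
-/

universe u

open CategoryTheory CategoryTheory.Limits Opposite AlgebraicGeometry HomologicalComplex MonoidalCategory

attribute [local instance] HasDerivedCategory.standard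

namespace Groth.Agent.ModGroth.Stalk

section

variable {X : Scheme.{u}} (x : X)

/-- `(M ⊗ F)_x ≅ M_x ⊗ F_x`, naturally in `M`. -/
noncomputable def tensorRightStalkIso (F : X.Modules) :
    DCoh.tensorRightMod F ⋙ DerSch.stalkFunctor X x ≅
      DerSch.stalkFunctor X x ⋙ tensorRight ((DerSch.stalkFunctor X x).obj F) :=
  (NatIso.ofComponents (fun M => tensorStalkIso x M F) fun a => tensorComparison_natL x a F).symm

variable {C : Type*} [Category* C] {D : Type*} [Category* D] {R : Type u} [CommRing R]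
  (G : C ⥤ X.Modules) (S : C ⥤ ModuleCat.{u} R) (φ : R →+* X.presheaf.stalk x)
  (e : G ⋙ DerSch.stalkFunctor X x ≅ S ⋙ ModuleCat.extendScalars.{u, u, u} φ)

/-- `(G M ⊗ G F)_x ≅ (S M ⊗ S F) ⊗_R 𝒪_x`. -/
noncomputable def tensorBaseIso (F : C) :
    (G ⋙ DCoh.tensorRightMod (G.obj F)) ⋙ DerSch.stalkFunctor X x ≅
      (S ⋙ tensorRight (S.obj F)) ⋙ ModuleCat.extendScalars.{u, u, u} φ :=
  Functor.associator _ _ _ ≪≫ Functor.isoWhiskerLeft G (tensorRightStalkIso x (G.obj F)) ≪≫
    (Functor.associator _ _ _).symm ≪≫ Functor.isoWhiskerRight e _ ≪≫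
    Functor.isoWhiskerLeft (S ⋙ ModuleCat.extendScalars.{u, u, u} φ)
      ((tensoringRight _).mapIso (e.app F)) ≪≫
    Functor.associator _ _ _ ≪≫
    Functor.isoWhiskerLeft S (Functor.Monoidal.commTensorRight (ModuleCat.extendScalars.{u, u, u} φ) (S.obj F)) ≪≫
    (Functor.associator _ _ _).symm

end

/-- Faithfully flat base change reflects exactness. -/
lemma exact_of_extend {R A : Type u} [CommRing R] [CommRing A] (φ : R →+* A)
    (hφ : φ.FaithfullyFlat) (S : ShortComplex (ModuleCat.{u} R))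
    (h : (S.map (ModuleCat.extendScalars.{u, u, u} φ)).Exact) : S.Exact := by
  algebraize [φ]
  rw [ShortComplex.ShortExact.moduleCat_exact_iff_function_exact] at h ⊢
  exact (Module.FaithfullyFlat.lTensor_exact_iff_exact R A _ _).1 h

/-- Stalk maps of flat morphisms are faithfully flat. -/
lemma faithfullyFlat_stalkMap {X Y : Scheme.{u}} (f : X ⟶ Y) [Flat f] (x : X) :
    (f.stalkMap x).hom.FaithfullyFlat := by
  algebraize [(f.stalkMap x).hom]
  exact @Module.FaithfullyFlat.of_flat_of_isLocalHom _ _ _ _ _ _ _ (Flat.stalkMap f x) (f.toLRSHom.prop x)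

variable {X Y : Scheme.{u}}

/-- `(f^* K ⊗ f^* F)_x ≅ (K_{fx} ⊗ F_{fx}) ⊗ 𝒪_{X,x}` on short complexes. -/
noncomputable def pullScIso (f : X ⟶ Y) (x : X) (K : CochainComplex Y.Modules ℤ) (F : Y.Modules) (i : ℤ) :
    ((((Amp.tcx ((Scheme.Modules.pullback f).obj F)).obj ((pcx f).obj K)).sc i).map (DerSch.stalkFunctor X x)) ≅
      (((K.sc i).map (DerSch.stalkFunctor Y (f.base x) ⋙
        tensorRight ((DerSch.stalkFunctor Y (f.base x)).obj F))).map
          (ModuleCat.extendScalars.{u, u, u} (f.stalkMap x).hom)) :=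
  (K.sc i).mapNatIso (tensorBaseIso x (Scheme.Modules.pullback f) (DerSch.stalkFunctor Y (f.base x))
    (f.stalkMap x).hom (pullStalkIso f x) F)

lemma exactAt_tcx_of_pullback (f : X ⟶ Y) [Flat f] [Surjective f] (K : CochainComplex Y.Modules ℤ)
    (F : Y.Modules) (i : ℤ)
    (h : ((Amp.tcx ((Scheme.Modules.pullback f).obj F)).obj ((pcx f).obj K)).ExactAt i) :
    ((Amp.tcx F).obj K).ExactAt i := by
  rw [exactAt_iff_isZero_homology]
  refine isZero_homology_of_stc _ i fun y => ?_
  obtain ⟨x, rfl⟩ := f.surjective y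
  rw [← exactAt_iff_isZero_homology, exactAt_iff]
  have h1 := (ShortComplex.exact_iff_of_iso (pullScIso f x K F i)).1
    (ShortComplex.Exact.map ((exactAt_iff _ _).1 h) (DerSch.stalkFunctor X x))
  exact (ShortComplex.exact_iff_of_iso ((K.sc i).mapNatIso (tensorRightStalkIso (f.base x) F))).2
    (exact_of_extend _ (faithfullyFlat_stalkMap f x) _ h1)

/-- Flat amplitude descends along flat surjective morphisms. -/
theorem flatAmp_of_lpull (f : X ⟶ Y) [Flat f] [Surjective f] [DCoh.HasLpull f] (E : DCoh.D Y) (a b : ℤ)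
    (h : DCoh.HasFlatAmplitudeIn a b ((DCoh.Lpull f).obj E)) (F : Y.Modules) (i : ℤ)
    (hi : i < a ∨ b < i) : Amp.Van F E i := by
  obtain ⟨K, hK, -, ⟨e⟩⟩ := Amp.exists_rep E
  refine (Amp.van_iff F hK e i).2 (exactAt_tcx_of_pullback f K F i ?_)
  exact (Amp.van_iff _ (isKFlat_pullback f K hK) ((lpullValueIso f hK).symm ≪≫ (DCoh.Lpull f).mapIso e) i).1
    (Amp.van_of_flatAmp h _ i hi)

end Groth.Agent.ModGroth.Stalk

namespace Groth.Agent.ModGroth.Amp

variable {X : Scheme.{u}}

/-- Tor amplitude gives flat representatives, also for an empty interval. -/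
lemma flatAmp_of_van {a b : ℤ} {E : DCoh.D X} (h : ∀ (F : X.Modules) (i : ℤ), (i < a ∨ b < i) → Van F E i) :
    DCoh.HasFlatAmplitudeIn a b E := by
  by_cases hab : a ≤ b
  · exact flatAmp_of_tor hab ((hasTor_iff a b E).2 h)
  have key : ∀ (c i : ℤ), i ≠ c → IsZero (DCoh.HD E i) := fun c i hi => by
    obtain ⟨T, hv, -, ⟨e⟩⟩ := flatAmp_of_tor (le_refl c) ((hasTor_iff c c E).2 fun F j _ => h F j (by omega))
    exact ((exactAt_iff_isZero_homology _ _).1 (ShortComplex.exact_of_isZero_X₂ (T.sc i) (hv i (by omega)))).of_iso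
      ((DerivedCategory.homologyFunctor X.Modules i).mapIso e.symm ≪≫
        (DerivedCategory.homologyFunctorFactors X.Modules i).app T)
  obtain ⟨Z, hZ⟩ := HasZeroObject.zero (C := CochainComplex X.Modules ℤ)
  have hQ : IsZero (DCoh.toD X Z) := DerivedCategory.Q.map_isZero hZ
  have hZi : ∀ i, IsZero (Z.X i) := fun i => (eval X.Modules (ComplexShape.up ℤ) i).map_isZero hZ
  have hE : IsZero E := by
    haveI : IsIso (0 : DCoh.toD X Z ⟶ E) := (DerivedCategory.isIso_iff _ _).2 fun i =>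
      ⟨0, (Functor.map_isZero _ hQ).eq_of_src _ _,
        (if hi : i = a then key (a + 1) i (by omega) else key a i hi).eq_of_src _ _⟩
    exact hQ.of_iso (asIso (0 : DCoh.toD X Z ⟶ E)).symm
  exact ⟨Z, fun i _ => hZi i, fun i => (isFlat_iff_flatMod _).1 (isFlat_of_isZero (O := X.sheaf) (hZi i)),
    ⟨hQ.iso hE⟩⟩

end Groth.Agent.ModGroth.Amp
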