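import Groth.Agent.ModGroth.FinLocFree
import Groth.Agent.ModGroth.Amplitude
import Groth.Agent.DRingPC.TorAmp
import Groth.Agent.KFlat.RingFlat
import Groth.Agent.QCohLib.Basic

/-!
# Restriction to opens on derived categories; perfect and pseudo-coherent objects
-/

universe u

open CategoryTheory CategoryTheory.Limits Opposite AlgebraicGeometry HomologicalComplex
  CategoryTheory.Pretriangulated

attribute [local instance] HasDerivedCategory.standard

namespace Groth.Agent.ModGroth.Perf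

section Cone

variable {A : Type*} [Category* A] [Abelian A] [HasDerivedCategory A]

open DerivedCategory

/-- Isomorphism above `m` and epimorphism at `m` on cohomology is vanishing of the cone. -/
lemma cond_iff {T : Triangle (DerivedCategory A)} (hT : T ∈ distinguishedTriangles) (m : ℤ) :
    ((∀ i : ℤ, m < i → IsIso ((DerivedCategory.homologyFunctor A i).map T.mor₁)) ∧ Epi ((DerivedCategory.homologyFunctor A m).map T.mor₁)) ↔
      ∀ i : ℤ, m ≤ i → IsZero ((DerivedCategory.homologyFunctor A i).obj T.obj₃) := by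
  constructor
  · rintro ⟨h1, h2⟩ i hi
    have he : Epi ((DerivedCategory.homologyFunctor A i).map T.mor₁) := by
      rcases eq_or_lt_of_le hi with rfl | hlt
      · exact h2
      · haveI := h1 i hlt; infer_instance
    have hm : Mono ((DerivedCategory.homologyFunctor A (i + 1)).map T.mor₁) := by
      haveI := h1 (i + 1) (by omega); infer_instance
    exact (HomologySequence.exact₃ _ hT i (i + 1)).isZero_of_both_zeros
      ((HomologySequence.epi_homologyMap_mor₁_iff _ hT i).1 he)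
      ((HomologySequence.mono_homologyMap_mor₁_iff _ hT i (i + 1)).1 hm)
  · intro h
    have he : ∀ i, m ≤ i → Epi ((DerivedCategory.homologyFunctor A i).map T.mor₁) := fun i hi =>
      (HomologySequence.epi_homologyMap_mor₁_iff _ hT i).2 ((h i hi).eq_of_tgt _ _)
    refine ⟨fun i hi => ?_, he m le_rfl⟩
    haveI := he i hi.le
    haveI : Mono ((DerivedCategory.homologyFunctor A i).map T.mor₁) :=
      (HomologySequence.mono_homologyMap_mor₁_iff _ hT (i - 1) i (by omega)).2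
        ((h (i - 1) (by omega)).eq_of_src _ _)
    exact isIso_of_mono_of_epi _

/-- The condition of `m`-pseudo-coherence on a morphism. -/
def HCond (m : ℤ) {K L : DerivedCategory A} (α : K ⟶ L) : Prop :=
  (∀ i : ℤ, m < i → IsIso ((DerivedCategory.homologyFunctor A i).map α)) ∧ Epi ((DerivedCategory.homologyFunctor A m).map α)

lemma HCond.comp_iso {m : ℤ} {K L K' L' : DerivedCategory A} {α : K ⟶ L} (h : HCond m α)
    (u : K' ⟶ K) (v : L ⟶ L') [IsIso u] [IsIso v] : HCond m (u ≫ α ≫ v) := by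
  refine ⟨fun i hi => ?_, ?_⟩
  · haveI := h.1 i hi
    rw [Functor.map_comp, Functor.map_comp]
    infer_instance
  · haveI := h.2
    rw [Functor.map_comp, Functor.map_comp]
    infer_instance

lemma hCond_Q_map_iff (m : ℤ) {K L : CochainComplex A ℤ} (a : K ⟶ L) :
    HCond m (Q.map a) ↔ ∀ i : ℤ, m ≤ i → (CochainComplex.mappingCone a).ExactAt i := by
  refine (cond_iff (T := Q.mapTriangle.obj (CochainComplex.mappingCone.triangle a))
    ((mem_distTriang_iff _).2 ⟨_, _, a, ⟨Iso.refl _⟩⟩) m).trans (forall_congr' fun i => imp_congr_right fun _ => ?_)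
  rw [exactAt_iff_isZero_homology]
  exact ((DerivedCategory.homologyFunctorFactors A i).app (CochainComplex.mappingCone a)).isZero_iff

end Cone

variable {X Y : Scheme.{u}}

/-- Base change of a K-flat complex keeps cohomology above `m` zero. -/
lemma exactAt_ext_of_kFlat {R S : Type u} [CommRing R] [CommRing S] (φ : R →+* S) {C : DRing.Cx R}
    (hC : DRing.IsKFlat R C) (m : ℤ) (h : ∀ i, m ≤ i → C.ExactAt i) (i : ℤ) (hi : m ≤ i) :
    ((DTen.extCx φ).obj C).ExactAt i := by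
  have : (DerivedCategory.Q.obj C).IsLE (m - 1) := (DerivedCategory.isLE_iff _ _).2 fun j hj =>
    ((exactAt_iff_isZero_homology C j).1 (h j (by omega))).of_iso
      ((DerivedCategory.homologyFunctorFactors _ j).app C)
  obtain ⟨P, hP, hPz, ⟨e⟩⟩ := DRingPC.exists_projective_rep R (DerivedCategory.Q.obj C) (m - 1)
  obtain ⟨g, hg⟩ := PCohLib.exists_Q_map_eq (P := DRingPC.PR R) (DRingPC.PR.lift R) P hP (m - 1) hPz C e.hom
  have hg' : QuasiIso g := by
    rw [← DerivedCategory.isIso_Q_map_iff_quasiIso, hg]; infer_instance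
  have hPflat : DRing.IsKFlat R P :=
    KFlat.isKFlat_of_boundedAbove (m - 1) hPz fun n => haveI := hP n; Module.Flat.of_projective
  have := LBC.quasiIso_ext_of_kFlat φ hPflat hC g hg'
  rw [exactAt_iff_isZero_homology]
  exact ((exactAt_iff_isZero_homology _ _).1 (ShortComplex.exact_of_isZero_X₂ (((DTen.extCx φ).obj P).sc i)
    ((ModuleCat.extendScalars.{u, u, u} φ).map_isZero (hPz i (by omega))))).of_iso
    (asIso (homologyMap ((DTen.extCx φ).map g) i)).symm

/-- Pullback of a K-flat complex keeps cohomology above `m` zero. -/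
lemma exactAt_pullback_of_kFlat (f : X ⟶ Y) {C : CochainComplex Y.Modules ℤ} (hC : DCoh.IsKFlat C) (m : ℤ)
    (h : ∀ i, m ≤ i → C.ExactAt i) (i : ℤ) (hi : m ≤ i) : ((Stalk.pcx f).obj C).ExactAt i := by
  rw [exactAt_iff_isZero_homology]
  refine Stalk.isZero_homology_of_stc _ i fun x => ?_
  refine IsZero.of_iso ?_ ((homologyFunctor _ (ComplexShape.up ℤ) i).mapIso (Stalk.pullStalkCxIso f x C))
  rw [homologyFunctor_obj, ← exactAt_iff_isZero_homology]
  exact exactAt_ext_of_kFlat _ (Stalk.stalks_of_isKFlat (f.base x) C hC) m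
    (fun j hj => (exactAt_iff_isZero_homology _ _).2
      (Stalk.isZero_homology_stc (f.base x) C j ((exactAt_iff_isZero_homology _ _).1 (h j hj)))) i hi

/-- Restriction to an open is exact. -/
instance preservesFiniteLimits_restrict {U : Scheme.{u}} (j : U ⟶ X) [IsOpenImmersion j] :
    PreservesFiniteLimits (Scheme.Modules.restrictFunctor j) :=
  haveI : PreservesFiniteColimits (Scheme.Modules.restrictFunctor j) :=
    haveI : PreservesColimitsOfSize.{0, 0} (Scheme.Modules.restrictFunctor j) :=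
      (Scheme.Modules.restrictAdjunction j).leftAdjoint_preservesColimits
    PreservesColimitsOfSize.preservesFiniteColimits _
  preservesFiniteLimits_of_mono _ fun M N g _ => (QCohLib.mono_iff_app_injective _).2 fun V =>
    (QCohLib.mono_iff_app_injective g).1 ‹_› (j ''ᵁ V)

instance preservesFiniteColimits_restrict {U : Scheme.{u}} (j : U ⟶ X) [IsOpenImmersion j] :
    PreservesFiniteColimits (Scheme.Modules.restrictFunctor j) :=
  haveI : PreservesColimitsOfSize.{0, 0} (Scheme.Modules.restrictFunctor j) :=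
    (Scheme.Modules.restrictAdjunction j).leftAdjoint_preservesColimits
  PreservesColimitsOfSize.preservesFiniteColimits _

/-- `K ↦ K|_V` on derived categories. -/
noncomputable def rD (V : X.Opens) : DCoh.D X ⥤ DCoh.D (V : Scheme.{u}) :=
  (Scheme.Modules.restrictFunctor V.ι).mapDerivedCategory

/-- Computed termwise. -/
noncomputable def rDIso (V : X.Opens) {F : CochainComplex X.Modules ℤ} {K : DCoh.D X} (e : DCoh.toD X F ≅ K) :
    DCoh.toD (V : Scheme.{u}) ((DCoh.restrictCx V).obj F) ≅ (rD V).obj K :=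
  ((Scheme.Modules.restrictFunctor V.ι).mapDerivedCategoryFactors.app F).symm ≪≫ (rD V).mapIso e

lemma isPerfect_iff (K : DCoh.D X) : DCoh.IsPerfect K ↔
    ∀ x : X, ∃ (V : X.Opens), x ∈ V ∧ ∃ E : CochainComplex (V : Scheme.{u}).Modules ℤ,
      DCoh.IsStrictlyPerfect E ∧ Nonempty ((rD V).obj K ≅ DCoh.toD (V : Scheme.{u}) E) := by
  refine forall_congr' fun x => ⟨?_, ?_⟩
  · rintro ⟨V, hx, h⟩
    obtain ⟨E, hE, ⟨e⟩⟩ := h _ ⟨DerivedCategory.Q.objObjPreimageIso K⟩
    exact ⟨V, hx, E, hE, ⟨(rDIso V (DerivedCategory.Q.objObjPreimageIso K)).symm ≪≫ e⟩⟩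
  · rintro ⟨V, hx, E, hE, ⟨e⟩⟩
    exact ⟨V, hx, fun F ⟨a⟩ => ⟨E, hE, ⟨rDIso V a ≪≫ e⟩⟩⟩

lemma isPseudoCoherentD_iff (m : ℤ) (K : DCoh.D X) : DCoh.IsPseudoCoherentD m K ↔
    ∀ x : X, ∃ (V : X.Opens), x ∈ V ∧ ∃ (E : CochainComplex (V : Scheme.{u}).Modules ℤ)
      (α : DCoh.toD (V : Scheme.{u}) E ⟶ (rD V).obj K), DCoh.IsStrictlyPerfect E ∧ HCond m α := by
  refine forall_congr' fun x => ⟨?_, ?_⟩
  · rintro ⟨V, hx, h⟩
    obtain ⟨E, α, hE, h1, h2⟩ := h _ ⟨DerivedCategory.Q.objObjPreimageIso K⟩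
    exact ⟨V, hx, E, 𝟙 _ ≫ α ≫ (rDIso V (DerivedCategory.Q.objObjPreimageIso K)).hom, hE,
      HCond.comp_iso (α := α) ⟨h1, h2⟩ _ _⟩
  · rintro ⟨V, hx, E, α, hE, hα⟩
    exact ⟨V, hx, fun F ⟨a⟩ => ⟨E, 𝟙 _ ≫ α ≫ (rDIso V a).inv, hE, hα.comp_iso _ _⟩⟩

/-- Restrictions of K-flat complexes are K-flat. -/
lemma isKFlat_restrictCx (V : X.Opens) {P : CochainComplex X.Modules ℤ} (hP : DCoh.IsKFlat P) :
    DCoh.IsKFlat ((DCoh.restrictCx V).obj P) :=
  KFlat.FlatR.of_iso (DCoh.tensorBi (X := (V : Scheme.{u})))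
    ((NatIso.mapHomologicalComplex (Scheme.Modules.restrictFunctorIsoPullback V.ι) (ComplexShape.up ℤ)).app P).symm
    (Stalk.isKFlat_pullback V.ι P hP)

/-- `(f^* P)|_{f⁻¹V} ≅ g^*(P|_V)`. -/
noncomputable def restrPullCxIso (f : X ⟶ Y) (V : Y.Opens) (P : CochainComplex Y.Modules ℤ) :
    (Stalk.pcx (f ∣_ V)).obj ((DCoh.restrictCx V).obj P) ≅
      (DCoh.restrictCx (f ⁻¹ᵁ V)).obj ((Stalk.pcx f).obj P) :=
  (NatIso.mapHomologicalComplex (restrPullIso f (f ∣_ V) _ _ (morphismRestrict_ι f V)) (ComplexShape.up ℤ)).app P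

/-- Derived pullback commutes with restriction to opens, on K-flat complexes. -/
noncomputable def lpullRestrictIso (f : X ⟶ Y) [DCoh.HasLpull f] (V : Y.Opens)
    {P : CochainComplex Y.Modules ℤ} (hP : DCoh.IsKFlat P) {K : DCoh.D Y} (e : DCoh.toD Y P ≅ K) :
    DCoh.toD ((f ⁻¹ᵁ V : X.Opens) : Scheme.{u}) ((Stalk.pcx (f ∣_ V)).obj ((DCoh.restrictCx V).obj P)) ≅
      (rD (f ⁻¹ᵁ V)).obj ((DCoh.Lpull f).obj K) :=
  DerivedCategory.Q.mapIso (restrPullCxIso f V P) ≪≫
    rDIso _ ((Stalk.lpullValueIso f hP).symm ≪≫ (DCoh.Lpull f).mapIso e)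

/-- Perfect objects pull back to perfect objects. -/
theorem isPerfect_lpull (f : X ⟶ Y) [DCoh.HasLpull f] (K : DCoh.D Y) (hK : DCoh.IsPerfect K) :
    DCoh.IsPerfect ((DCoh.Lpull f).obj K) := by
  rw [isPerfect_iff] at hK ⊢
  intro x
  obtain ⟨V, hx, E, hE, ⟨e⟩⟩ := hK (f.base x)
  obtain ⟨P, hP, -, ⟨eP⟩⟩ := Amp.exists_rep K
  refine ⟨f ⁻¹ᵁ V, hx, _, isStrictlyPerfect_pullback (f ∣_ V) hE, ⟨?_⟩⟩
  haveI := Stalk.hasLpull (f ∣_ V)
  exact (lpullRestrictIso f V hP eP).symm ≪≫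
    (Stalk.lpullValueIso (f ∣_ V) (isKFlat_restrictCx V hP)).symm ≪≫
    (DCoh.Lpull (f ∣_ V)).mapIso (rDIso V eP ≪≫ e) ≪≫
    Stalk.lpullValueIso (f ∣_ V) (isKFlat_of_isStrictlyPerfect hE)

/-- Pullback preserves `HCond` between K-flat complexes. -/
lemma hCond_pullback (f : X ⟶ Y) {K L : CochainComplex Y.Modules ℤ} (hK : DCoh.IsKFlat K) (hL : DCoh.IsKFlat L)
    (a : K ⟶ L) (m : ℤ) (h : HCond m ((DerivedCategory.Q : CochainComplex Y.Modules ℤ ⥤ DCoh.D Y).map a)) :
    HCond m ((DerivedCategory.Q : CochainComplex X.Modules ℤ ⥤ DCoh.D X).map ((Stalk.pcx f).map a)) := by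
  rw [hCond_Q_map_iff] at h ⊢
  intro i hi
  exact (exactAt_pullback_of_kFlat f (KFlat.FlatR.mappingCone (DCoh.tensorBi (X := Y)) a hK hL) m h i hi).of_iso
    (CochainComplex.mappingCone.mapHomologicalComplexIso a (Scheme.Modules.pullback f))

/-- Pseudo-coherent objects pull back to pseudo-coherent objects. -/
theorem isPseudoCoherentD_lpull (f : X ⟶ Y) [DCoh.HasLpull f] (m : ℤ) (K : DCoh.D Y)
    (hK : DCoh.IsPseudoCoherentD m K) : DCoh.IsPseudoCoherentD m ((DCoh.Lpull f).obj K) := by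
  rw [isPseudoCoherentD_iff] at hK ⊢
  intro x
  obtain ⟨V, hx, E, α, hE, hα⟩ := hK (f.base x)
  obtain ⟨P, hP, -, ⟨eP⟩⟩ := Amp.exists_rep K
  obtain ⟨E', s, hs, a, ha⟩ := DerivedCategory.right_fac (α ≫ (rDIso V eP).inv)
  obtain ⟨S, p, hS, -, hp, -⟩ := scheme_exists_resolution E'
  let Q' : CochainComplex (V : Scheme.{u}).Modules ℤ ⥤ DCoh.D (V : Scheme.{u}) := DerivedCategory.Q
  have hp' : IsIso (Q'.map p) := Amp.isIso_Q_map p hp
  have hs' : IsIso (Q'.map s) := hs
  have h1 : HCond m (Q'.map (p ≫ a)) := by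
    have e1 : Q'.map (p ≫ a) = (Q'.map p ≫ Q'.map s) ≫ α ≫ (rDIso V eP).inv := by
      rw [ha, Q'.map_comp, Category.assoc]
      exact congrArg (Q'.map p ≫ ·) (IsIso.hom_inv_id_assoc _ _).symm
    rw [e1]
    exact hα.comp_iso _ _
  have h2 := hCond_pullback (f ∣_ V) hS (isKFlat_restrictCx V hP) (p ≫ a) m h1
  have hq : QuasiIso (p ≫ s) := by
    rw [← DerivedCategory.isIso_Q_map_iff_quasiIso]
    show IsIso (Q'.map (p ≫ s))
    rw [Q'.map_comp]
    infer_instance
  have h3 : QuasiIso ((Stalk.pcx (f ∣_ V)).map (p ≫ s)) :=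
    Stalk.goodInverts_pullback (f ∣_ V) (p ≫ s) hS (isKFlat_of_isStrictlyPerfect hE) hq
  haveI := Amp.isIso_Q_map ((Stalk.pcx (f ∣_ V)).map (p ≫ s)) h3
  exact ⟨f ⁻¹ᵁ V, hx, _,
    inv ((DerivedCategory.Q : CochainComplex _ ℤ ⥤ DCoh.D ((f ⁻¹ᵁ V : X.Opens) : Scheme.{u})).map
      ((Stalk.pcx (f ∣_ V)).map (p ≫ s))) ≫ _ ≫ (lpullRestrictIso f V hP eP).hom,
    isStrictlyPerfect_pullback (f ∣_ V) hE, h2.comp_iso _ _⟩

end Groth.Agent.ModGroth.Perf
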