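import Groth.Agent.ModGroth.PullStalk
import Groth.Agent.ModGroth.Amplitude

/-!
# Derived pullbacks compose; flat amplitude is preserved
-/

universe u

open CategoryTheory CategoryTheory.Limits AlgebraicGeometry HomologicalComplex

attribute [local instance] HasDerivedCategory.standard

namespace Groth.Agent.ModGroth.LpullComp

variable {X Y Z : Scheme.{u}}

lemma inverts (f : X ⟶ Y) :
    (kresX Y).Inverts (Stalk.pcx f ⋙ (DerivedCategory.Q : CochainComplex X.Modules ℤ ⥤ DCoh.D X)) :=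
  fun _ _ φ hK hL hφ => Amp.isIso_Q_map _ (Stalk.goodInverts_pullback f φ hK hL ((mem_quasiIso_iff _).1 hφ))

/-- `Lf^* ∘ Lg^* ≅ L(g ∘ f)^*`. -/
lemma nonempty_lpullComp (f : X ⟶ Y) (g : Y ⟶ Z) [DCoh.HasLpull f] [DCoh.HasLpull g]
    [DCoh.HasLpull (f ≫ g)] :
    Nonempty (DCoh.Lpull g ⋙ DCoh.Lpull f ≅ DCoh.Lpull (f ≫ g)) := by
  let W := HomologicalComplex.quasiIso Z.Modules (ComplexShape.up ℤ)
  let QX : CochainComplex X.Modules ℤ ⥤ DCoh.D X := DerivedCategory.Q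
  let QY : CochainComplex Y.Modules ℤ ⥤ DCoh.D Y := DerivedCategory.Q
  let QZ : CochainComplex Z.Modules ℤ ⥤ DCoh.D Z := DerivedCategory.Q
  have : QZ.IsLocalization W :=
    inferInstanceAs ((DerivedCategory.Q : CochainComplex Z.Modules ℤ ⥤ DCoh.D Z).IsLocalization W)
  let cf : QY ⋙ DCoh.Lpull f ⟶ Stalk.pcx f ⋙ QX :=
    DerivedLeft.comparison (hK := ‹DCoh.HasLpull f›) (Scheme.Modules.pullback f)
  let cg : QZ ⋙ DCoh.Lpull g ⟶ Stalk.pcx g ⋙ QY :=
    DerivedLeft.comparison (hK := ‹DCoh.HasLpull g›) (Scheme.Modules.pullback g)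
  let cfg : QZ ⋙ DCoh.Lpull (f ≫ g) ⟶ Stalk.pcx (f ≫ g) ⋙ QX :=
    DerivedLeft.comparison (hK := ‹DCoh.HasLpull (f ≫ g)›) (Scheme.Modules.pullback (f ≫ g))
  let e : Stalk.pcx g ⋙ Stalk.pcx f ≅ Stalk.pcx (f ≫ g) :=
    Functor.mapHomologicalComplexCompIso (Scheme.Modules.pullbackComp f g) (ComplexShape.up ℤ)
  let γ : QZ ⋙ DCoh.Lpull g ⋙ DCoh.Lpull f ⟶ Stalk.pcx (f ≫ g) ⋙ QX :=
    Functor.whiskerRight cg (DCoh.Lpull f) ≫ Functor.whiskerLeft (Stalk.pcx g) cf ≫ Functor.whiskerRight e.hom QX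
  have hfg := inverts (f ≫ g)
  have h1 : (DCoh.Lpull (f ≫ g)).IsLeftDerivedFunctor cfg W :=
    (kresX Z).isLeftDerivedFunctor_of_isIso QZ hfg _ cfg fun K hK =>
      DerivedLeft.isIso_comparison (hK := ‹DCoh.HasLpull (f ≫ g)›) (Stalk.goodInverts_pullback (f ≫ g)) hK
  have h2 : (DCoh.Lpull g ⋙ DCoh.Lpull f).IsLeftDerivedFunctor γ W :=
    (kresX Z).isLeftDerivedFunctor_of_isIso QZ hfg _ γ fun K hK => by
      have i1 : IsIso (cg.app K) :=
        DerivedLeft.isIso_comparison (hK := ‹DCoh.HasLpull g›) (Stalk.goodInverts_pullback g) hK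
      have i2 : IsIso (cf.app ((Stalk.pcx g).obj K)) :=
        DerivedLeft.isIso_comparison (hK := ‹DCoh.HasLpull f›) (Stalk.goodInverts_pullback f)
          (Stalk.isKFlat_pullback g K hK)
      exact IsIso.comp_isIso' (Functor.map_isIso (DCoh.Lpull f) (cg.app K))
        (IsIso.comp_isIso' i2 (Functor.map_isIso QX (e.hom.app K)))
  exact ⟨Functor.leftDerivedUnique _ _ γ cfg W⟩

lemma flatAmp_lpull (f : X ⟶ Y) [DCoh.HasLpull f] (E : DCoh.D Y) (a b : ℤ)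
    (hE : DCoh.HasFlatAmplitudeIn a b E) : DCoh.HasFlatAmplitudeIn a b ((DCoh.Lpull f).obj E) := by
  obtain ⟨K, hv, hf, ⟨e⟩⟩ := hE
  have hle : K.IsStrictlyLE b := (CochainComplex.isStrictlyLE_iff K b).2 fun n hn => hv n (Or.inr hn)
  exact ⟨(Stalk.pcx f).obj K, fun n hn => Functor.map_isZero (Scheme.Modules.pullback f) (hv n hn),
    fun n => Stalk.isFlat_pullback f (hf n),
    ⟨(Stalk.lpullValueIso f (scheme_isKFlat_of_boundedAbove K b hle hf)).symm ≪≫ (DCoh.Lpull f).mapIso e⟩⟩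

end Groth.Agent.ModGroth.LpullComp
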