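import Mathlib.Algebra.Homology.Embedding.CochainComplex
import Mathlib.CategoryTheory.Abelian.Exact
import Mathlib.CategoryTheory.Preadditive.Projective.Resolution
import Mathlib.CategoryTheory.Abelian.Projective.Extend

/-!
# Bounded above resolutions by objects of a class with enough members
-/

universe v u

open CategoryTheory CategoryTheory.Limits HomologicalComplex

namespace Groth.Agent.ModGroth.CoverRes

variable {A : Type u} [Category.{v} A] [Abelian A] (ov : A → A) (p : ∀ Z, ov Z ⟶ Z) [∀ Z, Epi (p Z)]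

/-- The next differential. -/
noncomputable abbrev dd {Y Z : A} (f : Y ⟶ Z) : ov (kernel f) ⟶ Y := p (kernel f) ≫ kernel.ι f

omit [∀ Z, Epi (p Z)] in
@[reassoc (attr := simp)]
lemma dd_comp {Y Z : A} (f : Y ⟶ Z) : dd ov p f ≫ f = 0 := by simp

lemma exact_dd {Y Z : A} (f : Y ⟶ Z) :
    (ShortComplex.mk (dd ov p f) f (by simp)).Exact := by
  rw [ShortComplex.exact_iff_epi_kernel_lift]
  convert (inferInstance : Epi (p (kernel f)))
  rw [← cancel_mono (kernel.ι _), kernel.lift_ι]

/-- The resolution, as a chain complex. -/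
noncomputable def cx (Z : A) : ChainComplex A ℕ :=
  ChainComplex.mk' (ov Z) (ov (kernel (p Z))) (dd ov p (p Z)) (fun f => ⟨_, dd ov p f, by simp⟩)

omit [∀ Z, Epi (p Z)] in
lemma cx_d_1_0 (Z : A) : (cx ov p Z).d 1 0 = dd ov p (p Z) := by simp [cx]

omit [∀ Z, Epi (p Z)] in
lemma cx_prop (P : A → Prop) (hP : ∀ Z, P (ov Z)) (Z : A) (n : ℕ) : P ((cx ov p Z).X n) := by
  obtain (_ | _ | _ | n) := n <;> apply hP

set_option backward.isDefEq.respectTransparency.types false in
lemma cx_exactAt (Z : A) (n : ℕ) : (cx ov p Z).ExactAt (n + 1) := by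
  rw [HomologicalComplex.exactAt_iff' _ (n + 1 + 1) (n + 1) n (by simp) (by simp)]
  simp only [HomologicalComplex.sc', HomologicalComplex.shortComplexFunctor', cx,
    ChainComplex.mk', ChainComplex.mk, ChainComplex.of_d]
  match n with
  | 0 => apply exact_dd
  | n + 1 => apply exact_dd

/-- The augmentation. -/
noncomputable def aug (Z : A) : cx ov p Z ⟶ (ChainComplex.single₀ A).obj Z :=
  (ChainComplex.toSingle₀Equiv _ _).symm ⟨p Z, by
    rw [cx_d_1_0]
    exact dd_comp ov p (p Z)⟩

set_option backward.defeqAttrib.useBackward true in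
set_option backward.isDefEq.respectTransparency false in
lemma quasiIso_aug (Z : A) : QuasiIso (aug ov p Z) := ⟨fun n => by
  cases n
  · rw [ChainComplex.quasiIsoAt₀_iff, ShortComplex.quasiIso_iff_of_zeros']
    · dsimp
      refine (ShortComplex.exact_and_epi_g_iff_of_iso ?_).2
        ⟨exact_dd ov p (p Z), by dsimp; infer_instance⟩
      exact ShortComplex.isoMk (Iso.refl _) (Iso.refl _) (Iso.refl _)
        (by simp [cx]) (by simp [aug])
    all_goals rfl
  · rw [quasiIsoAt_iff_exactAt']
    · apply cx_exactAt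
    · apply ChainComplex.exactAt_succ_single_obj⟩

/-- The resolution, as a cochain complex. -/
noncomputable def cxZ (Z : A) : CochainComplex A ℤ := (cx ov p Z).extend ComplexShape.embeddingDownNat

instance (Z : A) : (cxZ ov p Z).IsStrictlyLE 0 := by
  dsimp [cxZ]
  infer_instance

/-- The augmentation on cochain complexes. -/
noncomputable def augZ (Z : A) : cxZ ov p Z ⟶ (CochainComplex.singleFunctor A 0).obj Z :=
  (ComplexShape.embeddingDownNat.extendFunctor A).map (aug ov p Z) ≫
    (HomologicalComplex.extendSingleIso _ _ _ _ (by simp)).hom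

set_option backward.defeqAttrib.useBackward true in
set_option backward.isDefEq.respectTransparency false in
instance (Z : A) : QuasiIso (augZ ov p Z) := by
  have := quasiIso_aug ov p Z
  dsimp [augZ]
  infer_instance

lemma cxZ_prop (P : A → Prop) (hP : ∀ Z, P (ov Z)) (hzero : ∀ Z, IsZero Z → P Z)
    (hiso : ∀ {Y Z : A}, (Y ≅ Z) → P Y → P Z) (Z : A) (n : ℤ) : P ((cxZ ov p Z).X n) := by
  by_cases hn : n ≤ 0
  · obtain ⟨k, rfl⟩ := Int.exists_eq_neg_ofNat hn
    exact hiso (HomologicalComplex.extendXIso (cx ov p Z) ComplexShape.embeddingDownNat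
      (i := k) (i' := -(k : ℤ)) (by simp)).symm (cx_prop ov p P hP Z k)
  · exact hzero _ (CochainComplex.isZero_of_isStrictlyLE _ 0 n (by omega))

omit [∀ Z, Epi (p Z)] in
/-- If every object is a quotient of a good one, every object has a bounded above good resolution. -/
lemma exists_resolution (P : A → Prop) (hcov : ∀ Z : A, ∃ (W : A) (π : W ⟶ Z), P W ∧ Epi π)
    (hzero : ∀ Z, IsZero Z → P Z) (hiso : ∀ {Y Z : A}, (Y ≅ Z) → P Y → P Z) (Z : A) :
    ∃ (K : CochainComplex A ℤ) (q : K ⟶ (CochainComplex.singleFunctor A 0).obj Z),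
      K.IsStrictlyLE 0 ∧ (∀ n, P (K.X n)) ∧ QuasiIso q := by
  choose W π hW hπ using hcov
  exact ⟨cxZ W π Z, augZ W π Z, inferInstance, cxZ_prop W π P hW hzero hiso Z, inferInstance⟩

end Groth.Agent.ModGroth.CoverRes
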