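import Groth.Agent.ModGroth.Amplitude
import Groth.Agent.ModGroth.CoverRes
import Mathlib.Algebra.Homology.SingleHomology

/-!
# Flatness is vanishing of `Tor₁`
-/

universe u

open CategoryTheory CategoryTheory.Limits HomologicalComplex AlgebraicGeometry

attribute [local instance] HasDerivedCategory.standard

namespace Groth.Agent.ModGroth.FlatTor

variable {X : Scheme.{u}}

lemma flatMod_of_iso {F G : X.Modules} (e : F ≅ G) (h : FlatMod.IsFlat F) : FlatMod.IsFlat G :=
  (isFlat_iff_flatMod G).1 (isFlat_of_iso (O := X.sheaf) e ((isFlat_iff_flatMod F).2 h))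

lemma flatMod_of_isZero {F : X.Modules} (h : IsZero F) : FlatMod.IsFlat F :=
  (isFlat_iff_flatMod F).1 (isFlat_of_isZero (O := X.sheaf) h)

lemma exists_flat_epi' (F : X.Modules) : ∃ (G : X.Modules) (π : G ⟶ F), FlatMod.IsFlat G ∧ Epi π := by
  obtain ⟨G, π, h1, h2⟩ := exists_flat_epi (O := X.sheaf) F
  exact ⟨G, π, (isFlat_iff_flatMod _).1 h1, h2⟩

/-- A flat module in degree zero. -/
lemma flatAmp_inD (F : X.Modules) (h : FlatMod.IsFlat F) : DCoh.HasFlatAmplitudeIn 0 0 (DCoh.inD X F) :=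
  ⟨(CochainComplex.singleFunctor X.Modules 0).obj F,
    fun i hi => isZero_single_obj_X (ComplexShape.up ℤ) 0 F i (by omega),
    fun i => if hi : i = 0 then by
        subst hi
        exact flatMod_of_iso (singleObjXSelf (ComplexShape.up ℤ) 0 F).symm h
      else flatMod_of_isZero (isZero_single_obj_X (ComplexShape.up ℤ) 0 F i hi),
    ⟨((DerivedCategory.singleFunctorIsoCompQ X.Modules 0).app F).symm⟩⟩

lemma isZero_of_flat (F : X.Modules) (h : FlatMod.IsFlat F) (G : X.Modules) [DCoh.HasLTensorMod G] :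
    IsZero (DCoh.HD ((DCoh.LTensorMod G).obj (DCoh.inD X F)) (-1)) :=
  Amp.van_of_flatAmp (flatAmp_inD F h) G (-1) (Or.inl (by omega))

lemma isFlat_of_tor (F : X.Modules) (h : ∀ G : X.Modules, Amp.Van G (DCoh.inD X F) (-1)) :
    FlatMod.IsFlat F := by
  obtain ⟨L, q, hL, hflat, hq⟩ := CoverRes.exists_resolution (A := X.Modules) FlatMod.IsFlat
    exists_flat_epi' (fun _ => flatMod_of_isZero) (fun e => flatMod_of_iso e) F
  have hK := scheme_isKFlat_of_boundedAbove L 0 hL hflat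
  let e : DCoh.toD X L ≅ DCoh.inD X F :=
    @asIso _ _ _ _ _ (Amp.isIso_Q_map q hq) ≪≫
      ((DerivedCategory.singleFunctorIsoCompQ X.Modules 0).app F).symm
  have hC := isFlat_cokernel_d (O := X.sheaf) L (-2) (-1) 0 (by omega) (by omega)
    ((isFlat_iff_flatMod _).2 (hflat 0)) fun G => (Amp.van_iff G hK e (-1)).1 (h G)
  refine flatMod_of_iso ?_ ((isFlat_iff_flatMod _).1 hC)
  have hd : L.d 0 1 = 0 := (CochainComplex.isZero_of_isStrictlyLE L 0 1 (by omega)).eq_of_tgt _ _
  have := (quasiIsoAt_iff_isIso_homologyMap q 0).1 (hq.quasiIsoAt 0)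
  exact (cokernelIsCokernel (L.d (-1) 0)).coconePointUniqueUpToIso (L.opcyclesIsCokernel (-1) 0 (by simp)) ≪≫
    (L.isoHomologyι 0 1 (by simp) hd).symm ≪≫ asIso (homologyMap q 0) ≪≫
      singleObjHomologySelfIso (ComplexShape.up ℤ) 0 F

end Groth.Agent.ModGroth.FlatTor
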