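import Groth.Agent.ModGroth.AmpDescent
import Groth.Agent.DRingPC.TorAmp
import Groth.Prelude.Def_DCoh2

/-!
# Tor amplitude of `M~`
-/

universe u

open CategoryTheory CategoryTheory.Limits Opposite AlgebraicGeometry HomologicalComplex MonoidalCategory

attribute [local instance] HasDerivedCategory.standard

namespace Groth.Agent.ModGroth.Stalk

variable {R : CommRingCat.{u}} [PreservesFiniteLimits (tilde.functor R)]

lemma preservesHomology_tilde : (tilde.functor R).PreservesHomology := by
  have : PreservesColimitsOfSize.{u, u} (tilde.functor R) := (tilde.adjunction).leftAdjoint_preservesColimits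
  have : PreservesFiniteColimits (tilde.functor R) := PreservesColimitsOfSize.preservesFiniteColimits _
  infer_instance

lemma exactAt_tilde_iff (P : DRing.Cx R) (i : ℤ) : ((tcxS R).obj P).ExactAt i ↔ P.ExactAt i := by
  have : (tilde.functor R).PreservesHomology := preservesHomology_tilde
  exact (P.sc i).exact_map_iff_of_faithful (tilde.functor R)

lemma isFlat_tilde {M : ModuleCat.{u} R} (hM : Module.Flat R M) :
    FlatMod.IsFlat ((tilde.functor R).obj M) := fun x => by
  have h2 : Module.Flat ((Spec R).presheaf.stalk x) ((ModuleCat.extendScalars.{u, u, u} (toStk x)).obj M) := by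
    letI := (toStk x).toAlgebra
    exact inferInstanceAs (Module.Flat ((Spec R).presheaf.stalk x)
      (TensorProduct R ((Spec R).presheaf.stalk x) M))
  exact @Module.Flat.of_linearEquiv _ _ _ _ _ _ _ _ h2 ((tildeStalkIso x).app M).toLinearEquiv

/-- Termwise tensor product and tilde, on stalks. -/
noncomputable def tildeScIso (x : Spec R) (P : DRing.Cx R) (N : ModuleCat.{u} R) (i : ℤ) :
    ((((Amp.tcx ((tilde.functor R).obj N)).obj ((tcxS R).obj P)).sc i).map (DerSch.stalkFunctor (Spec R) x)) ≅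
      ((((Groth.Agent.DRingPC.tcx N).obj P).sc i).map (tilde.functor R)).map (DerSch.stalkFunctor (Spec R) x) :=
  (P.sc i).mapNatIso (tensorBaseIso x (tilde.functor R) (𝟭 _) (toStk x)
      (tildeStalkIso x ≪≫ (Functor.leftUnitor _).symm) N) ≪≫
    (P.sc i).mapNatIso (Functor.isoWhiskerRight
        (Functor.leftUnitor _ ≪≫ (BraidedCategory.tensorLeftIsoTensorRight N).symm)
        (ModuleCat.extendScalars.{u, u, u} (toStk x)) ≪≫
      Functor.isoWhiskerLeft (tensorLeft N) (tildeStalkIso x).symm)

lemma exactAt_tcx_tilde (P : DRing.Cx R) (N : ModuleCat.{u} R) (i : ℤ)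
    (h : ((Amp.tcx ((tilde.functor R).obj N)).obj ((tcxS R).obj P)).ExactAt i) :
    ((Groth.Agent.DRingPC.tcx N).obj P).ExactAt i := by
  rw [← exactAt_tilde_iff, exactAt_iff_isZero_homology]
  refine isZero_homology_of_stc _ i fun x => ?_
  rw [← exactAt_iff_isZero_homology, exactAt_iff]
  exact (ShortComplex.exact_iff_of_iso (tildeScIso x P N i)).1
    (ShortComplex.Exact.map ((exactAt_iff _ _).1 h) (DerSch.stalkFunctor (Spec R) x))

/-- `(Q P)~ ≅ Q (P~)`. -/
noncomputable def tildeDIso {P : DRing.Cx R} {M : DerivedCategory (ModuleCat.{u} R)}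
    (e : DerivedCategory.Q.obj P ≅ M) : DCoh.toD (Spec R) ((tcxS R).obj P) ≅ (DCoh.tildeD R).obj M :=
  ((tilde.functor R).mapDerivedCategoryFactors.app P).symm ≪≫ (DCoh.tildeD R).mapIso e

lemma isLE_of_tildeD (M : DerivedCategory (ModuleCat.{u} R)) (b : ℤ)
    (h : ∀ i, b < i → IsZero (DCoh.HD ((DCoh.tildeD R).obj M) i)) : M.IsLE b := by
  let P₀ : DRing.Cx R := DerivedCategory.Q.objPreimage M
  let e₀ : DerivedCategory.Q.obj P₀ ≅ M := DerivedCategory.Q.objObjPreimageIso M
  refine (DerivedCategory.isLE_iff _ _).2 fun i hi => ?_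
  have h2 : ((tcxS R).obj P₀).ExactAt i := by
    rw [exactAt_iff_isZero_homology]
    exact (h i hi).of_iso (((DerivedCategory.homologyFunctorFactors (Spec R).Modules i).app _).symm ≪≫
      (DerivedCategory.homologyFunctor (Spec R).Modules i).mapIso (tildeDIso e₀))
  exact ((exactAt_iff_isZero_homology P₀ i).1 ((exactAt_tilde_iff P₀ i).1 h2)).of_iso
    ((DerivedCategory.homologyFunctor (ModuleCat.{u} R) i).mapIso e₀.symm ≪≫
      (DerivedCategory.homologyFunctorFactors (ModuleCat.{u} R) i).app P₀)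

theorem flatAmp_tildeD_iff (M : Dual.D R) (a b : ℤ) :
    DCoh.HasFlatAmplitudeIn a b ((DCoh.tildeD R).obj M) ↔ DRing.HasTorAmplitudeIn R a b M := by
  refine ⟨fun h => ?_, ?_⟩
  · obtain ⟨T, hv, -, ⟨eT⟩⟩ := id h
    have hM : M.IsLE b := isLE_of_tildeD M b fun i hi =>
      ((exactAt_iff_isZero_homology T i).1 (ShortComplex.exact_of_isZero_X₂ (T.sc i) (hv i (Or.inr hi)))).of_iso
        ((DerivedCategory.homologyFunctor (Spec R).Modules i).mapIso eT.symm ≪≫
          (DerivedCategory.homologyFunctorFactors (Spec R).Modules i).app T)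
    obtain ⟨P, hP, hPz, ⟨e⟩⟩ := Groth.Agent.DRingPC.exists_projective_rep R M b
    refine (Groth.Agent.DRingPC.torAmp_iff hP b hPz e a b).2 fun N i hi => ?_
    have hflat : ∀ n, FlatMod.IsFlat (((tcxS R).obj P).X n) :=
      fun n => isFlat_tilde (haveI := hP n; Module.Flat.of_projective)
    have hle : ((tcxS R).obj P).IsStrictlyLE b :=
      (CochainComplex.isStrictlyLE_iff _ b).2 fun n hn => (tilde.functor R).map_isZero (hPz n hn)
    exact exactAt_tcx_tilde P N i
      ((Amp.van_iff _ (scheme_isKFlat_of_boundedAbove _ b hle hflat) (tildeDIso e) i).1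
        (Amp.van_of_flatAmp h _ i hi))
  · rintro ⟨E, hz, hf, ⟨e⟩⟩
    exact ⟨(tcxS R).obj E, fun i hi => (tilde.functor R).map_isZero (hz i hi),
      fun i => isFlat_tilde (hf i), ⟨tildeDIso e⟩⟩

end Groth.Agent.ModGroth.Stalk
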