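import Groth.Agent.ModGroth.PullStalk
import Mathlib.AlgebraicGeometry.Modules.Tilde

/-!
# Stalks of `M~`; tildes of K-flat complexes
-/

universe u

open CategoryTheory CategoryTheory.Limits Opposite TopologicalSpace AlgebraicGeometry HomologicalComplex

attribute [local instance] HasDerivedCategory.standard

namespace Groth.Agent.ModGroth.Stalk

variable {R : CommRingCat.{u}} (x : Spec R)

/-- `R → 𝒪_{Spec R, x}`. -/
noncomputable def toStk : R →+* (Spec R).presheaf.stalk x :=
  ((Scheme.ΓSpecIso R).inv ≫ (Spec R).presheaf.germ ⊤ x trivial).hom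

/-- Global sections of a skyscraper. -/
noncomputable def gammaSec (N : ModuleCat.{u} ((Spec R).presheaf.stalk x)) : ModuleCat.{u} R :=
  moduleSpecΓFunctor.obj ((skyF x).obj N)

lemma gammaSec_smul (N : ModuleCat.{u} ((Spec R).presheaf.stalk x)) (r : R) (s : gammaSec x N) :
    (show PLift (x ∈ (⊤ : (Spec R).Opens)) → N from (r • s : gammaSec x N)) ⟨trivial⟩ =
      toStk x r • (show PLift (x ∈ (⊤ : (Spec R).Opens)) → N from s) ⟨trivial⟩ :=
  rfl

/-- Global sections of a skyscraper are the module, over `R`. -/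
noncomputable def gammaSecEquiv (N : ModuleCat.{u} ((Spec R).presheaf.stalk x)) :
    gammaSec x N ≃ₗ[R] (ModuleCat.restrictScalars (toStk x)).obj N where
  toFun s := (show PLift (x ∈ (⊤ : (Spec R).Opens)) → N from s) ⟨trivial⟩
  map_add' _ _ := rfl
  map_smul' r s := gammaSec_smul x N r s
  invFun n := (show gammaSec x N from fun (_ : PLift (x ∈ (⊤ : (Spec R).Opens))) => (n : N))
  left_inv _ := rfl
  right_inv _ := rfl

/-- Global sections of skyscrapers. -/
noncomputable def gammaSkyIso :
    skyF x ⋙ moduleSpecΓFunctor ≅ ModuleCat.restrictScalars (toStk x) :=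
  NatIso.ofComponents (fun N => (gammaSecEquiv x N).toModuleIso)
    fun g => ModuleCat.hom_ext (LinearMap.ext fun s => rfl)

/-- `(M~)_x ≅ M ⊗_R 𝒪_{Spec R, x}`. -/
noncomputable def tildeStalkIso : tilde.functor R ⋙ DerSch.stalkFunctor (Spec R) x ≅
    ModuleCat.extendScalars.{u, u, u} (toStk x) :=
  Adjunction.leftAdjointUniq
    ((tilde.adjunction.comp (stalkAdj x)).ofNatIsoRight (gammaSkyIso x))
    (ModuleCat.extendRestrictScalarsAdj.{u, u, u} (toStk x))

/-- Tilde of complexes. -/
noncomputable abbrev tcxS (R : CommRingCat.{u}) : DRing.Cx R ⥤ CochainComplex (Spec R).Modules ℤ :=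
  (tilde.functor R).mapHomologicalComplex (ComplexShape.up ℤ)

/-- The same on complexes. -/
noncomputable def tildeStalkCxIso (K : DRing.Cx R) :
    (stc x).obj ((tcxS R).obj K) ≅ (DTen.extCx (toStk x)).obj K :=
  (NatIso.mapHomologicalComplex (tildeStalkIso x) (ComplexShape.up ℤ)).app K

/-- Tildes of K-flat complexes are K-flat. -/
lemma isKFlat_tilde {K : DRing.Cx R} (hK : DRing.IsKFlat R K) : DCoh.IsKFlat ((tcxS R).obj K) :=
  isKFlat_of_stalks _ fun x => KFlat.FlatR.of_iso _ (tildeStalkCxIso x K).symm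
    (KFlat.isKFlat_ext (toStk x) hK)

end Groth.Agent.ModGroth.Stalk
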