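import Groth.Agent.ModGroth.LTensorCx
import Groth.Agent.ModGroth.PullStalk
import Groth.Agent.ModGroth.Amplitude
import Groth.Agent.TriH.DerivedCoproducts

/-!
# Derived pullback and derived tensor product commute with direct sums
-/

universe u v w t

open CategoryTheory CategoryTheory.Limits HomologicalComplex AlgebraicGeometry

attribute [local instance] HasDerivedCategory.standard

namespace Groth.Agent.ModGroth.LSums

section TensL

variable {C : Type w} [Category.{v} C] [Abelian C] (F : C ⥤ C ⥤ C) [F.Additive] [∀ X, (F.obj X).Additive]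
  [∀ K L : CochainComplex C ℤ, HasMapBifunctor K L F (ComplexShape.up ℤ)]

/-- `- ⊗ L` preserves the colimits preserved by each `F.flip.obj X`. -/
lemma preservesColimitsOfShape_tensL {J : Type t} [Category.{t} J] [HasColimitsOfShape J C]
    [∀ X, PreservesColimitsOfShape J (F.flip.obj X)] (L : CochainComplex C ℤ) :
    PreservesColimitsOfShape J (KFlat.tensL F L) where
  preservesColimit {D} := ⟨fun {c} hc => ⟨isColimitOfEval _ _ fun n => by
    refine
      { desc := fun s => mapBifunctorDesc fun p q h =>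
          (isColimitOfPreserves (eval C (ComplexShape.up ℤ) p ⋙ F.flip.obj (L.X q)) hc).desc
            ⟨s.pt, { app := fun j => ιMapBifunctor (D.obj j) L F _ p q n h ≫ s.ι.app j
                     naturality := fun j j' a => ?_ }⟩
        fac := fun s j => mapBifunctor.hom_ext fun p q h => ?_
        uniq := fun s m hm => mapBifunctor.hom_ext fun p q h => ?_ }
    · have := s.w a
      dsimp at this ⊢
      rw [← this]
      simp only [Category.comp_id]
      refine Eq.trans ?_ (congrArg (fun t => ιMapBifunctor (D.obj j) L F _ p q n h ≫ t)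
        (congrArg (fun t => t ≫ s.ι.app j') (KFlat.mapBifunctorMap_f_eq_degL F L (D.map a) n).symm))
      simp only [KFlat.degL]
      erw [ι_mapBifunctorDesc_assoc, Category.assoc]
      rfl
    · refine (congrArg (fun t => ιMapBifunctor (D.obj j) L F _ p q n h ≫ t)
        (congrArg (fun t => t ≫ _) (KFlat.mapBifunctorMap_f_eq_degL F L (c.ι.app j) n))).trans ?_
      simp only [KFlat.degL]
      erw [ι_mapBifunctorDesc_assoc, Category.assoc, ι_mapBifunctorDesc]
      exact (isColimitOfPreserves (eval C (ComplexShape.up ℤ) p ⋙ F.flip.obj (L.X q)) hc).fac _ j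
    · refine (isColimitOfPreserves (eval C (ComplexShape.up ℤ) p ⋙ F.flip.obj (L.X q)) hc).hom_ext fun j => ?_
      erw [ι_mapBifunctorDesc, IsColimit.fac]
      refine Eq.trans ?_ (congrArg (fun t => ιMapBifunctor (D.obj j) L F _ p q n h ≫ t) (hm j))
      refine Eq.trans ?_ (congrArg (fun t => ιMapBifunctor (D.obj j) L F _ p q n h ≫ t ≫ m)
        (KFlat.mapBifunctorMap_f_eq_degL F L (c.ι.app j) n).symm)
      simp only [KFlat.degL]
      erw [ι_mapBifunctorDesc_assoc, Category.assoc]
      rfl⟩⟩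

end TensL

section Generic

variable {A : Type w} [Category.{v} A] {D₁ : Type*} [Category D₁] {B : Type*} [Category B] {D₂ : Type*} [Category D₂]
  (Q₁ : A ⥤ D₁) (Q₂ : B ⥤ D₂) (F : D₁ ⥤ D₂) (T : A ⥤ B) (c : Q₁ ⋙ F ⟶ T ⋙ Q₂)

/-- A derived functor preserves a direct sum computed on good objects. -/
lemma isIso_sigmaDesc {ι : Type t} (C : ι → D₁) [HasCoproduct C] [HasCoproduct fun i => F.obj (C i)]
    (P : ι → A) [HasCoproduct P] (e : ∀ i, Q₁.obj (P i) ≅ C i) [∀ i, IsIso (c.app (P i))] [IsIso (c.app (∐ P))]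
    [PreservesColimit (Discrete.functor P) T]
    (h₁ : IsColimit (Cofan.mk (Q₁.obj (∐ P)) fun i => Q₁.map (Sigma.ι P i)))
    (h₂ : IsColimit (Cofan.mk (Q₂.obj (T.obj (∐ P))) fun i => Q₂.map (T.map (Sigma.ι P i)))) :
    IsIso (Sigma.desc (fun i => F.map (Sigma.ι C i))) := by
  have h₃ : IsColimit (Cofan.mk (F.obj (Q₁.obj (∐ P))) fun i => F.map (Q₁.map (Sigma.ι P i))) :=
    let θ : Discrete.functor (fun i => Q₂.obj (T.obj (P i))) ≅ Discrete.functor (fun i => F.obj (Q₁.obj (P i))) :=
      Discrete.natIso fun i => ((asIso (c.app (P i.as))).symm : Q₂.obj (T.obj (P i.as)) ≅ F.obj (Q₁.obj (P i.as)))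
    let c₂ : Cofan fun i => Q₂.obj (T.obj (P i)) := Cofan.mk (Q₂.obj (T.obj (∐ P))) fun i => Q₂.map (T.map (Sigma.ι P i))
    let c₁ : Cofan fun i => F.obj (Q₁.obj (P i)) := Cofan.mk (F.obj (Q₁.obj (∐ P))) fun i => F.map (Q₁.map (Sigma.ι P i))
    (IsColimit.equivOfNatIsoOfIso θ c₂ c₁
      (Cocone.ext ((asIso (c.app (∐ P))).symm : Q₂.obj (T.obj (∐ P)) ≅ F.obj (Q₁.obj (∐ P))) (fun ⟨i⟩ => by
        change (c.app (P i) ≫ Q₂.map (T.map (Sigma.ι P i))) ≫ inv (c.app (∐ P)) = F.map (Q₁.map (Sigma.ι P i))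
        rw [IsIso.comp_inv_eq]
        exact (c.naturality (Sigma.ι P i)).symm))) h₂
  have h₄ : PreservesColimit (Discrete.functor fun i => Q₁.obj (P i)) F :=
    preservesColimit_of_preserves_colimit_cocone h₁ ((isColimitMapCoconeCofanMkEquiv F _ _).symm h₃)
  have h₅ : PreservesColimit (Discrete.functor C) F :=
    preservesColimit_of_iso_diagram F (Discrete.natIso fun i => e i.as : Discrete.functor (fun i => Q₁.obj (P i)) ≅ Discrete.functor C)
  exact inferInstanceAs (IsIso (sigmaComparison F C))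

end Generic

section Scheme

variable {X Y : Scheme.{u}} {ι : Type u}

lemma hKinj (K : CochainComplex X.Modules ℤ) : ∃ (I : CochainComplex X.Modules ℤ) (f : K ⟶ I),
    I.IsKInjective ∧ QuasiIso f :=
  haveI : IsGrothendieckAbelian.{u} X.Modules := sheaf_isGrothendieckAbelian (ModSite.ringSh X.sheaf)
  let ⟨I, f, h1, h2, _⟩ := TriH.exists_kInjective_resolution K
  ⟨I, f, h1, h2⟩

/-- Direct sums of K-flat complexes are K-flat, on a site. -/
lemma isKFlat_sigma_site {C : Type u} [SmallCategory C] {J : GrothendieckTopology C} {O : Sheaf J CommRingCat.{u}}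
    (P : ι → CochainComplex (ModSite.Mod O) ℤ) [HasCoproduct P] (hP : ∀ i, ModSite.IsKFlat (P i)) :
    ModSite.IsKFlat (∐ P) :=
  KFlat.FlatR.colimit (ModSite.tensorBi O) (Discrete.functor P) fun i => hP i.as

/-- Direct sums of K-flat complexes are K-flat. -/
lemma isKFlat_sigma (P : ι → CochainComplex X.Modules ℤ) [HasCoproduct P] (hP : ∀ i, DCoh.IsKFlat (P i)) :
    DCoh.IsKFlat (∐ P) :=
  isKFlat_sigma_site (O := X.sheaf) P hP

lemma isColimit_Q (P : ι → CochainComplex X.Modules ℤ) [HasCoproduct P]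
    (T : CochainComplex X.Modules ℤ ⥤ CochainComplex Y.Modules ℤ) [PreservesColimit (Discrete.functor P) T] :
    Nonempty (IsColimit (Cofan.mk ((DerivedCategory.Q : _ ⥤ DCoh.D Y).obj (T.obj (∐ P)))
      fun i => (DerivedCategory.Q : _ ⥤ DCoh.D Y).map (T.map (Sigma.ι P i)))) := by
  have : HasCoproduct fun i => T.obj (P i) :=
    HasColimit.mk ⟨_, isColimitCofanMkObjOfIsColimit T P _ (coproductIsCoproduct P)⟩
  have : HasColimitsOfShape (Discrete ι) Y.Modules := inferInstance
  obtain ⟨h⟩ := TriH.isColimit_Q_cofan hKinj fun i => T.obj (P i)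
  let e : (∐ fun i => T.obj (P i)) ≅ T.obj (∐ P) :=
    (coproductIsCoproduct _).coconePointUniqueUpToIso (isColimitCofanMkObjOfIsColimit T P _ (coproductIsCoproduct P))
  exact ⟨h.ofIsoColimit (Cofan.ext (DerivedCategory.Q.mapIso e) fun i => by
    change DerivedCategory.Q.map (Sigma.ι (fun i => T.obj (P i)) i) ≫ DerivedCategory.Q.map e.hom =
      DerivedCategory.Q.map (T.map (Sigma.ι P i))
    rw [← Functor.map_comp]
    exact congrArg _ ((coproductIsCoproduct _).comp_coconePointUniqueUpToIso_hom _ ⟨i⟩))⟩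

lemma lpull_sigma (f : X ⟶ Y) [DCoh.HasLpull f] (C : ι → DCoh.D Y)
    [HasCoproduct C] [HasCoproduct fun i => (DCoh.Lpull f).obj (C i)] :
    IsIso (Sigma.desc (fun i => (DCoh.Lpull f).map (Sigma.ι C i))) := by
  choose P hP _hflat e using fun i => Amp.exists_rep (C i)
  have : HasColimitsOfShape (Discrete ι) Y.Modules := inferInstance
  have : HasCoproduct P := inferInstance
  let c : DerivedCategory.Q ⋙ DCoh.Lpull f ⟶ Stalk.pcx f ⋙ DerivedCategory.Q :=
    DerivedLeft.comparison (hK := ‹DCoh.HasLpull f›) (Scheme.Modules.pullback f)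
  have hc : ∀ K, DCoh.IsKFlat K → IsIso (c.app K) := fun K hK =>
    DerivedLeft.isIso_comparison (hK := ‹DCoh.HasLpull f›) (Stalk.goodInverts_pullback f) hK
  have := fun i => hc _ (hP i)
  have := hc _ (isKFlat_sigma P hP)
  have : PreservesColimitsOfSize.{u, u} (Scheme.Modules.pullback f) :=
    (Scheme.Modules.pullbackPushforwardAdjunction f).leftAdjoint_preservesColimits
  have : PreservesColimitsOfShape (Discrete ι) (Stalk.pcx f) := inferInstance
  obtain ⟨h₁⟩ := isColimit_Q P (𝟭 _)
  obtain ⟨h₂⟩ := isColimit_Q P (Stalk.pcx f)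
  exact isIso_sigmaDesc _ _ (DCoh.Lpull f) (Stalk.pcx f) c C P (fun i => (e i).some) h₁ h₂

lemma lten_sigma (D : CochainComplex X.Modules ℤ) [DCoh.HasLTensorCx D] (C : ι → DCoh.D X)
    [HasCoproduct C] [HasCoproduct fun i => (DCoh.LTensorCx D).obj (C i)] :
    IsIso (Sigma.desc (fun i => (DCoh.LTensorCx D).map (Sigma.ι C i))) := by
  choose P hP _hflat e using fun i => Amp.exists_rep (C i)
  have : HasColimitsOfShape (Discrete ι) X.Modules := inferInstance
  have : HasCoproduct P := inferInstance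
  have := fun i => isIso_ltenCounit D (hP i)
  have := isIso_ltenCounit D (isKFlat_sigma P hP)
  have h0 : ∀ M : X.Modules, PreservesColimitsOfShape (Discrete ι) ((DCoh.tensorBi (X := X)).flip.obj M) :=
    fun M =>
      haveI := tensor_flip_preservesColimits (O := X.sheaf) M
      inferInstanceAs (PreservesColimitsOfShape (Discrete ι) ((ModSite.tensorBi X.sheaf).flip.obj M))
  have : PreservesColimitsOfShape (Discrete ι) ((DCoh.tensorCx (X := X)).flip.obj D) :=
    preservesColimitsOfShape_tensL (DCoh.tensorBi (X := X)) D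
  obtain ⟨h₁⟩ := isColimit_Q P (𝟭 _)
  obtain ⟨h₂⟩ := isColimit_Q P ((DCoh.tensorCx (X := X)).flip.obj D)
  exact isIso_sigmaDesc _ _ (DCoh.LTensorCx D) ((DCoh.tensorCx (X := X)).flip.obj D) (ltenCounit D) C P
    (fun i => (e i).some) h₁ h₂

end Scheme

end Groth.Agent.ModGroth.LSums
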