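import Groth.Agent.ModGroth.Flat
import Mathlib.LinearAlgebra.Pi

/-!
# Tensor products with a module having a basis over an object
-/

universe u

open CategoryTheory CategoryTheory.Limits Opposite MonoidalCategory
open scoped TensorProduct

namespace Groth.Agent.ModGroth.LocBasis

variable {C : Type u} [SmallCategory C] {J : GrothendieckTopology C} {O : Sheaf J CommRingCat.{u}}

lemma isSheaf_val (G : ModSite.Mod O) :
    Presieve.IsSheaf J (((fg O).obj G).presheaf ⋙ forget AddCommGrpCat.{u}) :=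
  (isSheaf_iff_isSheaf_of_type _ _).1
    (Presheaf.isSheaf_comp_of_isSheaf J G.val.presheaf (forget AddCommGrpCat.{u}) G.isSheaf)

lemma eq_zero_of_locally (G : ModSite.Mod O) {W : C} {S : Sieve W} (hS : S ∈ J W)
    (s : ((fg O).obj G).obj (op W))
    (h : ∀ ⦃V : C⦄ (g : V ⟶ W), S g → res ((fg O).obj G) g.op s = 0) : s = 0 :=
  Presieve.IsSeparatedFor.ext ((isSheaf_val G).isSeparated S hS)
    fun V g hg => (h g hg).trans (map_zero (res ((fg O).obj G) g.op)).symm

lemma exists_glue (G : ModSite.Mod O) {W : C} {S : Sieve W} (hS : S ∈ J W)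
    (c : ∀ ⦃V : C⦄ (g : V ⟶ W), S g → ((fg O).obj G).obj (op V))
    (hc : ∀ ⦃V V' : C⦄ (k : V' ⟶ V) (g : V ⟶ W) (hg : S g),
      c (k ≫ g) (S.downward_closed hg k) = res ((fg O).obj G) k.op (c g hg)) :
    ∃ d, ∀ ⦃V : C⦄ (g : V ⟶ W) (hg : S g), res ((fg O).obj G) g.op d = c g hg := by
  let x : Presieve.FamilyOfElements (((fg O).obj G).presheaf ⋙ forget AddCommGrpCat.{u}) S.arrows :=
    fun V g hg => c g hg
  have hx : x.Compatible := (Presieve.compatible_iff_sieveCompatible x).2 fun V V' g k hg => hc k g hg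
  exact ⟨(isSheaf_val G S hS).amalgamate x hx, fun V g hg => (isSheaf_val G S hS).valid_glue hx g hg⟩

/-- A natural family of maps from `G^n` to a sheaf, defined over `U` and locally bijective, is bijective. -/
lemma bijective_of_locally {n : ℕ} (G T : ModSite.Mod O) {U : C}
    (Φ : ∀ (W : C), (W ⟶ U) → ((Fin n → ((fg O).obj G).obj (op W)) →+ ((fg O).obj T).obj (op W)))
    (nat : ∀ {V W : C} (k : V ⟶ W) (h : W ⟶ U) (c : Fin n → ((fg O).obj G).obj (op W)),
      Φ V (k ≫ h) (fun i => res ((fg O).obj G) k.op (c i)) = res ((fg O).obj T) k.op (Φ W h c))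
    (inj : ∀ (W : C) (h : W ⟶ U) (c : Fin n → ((fg O).obj G).obj (op W)), Φ W h c = 0 →
      ∃ S ∈ J W, ∀ ⦃V : C⦄ (g : V ⟶ W), S g → ∀ i, res ((fg O).obj G) g.op (c i) = 0)
    (surj : ∀ (W : C) (h : W ⟶ U) (t : ((fg O).obj T).obj (op W)),
      ∃ S ∈ J W, ∀ ⦃V : C⦄ (g : V ⟶ W), S g → ∃ c, Φ V (g ≫ h) c = res ((fg O).obj T) g.op t)
    (W : C) (h : W ⟶ U) : Function.Bijective (Φ W h) := by
  have hinj : ∀ (W : C) (h : W ⟶ U), Function.Injective (Φ W h) := fun W h =>
    (injective_iff_map_eq_zero _).2 fun c hc => funext fun i => by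
      obtain ⟨S, hS, hS'⟩ := inj W h c hc
      exact eq_zero_of_locally G hS _ fun V g hg => hS' g hg i
  refine ⟨hinj W h, fun t => ?_⟩
  obtain ⟨S, hS, hS'⟩ := surj W h t
  choose c hc using hS'
  have hcomp : ∀ ⦃V V' : C⦄ (k : V' ⟶ V) (g : V ⟶ W) (hg : S g),
      c (k ≫ g) (S.downward_closed hg k) = fun i => res ((fg O).obj G) k.op (c g hg i) := fun V V' k g hg => by
    refine hinj V' ((k ≫ g) ≫ h) ((hc _ _).trans ?_)
    rw [op_comp, res_comp, ← hc g hg, ← nat k (g ≫ h), Category.assoc]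
  have hg : ∀ i, ∃ d, ∀ ⦃V : C⦄ (g : V ⟶ W) (hg : S g), res ((fg O).obj G) g.op d = c g hg i := fun i =>
    exists_glue G hS (fun V g hg => c g hg i) fun V V' k g hg => congrFun (hcomp k g hg) i
  choose d hd using hg
  refine ⟨d, sub_eq_zero.1 (eq_zero_of_locally T hS _ fun V g hg => ?_)⟩
  rw [map_sub, sub_eq_zero, ← nat g h d, ← hc g hg]
  exact congrArg _ (funext fun i => hd i g hg)

/-- `e` is a basis of `E` over `U`. -/
def IsBasis (E : ModSite.Mod O) {U : C} {n : ℕ} (e : Fin n → ((fg O).obj E).obj (op U)) : Prop :=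
  ∀ (W : C) (h : W ⟶ U), Function.Bijective
    (Fintype.linearCombination (O.obj.obj (op W)) (fun i => res ((fg O).obj E) h.op (e i)))

variable (E G : ModSite.Mod O) {U : C} {n : ℕ} (e : Fin n → ((fg O).obj E).obj (op U))

/-- The presheaf tensor product. -/
noncomputable abbrev ptens : PM O := (fg O).obj E ⊗ (fg O).obj G

/-- `g ↦ ∑ eᵢ ⊗ gᵢ` in the presheaf tensor product. -/
noncomputable def psiMap (W : C) (h : W ⟶ U) :
    (Fin n → ((fg O).obj G).obj (op W)) →+
      (((fg O).obj E).obj (op W) ⊗[O.obj.obj (op W)] ((fg O).obj G).obj (op W)) :=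
  AddMonoidHom.mk' (fun g => ∑ i, res ((fg O).obj E) h.op (e i) ⊗ₜ[O.obj.obj (op W)] g i) fun a b => by
    rw [← Finset.sum_add_distrib]
    exact Finset.sum_congr rfl fun i _ => TensorProduct.tmul_add _ _ _

/-- `g ↦ ∑ eᵢ ⊗ gᵢ`. -/
noncomputable def phiMap (W : C) (h : W ⟶ U) :
    (Fin n → ((fg O).obj G).obj (op W)) →+ ((fg O).obj ((sh O).obj (ptens E G))).obj (op W) :=
  ((eta' (ptens E G)).app (op W)).hom.toAddMonoidHom.comp (psiMap E G e W h)

lemma phiMap_apply (W : C) (h : W ⟶ U) (g : Fin n → ((fg O).obj G).obj (op W)) :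
    phiMap E G e W h g = (eta' (ptens E G)).app (op W) (psiMap E G e W h g) := rfl

lemma psiMap_apply (W : C) (h : W ⟶ U) (g : Fin n → ((fg O).obj G).obj (op W)) :
    psiMap E G e W h g = ∑ i, res ((fg O).obj E) h.op (e i) ⊗ₜ[O.obj.obj (op W)] g i := rfl

lemma psiMap_res {V W : C} (k : V ⟶ W) (h : W ⟶ U) (c : Fin n → ((fg O).obj G).obj (op W)) :
    psiMap E G e V (k ≫ h) (fun i => res ((fg O).obj G) k.op (c i)) =
      res (ptens E G) k.op (psiMap E G e W h c) := by
  rw [psiMap_apply, psiMap_apply]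
  refine Eq.symm ((map_sum (res (ptens E G) k.op) _ _).trans (Finset.sum_congr rfl fun i _ => ?_))
  rw [op_comp, res_comp]
  rfl

lemma linearCombination_res {V W : C} (k : V ⟶ W) (h : W ⟶ U) (c : Fin n → O.obj.obj (op W)) :
    res ((fg O).obj E) k.op (Fintype.linearCombination (O.obj.obj (op W))
        (fun i => res ((fg O).obj E) h.op (e i)) c) =
      Fintype.linearCombination (O.obj.obj (op V)) (fun i => res ((fg O).obj E) (k ≫ h).op (e i))
        (fun i => (O.obj.map k.op).hom (c i)) := by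
  rw [Fintype.linearCombination_apply, Fintype.linearCombination_apply, map_sum]
  refine Finset.sum_congr rfl fun i _ => ?_
  rw [res_smul, op_comp, res_comp]

variable {E e}

lemma psiMap_bijective (he : IsBasis E e) (W : C) (h : W ⟶ U) :
    Function.Bijective (psiMap E G e W h) := by
  let b := LinearEquiv.ofBijective _ (he W h)
  let L : ((fg O).obj E).obj (op W) ⊗[O.obj.obj (op W)] ((fg O).obj G).obj (op W) →ₗ[O.obj.obj (op W)]
      (Fin n → ((fg O).obj G).obj (op W)) :=
    TensorProduct.lift (LinearMap.mk₂ _ (fun a g i => b.symm a i • g)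
      (fun a a' g => funext fun i => by simp [add_smul])
      (fun r a g => funext fun i => by simp [smul_smul])
      (fun a g g' => funext fun i => by simp [smul_add])
      (fun r a g => funext fun i => by simp [smul_smul, mul_comm]))
  have hb : ∀ a, a = ∑ i, b.symm a i • res ((fg O).obj E) h.op (e i) := fun a =>
    (b.apply_symm_apply a).symm.trans (Fintype.linearCombination_apply _ _ _)
  have he_i : ∀ i j, b.symm (res ((fg O).obj E) h.op (e i)) j = if i = j then 1 else 0 := fun i j => by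
    have : b (Pi.single i 1) = res ((fg O).obj E) h.op (e i) := by
      exact (Fintype.linearCombination_apply_single _ _ _ _).trans (one_smul _ _)
    rw [← this, LinearEquiv.symm_apply_apply, Pi.single_apply]
    exact if_congr eq_comm rfl rfl
  refine ⟨Function.LeftInverse.injective (g := L) fun g => funext fun j => ?_, fun z => ⟨L z, ?_⟩⟩
  · have : L (psiMap E G e W h g) = ∑ i, L (res ((fg O).obj E) h.op (e i) ⊗ₜ[O.obj.obj (op W)] g i) :=
      by rw [psiMap_apply]; exact map_sum L _ _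
    rw [this, Finset.sum_apply]
    change ∑ i, b.symm (res ((fg O).obj E) h.op (e i)) j • g i = g j
    simp [he_i]
  · induction z with
    | zero => rw [map_zero, map_zero]
    | add x y hx hy => rw [map_add, map_add, hx, hy]
    | tmul a g =>
      change ∑ i, res ((fg O).obj E) h.op (e i) ⊗ₜ[O.obj.obj (op W)] (b.symm a i • g) = _
      conv_rhs => rw [hb a, TensorProduct.sum_tmul]
      exact Finset.sum_congr rfl fun i _ => (TensorProduct.smul_tmul _ _ _).symm

/-- Over `U`, `E ⊗ G` is `G^n`. -/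
theorem phiMap_bijective (he : IsBasis E e) (W : C) (h : W ⟶ U) :
    Function.Bijective (phiMap E G e W h) := by
  obtain ⟨h₁, h₂⟩ := (isLocallyBijective_pmap_iff (eta' (ptens E G))).1 (isIso_sheafify_eta _)
  refine bijective_of_locally G ((sh O).obj (ptens E G)) (phiMap E G e) (fun k h c => ?_) (fun W h c hc => ?_)
    (fun W h t => ?_) W h
  · rw [phiMap_apply, phiMap_apply, psiMap_res]
    exact res_app (eta' (ptens E G)) k.op _
  · refine ⟨_, Presheaf.equalizerSieve_mem J (pmap (eta' (ptens E G))) (psiMap E G e W h c) 0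
      (hc.trans (map_zero _).symm), fun V g hg i => ?_⟩
    have h3 : psiMap E G e V (g ≫ h) (fun i => res ((fg O).obj G) g.op (c i)) = psiMap E G e V (g ≫ h) 0 := by
      rw [psiMap_res, map_zero]
      exact hg.trans (map_zero _)
    exact congrFun ((psiMap_bijective G he V (g ≫ h)).1 h3) i
  · refine ⟨_, Presheaf.imageSieve_mem J (pmap (eta' (ptens E G))) t, fun V g hg => ?_⟩
    obtain ⟨z, hz⟩ := hg
    obtain ⟨c, rfl⟩ := (psiMap_bijective G he V (g ≫ h)).2 z
    exact ⟨c, hz⟩

end Groth.Agent.ModGroth.LocBasis
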