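import Groth.Agent.ModGroth.KFlatSite
import Mathlib.CategoryTheory.Abelian.Refinements

/-!
# Flatness of cokernels in complexes of flat modules with vanishing Tor
-/

universe u

open CategoryTheory CategoryTheory.Limits HomologicalComplex

namespace Groth.Agent.ModGroth

variable {C : Type u} [SmallCategory C] {J : GrothendieckTopology C} {O : Sheaf J CommRingCat.{u}}

/-- Tensoring keeps right exact sequences exact. -/
lemma tR_right_exact (F : ModSite.Mod O) [(tR F).PreservesZeroMorphisms] (S : ShortComplex (ModSite.Mod O))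
    (hS : S.Exact) (he : Epi S.g) : (S.map (tR F)).Exact ∧ Epi ((tR F).map S.g) := by
  have := tR_additive F
  have := tR_preservesFiniteColimits F
  have h := (Functor.preservesFiniteColimits_tfae (tR F)).out 3 1
  exact h.1 inferInstance S ⟨hS, he⟩

lemma tL_right_exact (F : ModSite.Mod O) [(tL F).PreservesZeroMorphisms] (S : ShortComplex (ModSite.Mod O))
    (hS : S.Exact) (he : Epi S.g) : (S.map (tL F)).Exact ∧ Epi ((tL F).map S.g) := by
  have := tL_additive F
  have := tL_preservesFiniteColimits F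
  have h := (Functor.preservesFiniteColimits_tfae (tL F)).out 3 1
  exact h.1 inferInstance S ⟨hS, he⟩

set_option maxHeartbeats 1000000 in
lemma isFlat_cokernel_d (E : CochainComplex (ModSite.Mod O) ℤ) (i j k : ℤ) (hij : i + 1 = j)
    (hjk : j + 1 = k) (hflat : ModSite.IsFlat (E.X k))
    (hex : ∀ Q : ModSite.Mod O,
      ((((ModSite.tensorBi O).flip.obj Q).mapHomologicalComplex (ComplexShape.up ℤ)).obj E).ExactAt j) :
    ModSite.IsFlat (cokernel (E.d j k)) := by
  refine isFlat_of_mono fun A B g hg => ?_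
  suffices h : Mono ((tL (cokernel (E.d j k))).map g) from mono_map_of_iso (tensorSymm _) g
  have := fun F : ModSite.Mod O => tR_additive F
  have := fun F : ModSite.Mod O => tL_additive F
  let c : B ⟶ cokernel g := cokernel.π g
  let S : ShortComplex (ModSite.Mod O) := ShortComplex.mk g c (cokernel.condition g)
  let T : ShortComplex (ModSite.Mod O) := ShortComplex.mk (E.d j k) (cokernel.π (E.d j k)) (cokernel.condition _)
  have hS : S.Exact := S.exact_of_g_is_cokernel (cokernelIsCokernel g)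
  have hT : T.Exact := T.exact_of_g_is_cokernel (cokernelIsCokernel _)
  have hTA : Epi ((tR A).map (cokernel.π (E.d j k))) := (tR_right_exact A T hT inferInstance).2
  have hi : Epi ((tL (E.X i)).map c) := (tL_right_exact (E.X i) S hS (inferInstanceAs (Epi c))).2
  have hk : Mono ((tL (E.X k)).map g) := mono_tL_map hflat g
  have n1 : (tL (E.X k)).map g ≫ (tR B).map (cokernel.π (E.d j k)) =
      (tR A).map (cokernel.π (E.d j k)) ≫ (tL (cokernel (E.d j k))).map g := tensor_comm _ g
  have n2 : (tL (E.X j)).map c ≫ (tR (cokernel g)).map (E.d j k) =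
      (tR B).map (E.d j k) ≫ (tL (E.X k)).map c := tensor_comm _ c
  have n3 : (tL (E.X i)).map c ≫ (tR (cokernel g)).map (E.d i j) =
      (tR B).map (E.d i j) ≫ (tL (E.X j)).map c := tensor_comm _ c
  have n4 : (tL (E.X j)).map g ≫ (tR B).map (E.d j k) =
      (tR A).map (E.d j k) ≫ (tL (E.X k)).map g := tensor_comm _ g
  have z1 : (tL (E.X k)).map g ≫ (tL (E.X k)).map c = 0 :=
    ((tL (E.X k)).map_comp _ _).symm.trans ((congrArg (tL (E.X k)).map (cokernel.condition g)).trans (Functor.map_zero _ _ _))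
  have z2 : (tR B).map (E.d i j) ≫ (tR B).map (E.d j k) = 0 :=
    ((tR B).map_comp _ _).symm.trans ((congrArg (tR B).map (E.d_comp_d i j k)).trans (Functor.map_zero _ _ _))
  have z3 : (tR A).map (E.d j k) ≫ (tR A).map (cokernel.π (E.d j k)) = 0 :=
    ((tR A).map_comp _ _).symm.trans ((congrArg (tR A).map (cokernel.condition (E.d j k))).trans (Functor.map_zero _ _ _))
  have exB : ∀ {U : ModSite.Mod O} (x : U ⟶ (tR B).obj (E.X k)), x ≫ (tR B).map (cokernel.π (E.d j k)) = 0 →
      ∃ (V : ModSite.Mod O) (e : V ⟶ U), Epi e ∧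
        ∃ y : V ⟶ (tR B).obj (E.X j), e ≫ x = y ≫ (tR B).map (E.d j k) :=
    fun x hx => by
      obtain ⟨V, e, he, y, hy⟩ := (tR_right_exact B T hT inferInstance).1.exact_up_to_refinements x hx
      exact ⟨V, e, he, y, hy⟩
  have exQ : ∀ {U : ModSite.Mod O} (x : U ⟶ (tR (cokernel g)).obj (E.X j)),
      x ≫ (tR (cokernel g)).map (E.d j k) = 0 →
      ∃ (V : ModSite.Mod O) (e : V ⟶ U), Epi e ∧
        ∃ y : V ⟶ (tR (cokernel g)).obj (E.X i), e ≫ x = y ≫ (tR (cokernel g)).map (E.d i j) :=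
    fun x hx => by
      obtain ⟨V, e, he, y, hy⟩ := ((exactAt_iff' _ i j k (by simp; omega) (by simp; omega)).1
        (hex (cokernel g))).exact_up_to_refinements x hx
      exact ⟨V, e, he, y, hy⟩
  have exS : ∀ {U : ModSite.Mod O} (x : U ⟶ (tR B).obj (E.X j)), x ≫ (tL (E.X j)).map c = 0 →
      ∃ (V : ModSite.Mod O) (e : V ⟶ U), Epi e ∧
        ∃ y : V ⟶ (tR A).obj (E.X j), e ≫ x = y ≫ (tL (E.X j)).map g :=
    fun x hx => by
      obtain ⟨V, e, he, y, hy⟩ :=
        (tL_right_exact (E.X j) S hS (inferInstanceAs (Epi c))).1.exact_up_to_refinements x hx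
      exact ⟨V, e, he, y, hy⟩
  refine Preadditive.mono_of_cancel_zero _ fun {U} x hx => ?_
  obtain ⟨U1, e1, he1, x1, hx1⟩ := surjective_up_to_refinements_of_epi ((tR A).map (cokernel.π (E.d j k))) x
  obtain ⟨U2, e2, he2, y, hy⟩ := exB (x1 ≫ (tL (E.X k)).map g)
    (by rw [Category.assoc, n1, ← reassoc_of% hx1, hx, comp_zero])
  obtain ⟨U3, e3, he3, z, hz⟩ := exQ (y ≫ (tL (E.X j)).map c)
    (by rw [Category.assoc, n2, ← reassoc_of% hy, z1, comp_zero, comp_zero])
  obtain ⟨U4, e4, he4, z', hz'⟩ := surjective_up_to_refinements_of_epi ((tL (E.X i)).map c) z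
  obtain ⟨U5, e5, he5, y', hy'⟩ := exS (e4 ≫ e3 ≫ y - z' ≫ (tR B).map (E.d i j)) (by
    rw [Preadditive.sub_comp]
    simp only [Category.assoc]
    rw [hz, ← n3, ← reassoc_of% hz', sub_self])
  have key : y' ≫ (tR A).map (E.d j k) = e5 ≫ e4 ≫ e3 ≫ e2 ≫ x1 := by
    rw [← cancel_mono ((tL (E.X k)).map g)]
    simp only [Category.assoc]
    rw [← n4, ← reassoc_of% hy', Preadditive.sub_comp, hy]
    simp only [Category.assoc, z2, comp_zero, sub_zero]
  have h0 : e5 ≫ e4 ≫ e3 ≫ e2 ≫ e1 ≫ x = 0 := by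
    rw [hx1, ← reassoc_of% key, z3, comp_zero]
  rwa [← cancel_epi e1, ← cancel_epi e2, ← cancel_epi e3, ← cancel_epi e4, ← cancel_epi e5,
    comp_zero, comp_zero, comp_zero, comp_zero, comp_zero]

end Groth.Agent.ModGroth
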