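import Groth.Agent.ModGroth.TensorAssoc
import Groth.Agent.ModGroth.LTensorCx
import Groth.Agent.ModGroth.Amplitude
import Mathlib.CategoryTheory.Adjunction.Unique

/-!
# `(- ⊗ᴸ K) ⊗ᴸ L ≅ - ⊗ᴸ (K ⊗ L)`
-/

universe u

open CategoryTheory CategoryTheory.Limits HomologicalComplex AlgebraicGeometry

attribute [local instance] HasDerivedCategory.standard

namespace Groth.Agent.ModGroth

variable {X : Scheme.{u}}

variable (X) in
/-- The associator on a scheme. -/
noncomputable def assocNatIsoS : bifunctorComp₁₂ (DCoh.tensorBi (X := X)) (DCoh.tensorBi (X := X)) ≅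
    bifunctorComp₂₃ (DCoh.tensorBi (X := X)) (DCoh.tensorBi (X := X)) :=
  assocNatIso X.sheaf

lemma hasGood₁₂S (K L M : CochainComplex X.Modules ℤ) :
    HasGoodTrifunctor₁₂Obj (DCoh.tensorBi (X := X)) (DCoh.tensorBi (X := X)) K L M
      (ComplexShape.up ℤ) (ComplexShape.up ℤ) := fun _ j =>
  haveI : PreservesColimitsOfSize.{0, 0} ((DCoh.tensorBi (X := X)).flip.obj (M.X j)) :=
    preservesColimits₀_tR (O := X.sheaf) (M.X j)
  inferInstance

lemma hasGood₂₃S (K L M : CochainComplex X.Modules ℤ) :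
    HasGoodTrifunctor₂₃Obj (DCoh.tensorBi (X := X)) (DCoh.tensorBi (X := X)) K L M
      (ComplexShape.up ℤ) (ComplexShape.up ℤ) (ComplexShape.up ℤ) := fun i _ =>
  haveI : PreservesColimitsOfSize.{0, 0} ((DCoh.tensorBi (X := X)).obj (K.X i)) :=
    preservesColimits₀_tL (O := X.sheaf) (K.X i)
  inferInstance

/-- Tensoring twice on the right, on a scheme. -/
noncomputable def assocTensLS (K L E : CochainComplex X.Modules ℤ)
    (hE : E = ((DCoh.tensorCx (X := X)).obj K).obj L) :
    (DCoh.tensorCx (X := X)).flip.obj K ⋙ (DCoh.tensorCx (X := X)).flip.obj L ≅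
      (DCoh.tensorCx (X := X)).flip.obj E :=
  @gAssocTensL' X.Modules _ _ (DCoh.tensorBi (X := X)) _ _ (assocNatIsoS X) _ hasGood₁₂S hasGood₂₃S
    (DCoh.tensorCx (X := X)) rfl K L E hE

variable (K L E : CochainComplex X.Modules ℤ) (hE : E = ((DCoh.tensorCx (X := X)).obj K).obj L)
  [DCoh.HasLTensorCx K] [DCoh.HasLTensorCx L]

/-- The composite comparison map. -/
noncomputable def compCounit :
    DerivedCategory.Q ⋙ DCoh.LTensorCx K ⋙ DCoh.LTensorCx L ⟶
      DCoh.tensorCxQ E :=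
  (Functor.associator _ _ _).inv ≫ Functor.whiskerRight (ltenCounit K) (DCoh.LTensorCx L) ≫
    (Functor.associator _ _ _).hom ≫
    Functor.whiskerLeft ((DCoh.tensorCx (X := X)).flip.obj K) (ltenCounit L) ≫
    (Functor.associator _ _ _).inv ≫
    Functor.whiskerRight (assocTensLS K L E hE).hom DerivedCategory.Q

lemma isIso_compCounit (hL : DCoh.IsKFlat L) {P : CochainComplex X.Modules ℤ} (hP : DCoh.IsKFlat P) :
    IsIso ((compCounit K L E hE).app P) := by
  have := isIso_ltenCounit K hP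
  have := isIso_ltenCounit_of_flat L hL (((DCoh.tensorCx (X := X)).obj P).obj K)
  have h : (compCounit K L E hE).app P = (DCoh.LTensorCx L).map ((ltenCounit K).app P) ≫
      (ltenCounit L).app (((DCoh.tensorCx (X := X)).obj P).obj K) ≫
      DerivedCategory.Q.map ((assocTensLS K L E hE).hom.app P) := by
    simp only [compCounit, NatTrans.comp_app, Functor.whiskerRight_app, Functor.whiskerLeft_app,
      Functor.associator_inv_app, Functor.associator_hom_app, Category.id_comp]
    rfl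
  rw [h]
  exact @IsIso.comp_isIso _ _ _ _ _ _ _ inferInstance
    (@IsIso.comp_isIso _ _ _ _ _ _ _ this inferInstance)

/-- The derived tensor product is associative. -/
theorem nonempty_ltenComp (hL : DCoh.IsKFlat L)
    [DCoh.HasLTensorCx E] (hE : E = ((DCoh.tensorCx (X := X)).obj K).obj L) :
    Nonempty (DCoh.LTensorCx K ⋙ DCoh.LTensorCx L ≅ DCoh.LTensorCx E) := by
  haveI := isLeftDerived_ltenCounit E
  let Φ : DCoh.LTensorCx K ⋙ DCoh.LTensorCx L ⟶ DCoh.LTensorCx E :=
    (DCoh.LTensorCx E).leftDerivedLift (ltenCounit E)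
      (HomologicalComplex.quasiIso X.Modules (ComplexShape.up ℤ)) _ (compCounit K L E hE)
  have : ∀ Y, IsIso (Φ.app Y) := fun Y => by
    obtain ⟨P, hP, -, ⟨e⟩⟩ := Amp.exists_rep Y
    have h1 := isIso_ltenCounit E hP
    have h2 := isIso_compCounit K L E hE hL hP
    have h3 : Φ.app (DCoh.toD X P) ≫ (ltenCounit E).app P = (compCounit K L E hE).app P :=
      (DCoh.LTensorCx E).leftDerived_fac_app (ltenCounit E)
        (HomologicalComplex.quasiIso X.Modules (ComplexShape.up ℤ)) _ (compCounit K L E hE) P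
    have h4 : IsIso (Φ.app (DCoh.toD X P)) := by
      have : IsIso (Φ.app (DCoh.toD X P) ≫ (ltenCounit E).app P) := h3.symm ▸ h2
      exact IsIso.of_isIso_comp_right _ ((ltenCounit E).app P)
    exact (NatTrans.isIso_app_iff_of_iso Φ e).1 h4
  exact ⟨@asIso _ _ _ _ Φ (NatIso.isIso_of_isIso_app Φ)⟩

/-- `RHom(K ⊗ L, -) ≅ RHom(K, RHom(L, -))`. -/
theorem nonempty_rsheafHomComp (hL : DCoh.IsKFlat L)
    [DCoh.HasLTensorCx E] [DCoh.HasRSheafHom K] [DCoh.HasRSheafHom L] [DCoh.HasRSheafHom E]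
    (hE : E = ((DCoh.tensorCx (X := X)).obj K).obj L) :
    Nonempty (DCoh.RSheafHom E ≅
      DCoh.RSheafHom L ⋙ DCoh.RSheafHom K) := by
  obtain ⟨e⟩ := nonempty_ltenComp K L E hL hE
  exact ⟨((DCoh.RSheafHomAdj _).ofNatIsoLeft e.symm).rightAdjointUniq
    ((DCoh.RSheafHomAdj K).comp (DCoh.RSheafHomAdj L))⟩

end Groth.Agent.ModGroth
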