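import Groth.Agent.ModGroth.LocBasis
import Mathlib.Algebra.Category.ModuleCat.Presheaf.Generator

/-!
# The internal hom out of a module having a basis over an object

The sections of `Hom(F, G)` over an object where `F` has a basis are the families of sections of `G`.
-/

universe u

open CategoryTheory CategoryTheory.Limits Opposite MonoidalCategory
open scoped TensorProduct

namespace Groth.Agent.ModGroth.LocBasis

variable {C : Type u} [SmallCategory C] {J : GrothendieckTopology C} {O : Sheaf J CommRingCat.{u}}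

/-- The free presheaf of modules on an object. -/
noncomputable abbrev freeP (O : Sheaf J CommRingCat.{u}) (U : C) : PM O :=
  (PresheafOfModules.free (O.obj ⋙ forget₂ CommRingCat.{u} RingCat.{u})).obj (yoneda.obj U)

/-- The sections of `freeP`. -/
abbrev FP (O : Sheaf J CommRingCat.{u}) (U W : C) : Type u := (W ⟶ U) →₀ O.obj.obj (op W)

/-- The generator of `freeP` at a morphism. -/
noncomputable def gen {U W : C} (h : W ⟶ U) : FP O U W := Finsupp.single h 1

/-- The restriction maps of `freeP`. -/
noncomputable def resP {U V W : C} (k : V ⟶ W) : FP O U W →+ FP O U V := res (freeP O U) k.op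

lemma resP_gen {U V W : C} (k : V ⟶ W) (h : W ⟶ U) : resP k (gen (O := O) h) = gen (k ≫ h) :=
  ModuleCat.freeDesc_apply _ _

lemma resP_smul {U V W : C} (k : V ⟶ W) (r : O.obj.obj (op W)) (x : FP O U W) :
    resP k (r • x) = (O.obj.map k.op).hom r • resP k x := res_smul (freeP O U) k.op r x

variable (F G : ModSite.Mod O) {U : C} {n : ℕ} (e : Fin n → ((fg O).obj F).obj (op U))

/-- The components of a morphism out of `freeP ⊗ F`, as bilinear maps. -/
noncomputable def appB (φ : freeP O U ⊗ (fg O).obj F ⟶ (fg O).obj G) (W : C) :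
    FP O U W ⊗[O.obj.obj (op W)] ((fg O).obj F).obj (op W) →ₗ[O.obj.obj (op W)] ((fg O).obj G).obj (op W) :=
  (φ.app (op W)).hom

lemma appB_res (φ : freeP O U ⊗ (fg O).obj F ⟶ (fg O).obj G) {V W : C} (k : V ⟶ W) (a : FP O U W)
    (b : ((fg O).obj F).obj (op W)) :
    res ((fg O).obj G) k.op (appB F G φ W (a ⊗ₜ[O.obj.obj (op W)] b)) =
      appB F G φ V (resP k a ⊗ₜ[O.obj.obj (op V)] res ((fg O).obj F) k.op b) :=
  (res_app φ k.op _).symm

/-- Values of a morphism on the standard generators. -/
noncomputable def valuesMap (φ : freeP O U ⊗ (fg O).obj F ⟶ (fg O).obj G) :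
    Fin n → ((fg O).obj G).obj (op U) :=
  fun i => appB F G φ U (gen (𝟙 U) ⊗ₜ[O.obj.obj (op U)] e i)

variable {F e}

lemma mem_span_gen {W : C} (x : FP O U W) :
    x ∈ Submodule.span (O.obj.obj (op W)) (Set.range fun h : W ⟶ U => gen (O := O) h) := by
  induction x using Finsupp.induction_linear with
  | zero => exact zero_mem _
  | add f g hf hg => exact add_mem hf hg
  | single h r =>
    have : (Finsupp.single h r : FP O U W) = r • gen (O := O) h := by
      rw [gen, Finsupp.smul_single, smul_eq_mul, mul_one]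
    exact this ▸ Submodule.smul_mem _ r (Submodule.subset_span ⟨h, rfl⟩)

lemma hom_ext_gen (he : IsBasis F e) {φ φ' : freeP O U ⊗ (fg O).obj F ⟶ (fg O).obj G}
    (h : valuesMap F G e φ = valuesMap F G e φ') : φ = φ' := by
  refine PresheafOfModules.hom_ext fun X => ModuleCat.hom_ext ?_
  obtain ⟨W⟩ := X
  change appB F G φ W = appB F G φ' W
  refine TensorProduct.ext' fun a b => ?_
  have key : ∀ (k : W ⟶ U) i, appB F G φ W (gen k ⊗ₜ[O.obj.obj (op W)] res ((fg O).obj F) k.op (e i)) =
      appB F G φ' W (gen k ⊗ₜ[O.obj.obj (op W)] res ((fg O).obj F) k.op (e i)) := fun k i => by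
    have hg : gen (O := O) k = resP k (gen (O := O) (𝟙 U)) := by rw [resP_gen, Category.comp_id]
    rw [hg, ← appB_res, ← appB_res]
    exact congrArg (res ((fg O).obj G) k.op) (congrFun h i)
  have ha := mem_span_gen (O := O) a
  induction ha using Submodule.span_induction with
  | zero => rw [TensorProduct.zero_tmul, map_zero, map_zero]
  | add x y _ _ hx hy => rw [TensorProduct.add_tmul, map_add, map_add, hx, hy]
  | smul r x _ hx => rw [← TensorProduct.smul_tmul', map_smul, map_smul, hx]
  | mem x hx =>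
    obtain ⟨k, rfl⟩ := hx
    obtain ⟨c, rfl⟩ := (he W k).2 b
    rw [Fintype.linearCombination_apply, TensorProduct.tmul_sum, map_sum, map_sum]
    refine Finset.sum_congr rfl fun i _ => ?_
    rw [TensorProduct.tmul_smul, map_smul, map_smul, key k i]

variable (he : IsBasis F e) (v : Fin n → ((fg O).obj G).obj (op U))

/-- The map sending `eᵢ` to `vᵢ`, over `k : W ⟶ U`. -/
noncomputable def basisLift {W : C} (k : W ⟶ U) :
    ((fg O).obj F).obj (op W) →ₗ[O.obj.obj (op W)] ((fg O).obj G).obj (op W) :=
  Fintype.linearCombination (O.obj.obj (op W)) (fun i => res ((fg O).obj G) k.op (v i)) ∘ₗ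
    (LinearEquiv.ofBijective _ (he W k)).symm.toLinearMap

lemma basisLift_comb {W : C} (k : W ⟶ U) (c : Fin n → O.obj.obj (op W)) :
    basisLift G he v k (Fintype.linearCombination (O.obj.obj (op W))
        (fun i => res ((fg O).obj F) k.op (e i)) c) =
      Fintype.linearCombination (O.obj.obj (op W)) (fun i => res ((fg O).obj G) k.op (v i)) c :=
  congrArg (Fintype.linearCombination (O.obj.obj (op W)) fun i => res ((fg O).obj G) k.op (v i))
    ((LinearEquiv.ofBijective _ (he W k)).symm_apply_apply c)

lemma basisLift_res {V W : C} (l : V ⟶ W) (k : W ⟶ U) (b : ((fg O).obj F).obj (op W)) :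
    res ((fg O).obj G) l.op (basisLift G he v k b) =
      basisLift G he v (l ≫ k) (res ((fg O).obj F) l.op b) := by
  obtain ⟨c, rfl⟩ := (he W k).2 b
  rw [basisLift_comb, linearCombination_res, linearCombination_res, basisLift_comb]

/-- The bilinear map with given values on the generators. -/
noncomputable def liftApp (W : C) :
    FP O U W ⊗[O.obj.obj (op W)] ((fg O).obj F).obj (op W) →ₗ[O.obj.obj (op W)] ((fg O).obj G).obj (op W) :=
  TensorProduct.lift (Finsupp.linearCombination (O.obj.obj (op W)) fun k : W ⟶ U => basisLift G he v k)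

lemma liftApp_gen {W : C} (k : W ⟶ U) (b : ((fg O).obj F).obj (op W)) :
    liftApp G he v W (gen k ⊗ₜ[O.obj.obj (op W)] b) = basisLift G he v k b := by
  rw [liftApp, TensorProduct.lift.tmul, gen, Finsupp.linearCombination_single, one_smul]

lemma liftApp_res {V W : C} (l : V ⟶ W) (a : FP O U W) (b : ((fg O).obj F).obj (op W)) :
    liftApp G he v V (resP l a ⊗ₜ[O.obj.obj (op V)] res ((fg O).obj F) l.op b) =
      res ((fg O).obj G) l.op (liftApp G he v W (a ⊗ₜ[O.obj.obj (op W)] b)) := by
  have ha := mem_span_gen (O := O) a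
  induction ha using Submodule.span_induction with
  | zero => simp only [map_zero, TensorProduct.zero_tmul]
  | add x y _ _ hx hy => simp only [map_add, TensorProduct.add_tmul, hx, hy]
  | smul r x _ hx =>
    rw [resP_smul, ← TensorProduct.smul_tmul', ← TensorProduct.smul_tmul', map_smul, map_smul, res_smul, hx]
  | mem x hx =>
    obtain ⟨k, rfl⟩ := hx
    rw [resP_gen, liftApp_gen, liftApp_gen, basisLift_res]

/-- The morphism with given values on the generators. -/
noncomputable def tensorLift : freeP O U ⊗ (fg O).obj F ⟶ (fg O).obj G where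
  app X := ModuleCat.ofHom (liftApp G he v X.unop)
  naturality {X Y} f := by
    obtain ⟨W⟩ := X
    obtain ⟨V⟩ := Y
    obtain ⟨l, rfl⟩ : ∃ l : V ⟶ W, f = l.op := ⟨f.unop, rfl⟩
    exact ModuleCat.MonoidalCategory.tensor_ext fun a b => liftApp_res G he v l a b

lemma valuesMap_tensorLift : valuesMap F G e (tensorLift G he v) = v := by
  funext i
  change liftApp G he v U (gen (𝟙 U) ⊗ₜ[O.obj.obj (op U)] e i) = v i
  rw [liftApp_gen]
  have h1 : e i = Fintype.linearCombination (O.obj.obj (op U))
      (fun j => res ((fg O).obj F) (𝟙 U).op (e j)) (Pi.single i 1) := by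
    rw [Fintype.linearCombination_apply_single, one_smul, op_id, res_id]
  refine (congrArg (basisLift G he v (𝟙 U)) h1).trans ((basisLift_comb G he v (𝟙 U) _).trans ?_)
  rw [Fintype.linearCombination_apply_single, one_smul, op_id, res_id]

include he in
theorem bijective_valuesMap : Function.Bijective (valuesMap F G e) :=
  ⟨fun _ _ h => hom_ext_gen G he h, fun v => ⟨tensorLift G he v, valuesMap_tensorLift G he v⟩⟩

variable (F) [ModSite.HasSheafHom F]

/-- Evaluation `Hom(F, G) ⊗ F ⟶ G`, on presheaves. -/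
noncomputable def beta : (fg O).obj ((ModSite.sheafHom F).obj G) ⊗ (fg O).obj F ⟶ (fg O).obj G :=
  eta' _ ≫ (fg O).map ((ModSite.sheafHomAdj F).counit.app G)

/-- Morphisms into the internal hom, as morphisms out of tensor products. -/
noncomputable def uncurryP (P : PM O) (σ : P ⟶ (fg O).obj ((ModSite.sheafHom F).obj G)) :
    P ⊗ (fg O).obj F ⟶ (fg O).obj G :=
  σ ▷ (fg O).obj F ≫ beta F G

omit [ModSite.HasSheafHom F] in
variable {F} in
lemma beta_aux {P : PM O} {H G' : ModSite.Mod O} (τ : (sh O).obj P ⟶ H)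
    (c : (sh O).obj ((fg O).obj H ⊗ (fg O).obj F) ⟶ G') :
    eta' (P ⊗ (fg O).obj F) ≫
      (fg O).map ((sh O).map (eta' P ▷ (fg O).obj F) ≫ (sh O).map ((fg O).map τ ▷ (fg O).obj F) ≫ c) =
    (eta' P ≫ (fg O).map τ) ▷ (fg O).obj F ≫ eta' ((fg O).obj H ⊗ (fg O).obj F) ≫ (fg O).map c := by
  rw [← Category.assoc ((sh O).map _), ← (sh O).map_comp, ← comp_whiskerRight, (fg O).map_comp,
    ← Category.assoc, ← eta'_naturality, Category.assoc]

lemma bijective_uncurryP (P : PM O) : Function.Bijective (uncurryP F G P) := by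
  let adj := ModSite.sheafHomAdj F
  have := isIso_sh_whiskerRight_eta' (O := O) P ((fg O).obj F)
  let j : (sh O).obj (P ⊗ (fg O).obj F) ≅ (tR F).obj ((sh O).obj P) :=
    @asIso _ _ _ _ ((sh O).map (eta' P ▷ (fg O).obj F)) this
  let T : (P ⟶ (fg O).obj ((ModSite.sheafHom F).obj G)) ≃ (P ⊗ (fg O).obj F ⟶ (fg O).obj G) :=
    ((adjn O).homEquiv P ((ModSite.sheafHom F).obj G)).symm.trans
      ((adj.homEquiv _ G).symm.trans (j.homFromEquiv.symm.trans ((adjn O).homEquiv _ G)))
  have key : ∀ τ : (sh O).obj P ⟶ (ModSite.sheafHom F).obj G,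
      T ((adjn O).homEquiv P _ τ) = uncurryP F G P ((adjn O).homEquiv P _ τ) := fun τ => by
    change (adjn O).homEquiv _ G (j.hom ≫ (adj.homEquiv _ G).symm
      (((adjn O).homEquiv P _).symm ((adjn O).homEquiv P _ τ))) = _
    rw [Equiv.symm_apply_apply, Adjunction.homEquiv_counit]
    refine ((adjn O).homEquiv_unit _ _ _).trans ?_
    rw [show uncurryP F G P ((adjn O).homEquiv P _ τ) = (adjn O).homEquiv P _ τ ▷ (fg O).obj F ≫ beta F G from rfl, beta]
    erw [(adjn O).homEquiv_unit]
    change eta' (P ⊗ (fg O).obj F) ≫ (fg O).map ((sh O).map (eta' P ▷ (fg O).obj F) ≫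
        (sh O).map ((fg O).map τ ▷ (fg O).obj F) ≫ adj.counit.app G) =
      (eta' P ≫ (fg O).map τ) ▷ (fg O).obj F ≫ eta' _ ≫ (fg O).map (adj.counit.app G)
    exact beta_aux τ (adj.counit.app G)
  have : uncurryP F G P = T := funext fun σ => by
    obtain ⟨τ, rfl⟩ := ((adjn O).homEquiv P ((ModSite.sheafHom F).obj G)).surjective σ
    exact (key τ).symm
  rw [this]
  exact T.bijective

/-- Evaluation of a section of `Hom(F, G)` on sections of `F`. -/
noncomputable def evSec {U : C} (s : ((fg O).obj ((ModSite.sheafHom F).obj G)).obj (op U))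
    (x : ((fg O).obj F).obj (op U)) : ((fg O).obj G).obj (op U) :=
  (beta F G).app (op U) (s ⊗ₜ[O.obj.obj (op U)] x)

lemma evSec_res {U V : C} (k : V ⟶ U) (s : ((fg O).obj ((ModSite.sheafHom F).obj G)).obj (op U))
    (x : ((fg O).obj F).obj (op U)) :
    res ((fg O).obj G) k.op (evSec F G s x) =
      evSec F G (res ((fg O).obj ((ModSite.sheafHom F).obj G)) k.op s) (res ((fg O).obj F) k.op x) :=
  (res_app (beta F G) k.op _).symm

lemma evSec_map {G' : ModSite.Mod O} (g : G ⟶ G') {U : C}
    (s : ((fg O).obj ((ModSite.sheafHom F).obj G)).obj (op U)) (x : ((fg O).obj F).obj (op U)) :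
    evSec F G' (((ModSite.sheafHom F).map g).val.app (op U) s) x = g.val.app (op U) (evSec F G s x) := by
  have h : (fg O).map ((ModSite.sheafHom F).map g) ▷ (fg O).obj F ≫ beta F G' = beta F G ≫ (fg O).map g := by
    have h1 : (tR F).map ((ModSite.sheafHom F).map g) ≫ (ModSite.sheafHomAdj F).counit.app G' =
        (ModSite.sheafHomAdj F).counit.app G ≫ g := (ModSite.sheafHomAdj F).counit.naturality g
    rw [beta, beta, ← Category.assoc, eta'_naturality, Category.assoc, Category.assoc]
    exact congrArg (eta' _ ≫ ·) (((fg O).map_comp _ _).symm.trans ((congrArg (fg O).map h1).trans ((fg O).map_comp _ _)))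
  have h2 := congrArg (fun z : (fg O).obj ((ModSite.sheafHom F).obj G) ⊗ (fg O).obj F ⟶ (fg O).obj G' => z.app (op U)) h
  exact ConcreteCategory.congr_hom h2 (s ⊗ₜ[O.obj.obj (op U)] x)

include he in
/-- **Sections of the internal hom over an object with a basis.** -/
theorem bijective_evSec :
    Function.Bijective (fun (s : ((fg O).obj ((ModSite.sheafHom F).obj G)).obj (op U)) i => evSec F G s (e i)) := by
  let a : ((fg O).obj ((ModSite.sheafHom F).obj G)).obj (op U) ≃
      (freeP O U ⟶ (fg O).obj ((ModSite.sheafHom F).obj G)) := PresheafOfModules.freeYonedaEquiv.symm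
  have h : (fun (s : ((fg O).obj ((ModSite.sheafHom F).obj G)).obj (op U)) i => evSec F G s (e i)) =
      valuesMap F G e ∘ uncurryP F G (freeP O U) ∘ a := funext fun s => funext fun i => by
    show evSec F G s (e i) = (beta F G).app (op U) ((a s).app (op U) (gen (𝟙 U)) ⊗ₜ[O.obj.obj (op U)] e i)
    have : (a s).app (op U) (gen (𝟙 U)) = s := PresheafOfModules.freeYonedaEquiv_symm_app _ _ _
    rw [this]
    rfl
  rw [h]
  exact (bijective_valuesMap G he).comp ((bijective_uncurryP F G _).comp a.bijective)

end Groth.Agent.ModGroth.LocBasis
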