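import Groth.Agent.ModGroth.Basic

/-!
# Presheaves of modules in a universe larger than the one of the rings

If `R` is a presheaf of rings in `Type u`, presheaves of `R`-modules in a larger universe are
equivalent to presheaves of modules over the universe lifting of `R`.
-/

universe u w u' v'

open CategoryTheory Limits

namespace Groth.Agent.ModGroth

variable {C : Type u'} [Category.{v'} C] (R : Cᵒᵖ ⥤ RingCat.{u})

/-- The universe lifting of a presheaf of rings. -/
def uliftRings : Cᵒᵖ ⥤ RingCat.{max u w} where
  obj X := RingCat.of (ULift.{w} (R.obj X))
  map f := RingCat.ofHom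
    ((ULift.ringEquiv.symm.toRingHom.comp (R.map f).hom).comp ULift.ringEquiv.toRingHom)
  map_id X := by ext x; simp
  map_comp f g := by ext x; simp

/-- A presheaf of `R`-modules as a presheaf of modules over the lifted rings. -/
noncomputable def toULiftModules :
    PresheafOfModules.{max u w} R ⥤ PresheafOfModules.{max u w} (uliftRings.{u, w} R) where
  obj M :=
    letI : ∀ X, Module ((uliftRings.{u, w} R).obj X) (M.presheaf.obj X) := fun X =>
      Module.compHom (M.presheaf.obj X)
        (ULift.ringEquiv.toRingHom : ULift.{w} (R.obj X) →+* R.obj X)
    PresheafOfModules.ofPresheaf M.presheaf (fun X Y f r m => by exact M.map_smul f r.down m)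
  map {M N} f := PresheafOfModules.homMk (by exact ((PresheafOfModules.toPresheaf R).map f :))
    (fun X r m => by exact (f.app X).hom.map_smul r.down m)

/-- A presheaf of modules over the lifted rings as a presheaf of `R`-modules. -/
noncomputable def ofULiftModules :
    PresheafOfModules.{max u w} (uliftRings.{u, w} R) ⥤ PresheafOfModules.{max u w} R where
  obj M :=
    letI : ∀ X, Module (R.obj X) (M.presheaf.obj X) := fun X =>
      Module.compHom (M.presheaf.obj X)
        (ULift.ringEquiv.symm.toRingHom : R.obj X →+* (uliftRings.{u, w} R).obj X)
    PresheafOfModules.ofPresheaf M.presheaf (fun X Y f r m => by exact M.map_smul f (ULift.up r) m)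
  map {M N} f := PresheafOfModules.homMk (by exact ((PresheafOfModules.toPresheaf (uliftRings.{u, w} R)).map f :))
    (fun X r m => by exact (f.app X).hom.map_smul (ULift.up r) m)

/-- Presheaves of `R`-modules are presheaves of modules over the lifted rings. -/
noncomputable def uliftModulesEquivalence :
    PresheafOfModules.{max u w} R ≌ PresheafOfModules.{max u w} (uliftRings.{u, w} R) :=
  CategoryTheory.Equivalence.mk (toULiftModules.{u, w} R) (ofULiftModules.{u, w} R)
    (NatIso.ofComponents (fun M =>
      { hom := PresheafOfModules.homMk (𝟙 M.presheaf) (fun _ _ _ => rfl)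
        inv := PresheafOfModules.homMk (𝟙 M.presheaf) (fun _ _ _ => rfl) })
      (fun f => by ext X m; rfl))
    (NatIso.ofComponents (fun M =>
      { hom := PresheafOfModules.homMk (𝟙 M.presheaf) (fun _ _ _ => rfl)
        inv := PresheafOfModules.homMk (𝟙 M.presheaf) (fun _ _ _ => rfl) })
      (fun f => by ext X m; rfl))

end Groth.Agent.ModGroth
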